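import Cfsg.Agent.H876.D3.Main
import Cfsg.Agent.H991.D3.FiveMain

/-!
# `PSU_N(q)`, `N ≥ 4`, in its own characteristic: dimensions at most `12` (helper876)

* **`core_psu`** : `card ι ≤ 12` gives `card ι = N`, or `N = 4`, `card ι = 6` and `SD P`, or `N = 4`, `card ι = 10`
  and `p ≠ 2`, or `N = 5`, `card ι = 10`; `core_psu_five`.
-/

set_option autoImplicit false
set_option linter.unusedSectionVars false

namespace Cfsg.Agent.H876.D3

open Cfsg Cfsg.Geo Matrix
open LieClassical.HermBasic LieClassical.HermSiegel Cfsg.Agent.TitsThree.KSideU Cfsg.Agent.TitsThree.KSideUDesc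
  Cfsg.Agent.TitsThree.WBridge Cfsg.Agent.TitsThree.SiegelGen Cfsg.Agent.TitsThree.Siegel Cfsg.Agent.H61.SUCross
  Cfsg.Agent.TitsThree.WittFrame
open Cfsg.Agent.H915.LD

universe u

variable {ι : Type} [Fintype ι] [DecidableEq ι] {F : Type u} [Field F] [Finite F] {P : Subgroup (GL ι F)}

/-- **`PSU_5(q)` in its own characteristic, dimension at most `12`.** -/
theorem core_psu_five (p : ℕ) [hp : Fact p.Prime] [CharP F p] (K : Type) [Field K] [Fintype K] [CharP K p] {q : ℕ}
    (hn : Fintype.card ι ≤ 12) (hK : Fintype.card K = q ^ 2) (hC : Core P) (Φ : Soc P ≃* PSU 5 K q) :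
    Fintype.card ι = 5 ∨ Fintype.card ι = 10 := by
  obtain ⟨m, W, hm, hW, hev, hodd, k, _, _, _, j, J, θ, hB, hJ, hker, hSD⟩ :=
    H151.D3.setup p K (by norm_num) hK hC Φ
  have hfin : Module.finrank k (ι → k) = Fintype.card ι := Module.finrank_fintype_fun_eq_card k
  have hV0 : W.V0 ≠ ⊥ := by
    intro h
    have := hev h
    omega
  have h1 := dims p (by norm_num) hm W hW hev hodd hB hJ hker (fun _ h1 hθ vv ff h =>
    H991.D3.node1_five p hm W hV0 h hθ h1)
  rw [hfin] at h1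
  rcases h1 with h1 | h1 | h1 | h1 | h1
  · exact Or.inl h1
  · omega
  · omega
  · exact Or.inr h1.2
  · omega

/-- **`PSU_N(q)` in its own characteristic, dimension at most `12`.** -/
theorem core_psu (p : ℕ) [hp : Fact p.Prime] [CharP F p] (K : Type) [Field K] [Fintype K] [CharP K p] {N q : ℕ}
    (hN : 4 ≤ N) (hn : Fintype.card ι ≤ 12) (hK : Fintype.card K = q ^ 2) (hC : Core P)
    (Φ : Soc P ≃* PSU N K q) :
    Fintype.card ι = N ∨ (N = 4 ∧ Fintype.card ι = 6 ∧ SD P) ∨ (N = 4 ∧ Fintype.card ι = 10 ∧ p ≠ 2) ∨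
      (N = 5 ∧ Fintype.card ι = 10) := by
  by_cases hN5 : N = 5
  · subst hN5
    rcases core_psu_five p K hn hK hC Φ with h | h
    · exact Or.inl h
    · exact Or.inr (Or.inr (Or.inr ⟨rfl, h⟩))
  · rcases core_psu' p K hN hN5 hn hK hC Φ with h | h | h
    · exact Or.inl h
    · exact Or.inr (Or.inl h)
    · exact Or.inr (Or.inr (Or.inl h))

end Cfsg.Agent.H876.D3
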