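import Cfsg.Agent.H876.D3.FanNum

/-!
# The natural module (helper876)

* `iso_span` : the isotropic vectors span; `natural` : `θ 0 = p ^ a`, `θ i = 0` for `i > 0` give `dim V = N`.
-/

set_option autoImplicit false
set_option linter.unusedSectionVars false

namespace Cfsg.Agent.H876.D3

open Cfsg Cfsg.Geo Matrix
open LieClassical.HermBasic LieClassical.HermSiegel Cfsg.Agent.TitsThree.KSideU Cfsg.Agent.TitsThree.KSideUDesc
  Cfsg.Agent.TitsThree.WBridge Cfsg.Agent.TitsThree.SiegelGen Cfsg.Agent.TitsThree.Siegel Cfsg.Agent.H61.SUCross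
  Cfsg.Agent.TitsThree.WittFrame
open Cfsg.Agent.Phan (fixedField mem_fixedField card_fixedField)

variable {K : Type} [Field K] [Fintype K] {N q m : ℕ} {hK : Fintype.card K = q ^ 2}

/-- the isotropic vectors span -/
theorem iso_span (hm : 0 < m) (W : WFrame (PU hK N) m) {L : Submodule K (Fin N → K)}
    (hL : ∀ x, x ≠ 0 → hermForm N K q x x = 0 → x ∈ L) : L = ⊤ := by
  have hL' : ∀ x, hermForm N K q x x = 0 → x ∈ L := by
    intro x hx
    by_cases h0 : x = 0
    · rw [h0]; exact zero_mem _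
    · exact hL x h0 hx
  rw [eq_top_iff]
  intro v _
  obtain ⟨a, b, w, hw, rfl⟩ := W.span v
  have hw0 : w ∈ L := by
    have h1 : hermForm N K q w w ^ q = hermForm N K q w w := (herm_swap hK w w).symm
    obtain ⟨μ, hμ⟩ := exists_trace_eq hK (c := -hermForm N K q w w) (by rw [neg_pow_q hK, h1])
    have h2 : hermForm N K q w (W.e ⟨0, hm⟩) = 0 := W.V0e w hw _
    have h3 : hermForm N K q w (W.f ⟨0, hm⟩) = 0 := W.V0f w hw _
    have h2' : hermForm N K q (W.e ⟨0, hm⟩) w = 0 := by rw [herm_swap hK w, h2, zero_pow_q hK]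
    have h3' : hermForm N K q (W.f ⟨0, hm⟩) w = 0 := by rw [herm_swap hK w, h3, zero_pow_q hK]
    have h4 : w + (W.e ⟨0, hm⟩ + μ • W.f ⟨0, hm⟩) ∈ L := by
      refine hL' _ ?_
      simp only [herm_add_left, herm_add_right hK, herm_smul_left, herm_smul_right, h2, h3, h2', h3', h_ee, h_ff,
        h_ef, h_fe, if_true]
      linear_combination hμ
    have h5 : W.e ⟨0, hm⟩ + μ • W.f ⟨0, hm⟩ ∈ L :=
      add_mem (hL' _ (h_ee W _ _)) (Submodule.smul_mem _ _ (hL' _ (h_ff W _ _)))
    exact (Submodule.add_mem_iff_left _ h5).1 h4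
  refine add_mem (add_mem ?_ ?_) hw0
  · exact Submodule.sum_mem _ fun i _ => Submodule.smul_mem _ _ (hL' _ (h_ee W _ _))
  · exact Submodule.sum_mem _ fun i _ => Submodule.smul_mem _ _ (hL' _ (h_ff W _ _))

/-- a semilinear function vanishing on the isotropic vectors -/
theorem semi_zero (hm : 0 < m) (W : WFrame (PU hK N) m) {k : Type*} [Field k] (j : K →+* k) (c : Fin N → k)
    (h : ∀ x, x ≠ 0 → hermForm N K q x x = 0 → ∑ a, j (x a) * c a = 0) : c = 0 := by
  classical
  let L : Submodule K (Fin N → K) :=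
    { carrier := {x | ∑ a, j (x a) * c a = 0}
      zero_mem' := by simp
      add_mem' := fun {x y} hx hy => by
        change ∑ a, j ((x + y) a) * c a = 0
        simp only [Pi.add_apply, map_add, add_mul, Finset.sum_add_distrib]
        rw [hx, hy, add_zero]
      smul_mem' := fun b x hx => by
        change ∑ a, j ((b • x) a) * c a = 0
        have h1 : ∑ a, j ((b • x) a) * c a = j b * ∑ a, j (x a) * c a := by
          rw [Finset.mul_sum]
          exact Finset.sum_congr rfl fun a _ => by rw [Pi.smul_apply, smul_eq_mul, map_mul]; ring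
        rw [h1, hx, mul_zero] }
  have hL : L = ⊤ := iso_span hm W fun x h0 hx => h x h0 hx
  ext a
  have h1 : Pi.single a (1 : K) ∈ L := by rw [hL]; trivial
  have h2 : ∑ b, j ((Pi.single a (1 : K) : Fin N → K) b) * c b = 0 := h1
  rw [Finset.sum_eq_single a] at h2
  · rwa [Pi.single_eq_same, map_one, one_mul] at h2
  · intro b _ hb
    rw [Pi.single_eq_of_ne hb, map_zero, zero_mul]
  · intro h3; exact absurd (Finset.mem_univ _) h3

section Ker

variable {k : Type*} [Field k] {V : Type*} [AddCommGroup V] [Module k V] [FiniteDimensional k V]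
  {j : K →+* k} {θ : Fin m → ℕ} {vv : (Fin m → Fin N → K) → V}
  {ff : (Fin m → Fin N → K) → Module.Dual k V}

theorem natural_one (hm : 0 < m) (W : WFrame (PU hK N) m) (h : IsKer q 1 j θ vv ff)
    (hθ : ∀ i : Fin m, 1 ≤ (i : ℕ) → θ i = 0) (h0 : θ ⟨0, hm⟩ = 1) : Module.finrank k V = N := by
  classical
  have hker : ∀ u u' : Fin m → Fin N → K, ∏ i, j (Gr q i u u') ^ θ i =
      ∑ a : Fin N, j (u ⟨0, hm⟩ a) * jb hK j (u' ⟨0, hm⟩ a) := by
    intro u u'
    rw [prod_one hm hθ, h0, pow_one]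
    unfold hermForm
    rw [map_sum]
    exact Finset.sum_congr rfl fun a _ => by rw [map_mul, jb_apply]
  refine le_antisymm ?_ ?_
  · have h1 := h.finrank_le (α := Fin N) (fun u a => j (u ⟨0, hm⟩ a)) (fun u a => jb hK j (u ⟨0, hm⟩ a))
      (fun u u' _ _ => hker u u')
    rwa [Fintype.card_fin] at h1
  · have : Fintype {x : Fin N → K // x ≠ 0 ∧ hermForm N K q x x = 0} := Fintype.ofFinite _
    have h1 := h.sylvester (X := {x : Fin N → K // x ≠ 0 ∧ hermForm N K q x x = 0})
      (Y := {x : Fin N → K // x ≠ 0 ∧ hermForm N K q x x = 0}) (α := Fin N) (f := fun x _ => x.1)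
      (g := fun x _ => x.1) (fun x => pfr_one hm x.2.2 x.2.1) (fun x => pfr_one hm x.2.2 x.2.1)
      (F := fun x a => j (x.1 a)) (G := fun x a => jb hK j (x.1 a)) (fun x y => hker _ _) (S := ∅) (S' := ∅)
      (fun c hc _ => semi_zero hm W j c fun x h0 hx => hc ⟨x, h0, hx⟩)
      (fun c hc _ => semi_zero hm W (jb hK j) c fun x h0 hx => hc ⟨x, h0, hx⟩)
    simpa using h1

theorem natural (p : ℕ) [hp : Fact p.Prime] [CharP K p] (hm : 0 < m) (W : WFrame (PU hK N) m)
    (h : IsKer q 1 j θ vv ff) (hθ : ∀ i : Fin m, 1 ≤ (i : ℕ) → θ i = 0) {a : ℕ} (h0 : θ ⟨0, hm⟩ = p ^ a) :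
    Module.finrank k V = N := by
  have h' := h.twist a (θ' := fun i => if (i : ℕ) = 0 then 1 else 0) (fun i => by
    by_cases hi : (i : ℕ) = 0
    · have : i = ⟨0, by omega⟩ := Fin.ext hi
      rw [this, h0, if_pos rfl, mul_one]
    · rw [hθ i (by omega), if_neg hi, mul_zero])
  exact natural_one hm W h' (fun i hi => if_neg (by omega)) (by simp)

end Ker

end Cfsg.Agent.H876.D3
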