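import Cfsg.Agent.H876.D3.NodeOneFour
import Cfsg.Agent.H876.D3.Natural
import Cfsg.Agent.H151.D3.Setup

/-!
# `PSU_4(q)` has no module of dimension `5` in its own characteristic (helper876)

* `not_four_five`.
-/

set_option autoImplicit false
set_option linter.unusedSectionVars false

namespace Cfsg.Agent.H876.D3

open Cfsg Cfsg.Geo Matrix
open LieClassical.HermBasic LieClassical.HermSiegel Cfsg.Agent.TitsThree.KSideU Cfsg.Agent.TitsThree.KSideUDesc
  Cfsg.Agent.TitsThree.WBridge Cfsg.Agent.TitsThree.SiegelGen Cfsg.Agent.TitsThree.Siegel Cfsg.Agent.H61.SUCross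
  Cfsg.Agent.TitsThree.WittFrame
open Cfsg.Agent.H915.LD

universe u

section

variable {ι : Type} [Fintype ι] [DecidableEq ι] {F : Type u} [Field F] [Finite F] {P : Subgroup (GL ι F)}

/-- dimensions of the modules of `SU_4(q)`, coarse form -/
theorem four_dims (p : ℕ) [hp : Fact p.Prime] [CharP F p] (K : Type) [Field K] [Fintype K] [CharP K p] {q : ℕ}
    (hK : Fintype.card K = q ^ 2) (hC : Core P) (Φ : Soc P ≃* PSU 4 K q) :
    Fintype.card ι = 4 ∨ Fintype.card ι = 6 ∨ 8 ≤ Fintype.card ι := by
  obtain ⟨m, W, hm, hW, hev, hodd, k, _, _, _, j, J, θ, hB, ⟨i, hi⟩, hker, -⟩ := H151.D3.setup p K le_rfl hK hC Φ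
  have hV0 : W.V0 = ⊥ := by
    by_contra h
    have := hodd h
    omega
  have hm2 : m = 2 := by have := hev hV0; omega
  have hq := two_le_q hK
  have hfin : Module.finrank k (ι → k) = Fintype.card ι := Module.finrank_fintype_fun_eq_card k
  have h2 : ∀ i : Fin m, 2 ≤ (i : ℕ) → θ i = 0 := fun i hi => by have := i.2; omega
  by_cases h0 : θ ⟨0, by omega⟩ = 0
  · have h1 : θ ⟨1, by omega⟩ ≠ 0 := by
      intro h1
      refine hB.pos i hi ?_
      have := i.2
      rcases Nat.eq_zero_or_pos (i : ℕ) with h3 | h3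
      · have : i = ⟨0, by omega⟩ := Fin.ext h3
        rw [this, h0]
      · have : i = ⟨1, by omega⟩ := Fin.ext (by simp only; omega)
        rw [this, h1]
    obtain ⟨vv, ff, h⟩ := hker 2 hm (by omega) h2
    have h3 := node1_four p hm W h (fun i hi => by
      have := i.2
      have : i = ⟨0, by omega⟩ := Fin.ext (by simp only; omega)
      rw [this, h0]) h1 (hB.last hV0 _ (by simp; omega))
    rw [hfin] at h3
    omega
  · by_cases h1 : θ ⟨1, by omega⟩ = 0
    · have hθ : ∀ i : Fin m, 1 ≤ (i : ℕ) → θ i = 0 := fun i hi => by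
        have := i.2
        have : i = ⟨1, by omega⟩ := Fin.ext (by simp only; omega)
        rw [this, h1]
      obtain ⟨vv, ff, h⟩ := hker 1 (by omega) one_pos hθ
      have hlt : θ ⟨0, by omega⟩ < q ^ 2 := by
        have h3 := hB.le ⟨0, by omega⟩
        have h4 : 0 < q ^ 2 := by positivity
        omega
      by_cases h3 : 3 ≤ (Ib p (θ ⟨0, by omega⟩)).card
      · have h4 := fan_three p hm W h hθ h0 hlt h3
        rw [hfin] at h4
        omega
      · have h5 : ∃ a, θ ⟨0, by omega⟩ = p ^ a := by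
          rcases Ib_cases (p := p) h0 with h5 | ⟨h5, -⟩ | ⟨h5, -⟩ | h5
          · exact h5
          all_goals omega
        obtain ⟨a, ha⟩ := h5
        have h4 := natural p (by omega) W h hθ ha
        rw [hfin] at h4
        omega
    · obtain ⟨vv, ff, h⟩ := hker 2 hm (by omega) h2
      have h3 := both_eight hm W h h2 h0 h1
      rw [hfin] at h3
      omega

/-- **`PSU_4(q)` in dimension `5`.** -/
theorem not_four_five (p : ℕ) [hp : Fact p.Prime] [CharP F p] (K : Type) [Field K] [Fintype K] [CharP K p] {q : ℕ}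
    (hn : Fintype.card ι = 5) (hK : Fintype.card K = q ^ 2) (hC : Core P) (Φ : Soc P ≃* PSU 4 K q) : False := by
  have := four_dims p K hK hC Φ
  omega

/-- **`PSU_4(q)` in dimension `7`.** -/
theorem not_four_seven (p : ℕ) [hp : Fact p.Prime] [CharP F p] (K : Type) [Field K] [Fintype K] [CharP K p] {q : ℕ}
    (hn : Fintype.card ι = 7) (hK : Fintype.card K = q ^ 2) (hC : Core P) (Φ : Soc P ≃* PSU 4 K q) : False := by
  have := four_dims p K hK hC Φ
  omega

end

end Cfsg.Agent.H876.D3
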