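import Cfsg.Agent.H876.D3.Flags

/-!
# Pair kernels: numerical consequences (helper876)

* **`pk_cases`** : `13 ≤ dim V`, or after a twist `θ = 1` and `red q κ = 1`, or `p = 3`, `θ = 1` and `red q κ = 2`.
-/

set_option autoImplicit false
set_option linter.unusedSectionVars false

namespace Cfsg.Agent.H876.D3

open Cfsg Cfsg.Geo Matrix
open Cfsg.Agent.Phan (fixedField mem_fixedField card_fixedField)

section

variable {p : ℕ} [hp : Fact p.Prime]

theorem card_Ib_top (f : ℕ) : p ^ f ≤ (Ib p (p ^ f - 1)).card := by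
  induction f with
  | zero => rw [pow_zero, Nat.sub_self, card_Ib_zero]
  | succ f ih =>
    have h1 := card_Ib_mul (p := p) (t := p ^ f - 1) (d := p - 1) (Nat.sub_lt hp.out.pos one_pos)
    have h2 : p * (p ^ f - 1) + (p - 1) = p ^ (f + 1) - 1 := by
      have h3 : 1 ≤ p ^ f := Nat.one_le_pow _ _ hp.out.pos
      have h4 : p * (p ^ f - 1) = p ^ (f + 1) - p := by rw [Nat.mul_sub, mul_one, pow_succ']
      have h5 : p ≤ p ^ (f + 1) := by
        rw [pow_succ']
        exact Nat.le_mul_of_pos_right _ h3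
      have h6 := hp.out.pos
      omega
    rw [h2, Nat.sub_add_cancel hp.out.one_lt.le] at h1
    refine le_trans ?_ h1
    rw [pow_succ']
    exact Nat.mul_le_mul_left _ ih

theorem three_le_of_ne_pow {r : ℕ} (hr : r ≠ 0) (h : ∀ a, r ≠ p ^ a) : 3 ≤ (Ib p r).card := by
  rcases Ib_cases (p := p) hr with ⟨a, ha⟩ | ⟨h5, -⟩ | ⟨h5, -⟩ | h5
  · exact absurd ha (h a)
  all_goals omega

theorem card_two_pow {r : ℕ} (hr : r ≠ 0) (h : (Ib p r).card < 3) : ∃ a, r = p ^ a := by
  by_contra h1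
  push Not at h1
  have := three_le_of_ne_pow hr h1
  omega

/-- consecutive exponents -/
theorem seven_le {r : ℕ} (hr : 1 < r) (h3 : ¬ (p = 3 ∧ r = 2)) : 7 ≤ (Ib p r).card * (Ib p (r + 1)).card := by
  have h2 := two_le_card_Ib (p := p) (θ := r) (by omega)
  have h2' := two_le_card_Ib (p := p) (θ := r + 1) (by omega)
  rcases Ib_cases (p := p) (θ := r) (by omega) with ⟨a, ha⟩ | ⟨h4, h5, a, ha⟩ | ⟨h4, -⟩ | h4
  · have ha0 : 0 < a := by
      rcases Nat.eq_zero_or_pos a with rfl | h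
      · rw [pow_zero] at ha; omega
      · exact h
    have h4 := card_Ib_succ (p := p) ha0
    rw [← ha, add_comm 1 r] at h4
    have : 2 * 4 ≤ (Ib p r).card * (Ib p (r + 1)).card := Nat.mul_le_mul h2 h4
    omega
  · have h6 : 3 ≤ (Ib p (r + 1)).card := by
      refine three_le_of_ne_pow (by omega) fun b hb => ?_
      rcases Nat.eq_zero_or_pos b with rfl | hb0
      · rw [pow_zero] at hb; omega
      rcases Nat.eq_zero_or_pos a with rfl | ha0
      · rw [pow_zero, mul_one] at ha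
        rw [ha] at hb
        have h7 : p ∣ 3 := by rw [show (3 : ℕ) = 2 + 1 from rfl, hb]; exact dvd_pow_self p hb0.ne'
        have h8 := (Nat.prime_dvd_prime_iff_eq hp.out Nat.prime_three).1 h7
        exact h3 ⟨h8, ha⟩
      · have h7 : p ∣ r := by rw [ha]; exact Dvd.dvd.mul_left (dvd_pow_self p ha0.ne') _
        have h8 : p ∣ r + 1 := by rw [hb]; exact dvd_pow_self p hb0.ne'
        have h9 := (Nat.dvd_add_right h7).1 h8
        exact hp.out.one_lt.ne' (Nat.dvd_one.1 h9)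
    have : 3 * 3 ≤ (Ib p r).card * (Ib p (r + 1)).card := Nat.mul_le_mul h4 h6
    omega
  · have : 4 * 2 ≤ (Ib p r).card * (Ib p (r + 1)).card := Nat.mul_le_mul h4 h2'
    omega
  · have : 5 * 2 ≤ (Ib p r).card * (Ib p (r + 1)).card := Nat.mul_le_mul h4 h2'
    omega

theorem Ib_one : Ib p 1 = {0, 1} := by
  ext i
  rw [mem_Ib, Finset.mem_insert, Finset.mem_singleton]
  constructor
  · intro h; omega
  · rintro (rfl | rfl)
    · exact mem_Ib.1 (zero_mem_Ib 1)
    · exact mem_Ib.1 (self_mem_Ib 1)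

theorem Ib_two (h2 : p ≠ 2) : Ib p 2 = {0, 1, 2} := by
  ext i
  rw [mem_Ib, Finset.mem_insert, Finset.mem_insert, Finset.mem_singleton]
  constructor
  · intro h; omega
  · rintro (rfl | rfl | rfl)
    · exact mem_Ib.1 (zero_mem_Ib 2)
    · refine ⟨by norm_num, ?_⟩
      rw [Nat.choose_one_right]
      intro h
      exact h2 ((Nat.prime_dvd_prime_iff_eq hp.out Nat.prime_two).1 h)
    · exact mem_Ib.1 (self_mem_Ib 2)

/-- the exceptional exponents -/
theorem RR_cases {q f κ : ℕ} (hf : q = p ^ f) (hq : 2 ≤ q) (hκ : κ ≠ 0) :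
    7 ≤ RR p q (1 + κ) * RR p q κ ∨ red q κ = 1 ∨ (p = 3 ∧ red q κ = 2) := by
  rw [RR_of_ne hκ, RR_of_ne (by omega : 1 + κ ≠ 0)]
  by_cases h1 : red q κ = 1
  · exact Or.inr (Or.inl h1)
  by_cases h2 : p = 3 ∧ red q κ = 2
  · exact Or.inr (Or.inr h2)
  left
  have h0 := red_ne_zero q κ
  by_cases h3 : red q κ = q - 1
  · have h4 : q ≤ (Ib p (red q κ)).card := by rw [h3, hf]; exact card_Ib_top f
    have h5 := two_le_card_Ib (p := p) (red_ne_zero q (1 + κ))
    have h6 : 4 ≤ q := by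
      by_contra h7
      have h8 : q = 3 := by omega
      have h9 : p ∣ 3 := by
        rw [← h8, hf]
        refine dvd_pow_self p ?_
        rintro rfl
        rw [pow_zero] at hf
        omega
      exact h2 ⟨(Nat.prime_dvd_prime_iff_eq hp.out Nat.prime_three).1 h9, by omega⟩
    have : 2 * 4 ≤ (Ib p (red q (1 + κ))).card * (Ib p (red q κ)).card := Nat.mul_le_mul h5 (h6.trans h4)
    omega
  · have h4 : red q (1 + κ) = red q κ + 1 := by
      rw [add_comm]
      exact red_succ hκ (lt_of_le_of_ne (red_le hq) h3)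
    rw [h4, mul_comm]
    exact seven_le (by omega) h2

end

variable {K : Type} [Field K] [Fintype K] {q : ℕ} {hK : Fintype.card K = q ^ 2}

section

variable {k : Type*} [Field k] {p : ℕ} [hp : Fact p.Prime] [CharP k p] [CharP K p]
variable {V : Type*} [AddCommGroup V] [Module k V] [FiniteDimensional k V] {j : K →+* k} {θ κ : ℕ}
  {vv : (Fin 4 → K) → (Fin 4 → K) → V} {ff : (Fin 4 → K) → (Fin 4 → K) → Module.Dual k V}

theorem parity_RR {e : ℕ} (hp2 : p ≠ 2) (hq : 2 ≤ q) (hodd : Odd q) (he : e ≠ 0) (hev : Even e) : 3 ≤ RR p q e := by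
  rw [RR_of_ne he]
  refine three_le_of_ne_pow (red_ne_zero _ _) fun a ha => ?_
  have h1 := red_modEq (Q := q) he
  have h2 : 2 ∣ q - 1 := by
    obtain ⟨l, hl⟩ := hodd
    exact ⟨l, by omega⟩
  have h3 : red q e ≡ e [MOD 2] := h1.of_dvd h2
  have h4 : Odd (p ^ a) := (hp.out.odd_of_ne_two hp2).pow
  rw [← ha] at h4
  have h5 := Nat.odd_iff.1 h4
  have h6 := Nat.even_iff.1 hev
  unfold Nat.ModEq at h3
  omega

/-- **Two nodes: the numerical part.** -/
theorem pk_cases (hK : Fintype.card K = q ^ 2) {f : ℕ} (hf : q = p ^ f) (h : PK q j θ κ vv ff) (h0 : θ ≠ 0)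
    (hθ : θ < q ^ 2) (hκ : κ ≠ 0) : 13 ≤ Module.finrank k V ∨
      (∃ (j' : K →+* k) (κ' : ℕ), κ' ≠ 0 ∧ red q κ' = 1 ∧ PK q j' 1 κ' vv ff) ∨
      (p = 3 ∧ ∃ (j' : K →+* k) (κ' : ℕ), κ' ≠ 0 ∧ red q κ' = 2 ∧ PK q j' 1 κ' vv ff) := by
  have hq := two_le_q hK
  have hfour : 4 ≤ (Ib p θ).card → 13 ≤ Module.finrank k V := by
    intro h4
    have h1 := flags_bound (p := p) hK h hθ
    have h2 : 4 * (Ib p θ).card ≤ ∑ i ∈ Ib p θ, RR p q (θ - i + κ) * RR p q (i + κ) := by
      rw [mul_comm, ← smul_eq_mul]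
      refine Finset.card_nsmul_le_sum _ _ _ fun i hi => ?_
      exact Nat.mul_le_mul (two_le_RR (p := p) (by omega)) (two_le_RR (p := p) (by omega)) |>.trans' (by norm_num)
    omega
  rcases Ib_cases (p := p) h0 with ⟨a, ha⟩ | ⟨-, hp2, a, ha⟩ | ⟨h4, -⟩ | h4
  · obtain ⟨κ', hκ', h'⟩ := h.twist hK hf a (θ' := 1) (by rw [ha, mul_one]) hκ
    rcases RR_cases (p := p) hf hq hκ' with h1 | h1 | ⟨h1, h2⟩
    · left
      have h2 := flags_bound (p := p) hK h' (by nlinarith)
      rw [Ib_one, Finset.sum_pair (by norm_num)] at h2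
      simp only [Nat.sub_zero, Nat.sub_self, zero_add] at h2
      rw [mul_comm (RR p q κ') (RR p q (1 + κ'))] at h2
      omega
    · exact Or.inr (Or.inl ⟨_, κ', hκ', h1, h'⟩)
    · exact Or.inr (Or.inr ⟨h1, _, κ', hκ', h2, h'⟩)
  · left
    obtain ⟨κ', hκ', h'⟩ := h.twist hK hf a (θ' := 2) (by rw [ha, mul_comm]) hκ
    have hodd : Odd q := by rw [hf]; exact (hp.out.odd_of_ne_two hp2).pow
    have h2 := flags_bound (p := p) hK h' (by
      have h3 : q ≠ 2 := by
        rintro rfl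
        exact absurd hodd (by decide)
      have h4 : 3 ≤ q := by omega
      nlinarith)
    rw [Ib_two hp2, Finset.sum_insert (by simp), Finset.sum_pair (by norm_num)] at h2
    simp only [Nat.sub_zero, Nat.sub_self, zero_add, Nat.reduceSub] at h2
    have e0 := two_le_RR (p := p) (Q := q) (e := κ') hκ'
    have e1 := two_le_RR (p := p) (Q := q) (e := 1 + κ') (by omega)
    have e2 := two_le_RR (p := p) (Q := q) (e := 2 + κ') (by omega)
    rcases Nat.even_or_odd κ' with hev | hev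
    · have e3 := parity_RR (p := p) hp2 hq hodd hκ' hev
      have e4 : 2 * 3 ≤ RR p q (2 + κ') * RR p q κ' := Nat.mul_le_mul e2 e3
      have e5 : 2 * 2 ≤ RR p q (1 + κ') * RR p q (1 + κ') := Nat.mul_le_mul e1 e1
      rw [mul_comm (RR p q κ') (RR p q (2 + κ'))] at h2
      omega
    · have e3 := parity_RR (p := p) hp2 hq hodd (e := 1 + κ') (by omega) (by
        rw [add_comm]
        exact hev.add_one)
      have e4 : 2 * 2 ≤ RR p q (2 + κ') * RR p q κ' := Nat.mul_le_mul e2 e0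
      have e5 : 3 * 3 ≤ RR p q (1 + κ') * RR p q (1 + κ') := Nat.mul_le_mul e3 e3
      rw [mul_comm (RR p q κ') (RR p q (2 + κ'))] at h2
      omega
  · exact Or.inl (hfour h4)
  · exact Or.inl (hfour (by omega))

end

end Cfsg.Agent.H876.D3
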