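import Cfsg.Agent.H876.D3.PairBound

/-!
# The second node for `SU_4(q)`; both nodes: `8 ≤ dim V` (helper876)

* `node1_four` : `N = 4`, `θ 0 = 0`: `dim V = 6` or `15 ≤ dim V`;
* `both_eight` : `θ 0 ≠ 0 ≠ θ 1` (`m = 2`): `8 ≤ dim V`.
-/

set_option autoImplicit false
set_option linter.unusedSectionVars false

namespace Cfsg.Agent.H876.D3

open Cfsg Cfsg.Geo Matrix
open LieClassical.HermBasic LieClassical.HermSiegel Cfsg.Agent.TitsThree.KSideU Cfsg.Agent.TitsThree.KSideUDesc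
  Cfsg.Agent.TitsThree.WBridge Cfsg.Agent.TitsThree.SiegelGen Cfsg.Agent.TitsThree.Siegel Cfsg.Agent.H61.SUCross
  Cfsg.Agent.TitsThree.WittFrame
open Cfsg.Agent.Phan (fixedField mem_fixedField card_fixedField)

variable {K : Type} [Field K] [Fintype K] {N q m : ℕ} {hK : Fintype.card K = q ^ 2}

section Ker

variable {k : Type*} [Field k] {V : Type*} [AddCommGroup V] [Module k V] [FiniteDimensional k V]
  {j : K →+* k} {θ : Fin m → ℕ} {vv : (Fin m → Fin N → K) → V}
  {ff : (Fin m → Fin N → K) → Module.Dual k V}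

/-- standard Plücker coordinates in dimension `4` -/
def plF (x y : Fin 4 → K) : Fin 6 → K :=
  ![x 0 * y 1 - x 1 * y 0, x 0 * y 2 - x 2 * y 0, x 0 * y 3 - x 3 * y 0, x 1 * y 2 - x 2 * y 1,
    x 1 * y 3 - x 3 * y 1, x 2 * y 3 - x 3 * y 2]

theorem le_six {vv : (Fin m → Fin 4 → K) → V} {ff : (Fin m → Fin 4 → K) → Module.Dual k V}
    (hK : Fintype.card K = q ^ 2) (hm : 2 ≤ m) (h : IsKer q 2 j θ vv ff)
    (hθ : ∀ i : Fin m, (i : ℕ) ≠ 1 → θ i = 0) (h1 : θ ⟨1, by omega⟩ = 1) : Module.finrank k V ≤ 6 := by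
  have hs : ∀ a b : K, (a - b) ^ q = a ^ q - b ^ q := fun a b => by
    rw [sub_eq_add_neg, add_pow_q hK, neg_pow_q hK, ← sub_eq_add_neg]
  have h2 := h.finrank_le (α := Fin 6) (fun u b => j (plF (u ⟨0, by omega⟩) (u ⟨1, by omega⟩) b))
    (fun u b => jb hK j (plF (u ⟨0, by omega⟩) (u ⟨1, by omega⟩) b)) (fun u u' _ _ => by
      rw [prod_two hm hθ, h1, pow_one, Gr_one hm]
      simp only [jb_apply]
      simp only [← map_mul]
      rw [← map_sum]
      congr 1
      unfold hermForm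
      simp only [Fin.sum_univ_six, Fin.sum_univ_four, plF, Matrix.cons_val]
      simp only [hs, mul_pow]
      ring)
  rwa [Fintype.card_fin] at h2

/-- **The second node, `N = 4`.** -/
theorem node1_four {vv : (Fin m → Fin 4 → K) → V} {ff : (Fin m → Fin 4 → K) → Module.Dual k V}
    (p : ℕ) [hp : Fact p.Prime] [CharP K p] [CharP k p] (hm : 2 ≤ m) (W : WFrame (PU hK 4) m)
    (h : IsKer q 2 j θ vv ff) (hθ : ∀ i : Fin m, (i : ℕ) ≠ 1 → θ i = 0) (h1θ : θ ⟨1, by omega⟩ ≠ 0)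
    (hle : θ ⟨1, by omega⟩ ≤ q - 1) : Module.finrank k V = 6 ∨ 15 ≤ Module.finrank k V := by
  have h1 := pair_bound p hm W h hθ h1θ
  rw [red_eq h1θ hle] at h1
  set t := θ ⟨1, by omega⟩ with ht
  have h2 := two_le_card_Ib (p := p) h1θ
  by_cases h3 : 3 ≤ (Ib p t).card
  · right
    refine le_trans ?_ h1
    obtain ⟨n, hn⟩ : ∃ n, (Ib p t).card = n + 3 := ⟨(Ib p t).card - 3, by omega⟩
    rw [hn]
    have e1 : (n + 3) * (n + 3) = n * n + 6 * n + 9 := by ring
    have e2 : 0 ≤ n * n := Nat.zero_le _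
    omega
  · left
    have h4 : (Ib p t).card = 2 := by omega
    rw [h4] at h1
    refine le_antisymm ?_ (by omega)
    have h5 : ∃ a, t = p ^ a := by
      rcases Ib_cases (p := p) h1θ with h5 | ⟨h5, -⟩ | ⟨h5, -⟩ | h5
      · exact h5
      all_goals omega
    obtain ⟨a, ha⟩ := h5
    have h' := h.twist a (θ' := fun i => if (i : ℕ) = 1 then 1 else 0) (fun i => by
      by_cases hi : (i : ℕ) = 1
      · have : i = ⟨1, by omega⟩ := Fin.ext hi
        rw [this, ← ht, ha, if_pos rfl, mul_one]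
      · rw [hθ i hi, if_neg hi, mul_zero])
    exact le_six hK hm h' (fun i hi => if_neg hi) (by simp)

theorem prod_both (hm : 2 ≤ m) (hθ : ∀ i : Fin m, 2 ≤ (i : ℕ) → θ i = 0) (u u' : Fin m → Fin N → K) :
    ∏ i, j (Gr q i u u') ^ θ i = j (Gr q ⟨0, by omega⟩ u u') ^ θ ⟨0, by omega⟩ *
      j (Gr q ⟨1, by omega⟩ u u') ^ θ ⟨1, by omega⟩ := by
  classical
  have hne : (⟨0, by omega⟩ : Fin m) ≠ ⟨1, by omega⟩ := fun h => absurd (congrArg Fin.val h) (by simp)
  rw [← Finset.prod_pair (f := fun i => j (Gr q i u u') ^ θ i) hne]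
  refine (Finset.prod_subset (Finset.subset_univ _) fun i _ hi => ?_).symm
  rw [hθ i, pow_zero]
  rw [Finset.mem_insert, Finset.mem_singleton, not_or] at hi
  have h1 : (i : ℕ) ≠ 0 := fun h => hi.1 (Fin.ext h)
  have h2 : (i : ℕ) ≠ 1 := fun h => hi.2 (Fin.ext h)
  omega

/-- **Both nodes.** -/
theorem both_eight (hm : 2 ≤ m) (W : WFrame (PU hK N) m)
    (h : IsKer q 2 j θ vv ff) (hθ : ∀ i : Fin m, 2 ≤ (i : ℕ) → θ i = 0) (h0 : θ ⟨0, by omega⟩ ≠ 0)
    (h1 : θ ⟨1, by omega⟩ ≠ 0) : 8 ≤ Module.finrank k V := by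
  classical
  let i0 : Fin m := ⟨0, by omega⟩
  let i1 : Fin m := ⟨1, by omega⟩
  have hne : i0 ≠ i1 := fun h => absurd (congrArg Fin.val h) (by simp [i0, i1])
  let ps : Bool → Fin m := fun s => if s then i0 else i1
  have hps : ∀ s s', ps s = ps s' ↔ s = s' := by
    intro s s'
    cases s <;> cases s' <;> simp [ps, hne, Ne.symm hne]
  let fl : Bool → Bool × Bool × Bool → Fin m → Fin N → K := fun c x =>
    pr2 ((toFrame W).b (ps x.1, x.2.1 ^^ c)) ((toFrame W).b (ps (!x.1), x.2.2 ^^ c))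
  have hfr : ∀ c x, PFr q 2 (fl c x) := by
    rintro c ⟨s, a, b⟩
    refine pfr_two hm ?_ ?_ ?_ ?_ ?_
    · rw [hb_all, if_neg (by simp)]
    · rw [hb_all, if_neg (by rw [hps]; simp)]
    · rw [hb_all, if_neg (by rw [hps]; simp)]
    · rw [hb_all, if_neg (by simp)]
    · intro x y hxy
      have e1 : hermForm N K q (x • (toFrame W).b (ps s, a ^^ c) + y • (toFrame W).b (ps (!s), b ^^ c))
          ((toFrame W).b (ps s, !(a ^^ c))) = 0 := by rw [hxy]; exact herm_zero_left _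
      have e2 : hermForm N K q (x • (toFrame W).b (ps s, a ^^ c) + y • (toFrame W).b (ps (!s), b ^^ c))
          ((toFrame W).b (ps (!s), !(b ^^ c))) = 0 := by rw [hxy]; exact herm_zero_left _
      rw [herm_add_left, herm_smul_left, herm_smul_left, hb_all, hb_all] at e1 e2
      rw [if_pos ⟨rfl, rfl⟩, if_neg (by rw [hps]; simp)] at e1
      rw [if_neg (by rw [hps]; simp), if_pos ⟨rfl, rfl⟩] at e2
      constructor
      · linear_combination e1
      · linear_combination e2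
  have hRk : Rk (fun x y : Bool × Bool × Bool => if x = y then (1 : k) else 0) 8 := by
    have h2 := Rk.mk (κ := fun x y : Bool × Bool × Bool => if x = y then (1 : k) else 0)
      (α := Bool × Bool × Bool) (fun a => Pi.single a 1) (fun a => Pi.single a 1) (fun a b => by
        rw [bl_single, one_mul, mul_one])
    exact h2
  refine h.le_finrank (f := fl false) (g := fl true) (hfr _) (hfr _) (fun x y => ?_) hRk
  rw [prod_both hm hθ, Gr_zero (by omega), Gr_one hm]
  obtain ⟨s, a, b⟩ := x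
  obtain ⟨s', a', b'⟩ := y
  have e1 : ∀ x y : Fin N → K, pr2 (m := m) x y ⟨0, by omega⟩ = x := fun x y => rfl
  have e2 : ∀ x y : Fin N → K, pr2 (m := m) x y ⟨1, by omega⟩ = y := fun x y => rfl
  simp only [fl, e1, e2, hb_all, hps, Bool.xor_false, Bool.xor_true]
  cases s <;> cases a <;> cases b <;> cases s' <;> cases a' <;> cases b' <;> simp [h0, h1]

end Ker

end Cfsg.Agent.H876.D3
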