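import Cfsg.Agent.H876.D3.NodeZero
import Cfsg.Agent.H876.D3.NodeOneFour
import Cfsg.Agent.H876.D3.FlagsNum
import Cfsg.Agent.H887.D3.ExOne
import Cfsg.Agent.H887.D3.ExTwo
import Cfsg.Agent.H991.D3.Mid
import Cfsg.Agent.H991.D3.Last
import Cfsg.Agent.H151.D3.Setup

/-!
# `PSU_N(q)`, `N ≥ 4`, in its own characteristic: dimensions at most `12` (helper876)

* `two_nodes` : two nodes: `13 ≤ dim V`; `dims` (the case `N = 5`, second node alone, as a hypothesis);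
* **`core_psu'`** : `N ≠ 5`: `card ι ≤ 12` gives `card ι = N`, or `N = 4`, `card ι = 6` and `SD P`, or `N = 4`,
  `card ι = 10` and `p ≠ 2`.
-/

set_option autoImplicit false
set_option linter.unusedSectionVars false

namespace Cfsg.Agent.H876.D3

open Cfsg Cfsg.Geo Matrix
open LieClassical.HermBasic LieClassical.HermSiegel Cfsg.Agent.TitsThree.KSideU Cfsg.Agent.TitsThree.KSideUDesc
  Cfsg.Agent.TitsThree.WBridge Cfsg.Agent.TitsThree.SiegelGen Cfsg.Agent.TitsThree.Siegel Cfsg.Agent.H61.SUCross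
  Cfsg.Agent.TitsThree.WittFrame
open Cfsg.Agent.H915.LD

universe u

section nodes

variable {K : Type} [Field K] [Fintype K] {N q m : ℕ} {hK : Fintype.card K = q ^ 2}
variable {k : Type*} [Field k] {V : Type*} [AddCommGroup V] [Module k V] [FiniteDimensional k V]
  {j : K →+* k} {θ : Fin m → ℕ} {vv : (Fin m → Fin N → K) → V}
  {ff : (Fin m → Fin N → K) → Module.Dual k V}

/-- **Two nodes.** -/
theorem two_nodes (p : ℕ) [hp : Fact p.Prime] [CharP K p] [CharP k p] (W : WFrame (PU hK N) m)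
    (h : IsKer q m j θ vv ff) {a b : Fin m} (hab : a < b) (ha : θ a ≠ 0) (hb : θ b ≠ 0) (hle : θ a < q ^ 2) :
    13 ≤ Module.finrank k V := by
  obtain ⟨f, hf⟩ := exists_f hK p
  obtain ⟨κ, hκ, vv', ff', h'⟩ := exists_pk W h hab hb
  rcases pk_cases (p := p) hK hf h' ha hle hκ with h1 | ⟨j', κ', hκ', hr, h1⟩ | ⟨hp3, j', κ', hκ', hr, h1⟩
  · exact h1
  · have := H887.D3.ex1_pair hK h1 hκ' hr
    omega
  · subst hp3
    exact H887.D3.ex2_pair hK h1 hκ' hr

/-- **The dimensions.** -/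
theorem dims (p : ℕ) [hp : Fact p.Prime] [CharP K p] [CharP k p] (hN : 4 ≤ N) (hm : 2 ≤ m) (W : WFrame (PU hK N) m)
    (hW : Kind W) (hev : W.V0 = ⊥ → N = 2 * m) (hodd : W.V0 ≠ ⊥ → N = 2 * m + 1) {J : Set (Fin m)}
    (hB : Bd W J θ) (hJ : ∃ i, i ∉ J)
    (hker : ∀ r, r ≤ m → 0 < r → (∀ i : Fin m, r ≤ (i : ℕ) → θ i = 0) →
        ∃ (vv : (Fin m → Fin N → K) → V) (ff : (Fin m → Fin N → K) → Module.Dual k V), IsKer q r j θ vv ff)
    (h5 : N = 5 → θ ⟨1, by omega⟩ ≠ 0 → (∀ i : Fin m, (i : ℕ) ≠ 1 → θ i = 0) →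
      ∀ (vv : (Fin m → Fin N → K) → V) (ff : (Fin m → Fin N → K) → Module.Dual k V), IsKer q 2 j θ vv ff →
        Module.finrank k V = 10 ∨ 13 ≤ Module.finrank k V) :
    Module.finrank k V = N ∨ (N = 4 ∧ Module.finrank k V = 6 ∧ W.V0 = ⊥ ∧ ∀ i : Fin m, (i : ℕ) + 1 < m → θ i = 0) ∨
      (N = 4 ∧ Module.finrank k V = 10 ∧ p ≠ 2) ∨ (N = 5 ∧ Module.finrank k V = 10) ∨ 13 ≤ Module.finrank k V := by
  obtain ⟨i, hi⟩ := hJ
  have hθi := hB.pos i hi
  have hlt : ∀ i, θ i < q ^ 2 := by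
    intro i
    have h3 := hB.le i
    have h4 : 0 < q ^ 2 := pow_pos (by have := two_le_q hK; omega) _
    omega
  by_cases huniq : ∃ i', i' ≠ i ∧ θ i' ≠ 0
  · obtain ⟨i', hne, hi'⟩ := huniq
    obtain ⟨vv, ff, h⟩ := hker m le_rfl (by omega) (fun i hi => absurd i.2 (by omega))
    right; right; right; right
    rcases lt_or_gt_of_ne hne with h3 | h3
    · exact two_nodes p W h h3 hi' hθi (hlt _)
    · exact two_nodes p W h h3 hθi hi' (hlt _)
  push Not at huniq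
  obtain ⟨vv, ff, h⟩ := hker (i + 1) (by have := i.2; omega) (by omega) (fun i' hi' => huniq i' (by
    rintro rfl
    omega))
  rcases Nat.eq_zero_or_pos (i : ℕ) with h0 | h0
  · have hi0 : i = ⟨0, by omega⟩ := Fin.ext h0
    rw [h0] at h
    have hθ : ∀ i' : Fin m, 1 ≤ (i' : ℕ) → θ i' = 0 := fun i' h1 => huniq i' (by
      rintro rfl
      omega)
    rcases node0 p hN hm W h hθ (hi0 ▸ hθi) (hlt _) with h1 | h1 | h1
    · exact Or.inl h1
    · exact Or.inr (Or.inr (Or.inl h1))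
    · exact Or.inr (Or.inr (Or.inr (Or.inr h1)))
  by_cases h2 : (i : ℕ) + 1 < m
  · exact Or.inr (Or.inr (Or.inr (Or.inr (H991.D3.node_mid (W := W) h h0 h2 hθi huniq))))
  by_cases h3 : 2 ≤ (i : ℕ)
  · exact Or.inr (Or.inr (Or.inr (Or.inr (H991.D3.node_last (W := W) h h3 hθi huniq))))
  have hi1 : (i : ℕ) = 1 := by omega
  have hi1' : i = ⟨1, by omega⟩ := Fin.ext hi1
  have hm2 : m = 2 := by omega
  rw [hi1] at h
  have hθ : ∀ i' : Fin m, (i' : ℕ) ≠ 1 → θ i' = 0 := fun i' h1 => huniq i' (by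
    rintro rfl
    exact h1 hi1)
  by_cases hV0 : W.V0 = ⊥
  · have hN4 : N = 4 := by rw [hev hV0, hm2]
    subst hN4
    rcases node1_four p hm W h hθ (hi1' ▸ hθi) (hB.last hV0 _ (by simp; omega)) with h1 | h1
    · exact Or.inr (Or.inl ⟨rfl, h1, hV0, fun i' h1 => hθ i' (by omega)⟩)
    · exact Or.inr (Or.inr (Or.inr (Or.inr (by omega))))
  · have hN5 : N = 5 := by rw [hodd hV0, hm2]
    rcases h5 hN5 (hi1' ▸ hθi) hθ vv ff h with h1 | h1
    · exact Or.inr (Or.inr (Or.inr (Or.inl ⟨hN5, h1⟩)))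
    · exact Or.inr (Or.inr (Or.inr (Or.inr h1)))

end nodes

section core

variable {ι : Type} [Fintype ι] [DecidableEq ι] {F : Type u} [Field F] [Finite F] {P : Subgroup (GL ι F)}

/-- **`PSU_N(q)` in its own characteristic, dimension at most `12`, `N ≠ 5`.** -/
theorem core_psu' (p : ℕ) [hp : Fact p.Prime] [CharP F p] (K : Type) [Field K] [Fintype K] [CharP K p] {N q : ℕ}
    (hN : 4 ≤ N) (hN5 : N ≠ 5) (hn : Fintype.card ι ≤ 12) (hK : Fintype.card K = q ^ 2) (hC : Core P)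
    (Φ : Soc P ≃* PSU N K q) :
    Fintype.card ι = N ∨ (N = 4 ∧ Fintype.card ι = 6 ∧ SD P) ∨ (N = 4 ∧ Fintype.card ι = 10 ∧ p ≠ 2) := by
  obtain ⟨m, W, hm, hW, hev, hodd, k, _, _, _, j, J, θ, hB, hJ, hker, hSD⟩ := H151.D3.setup p K hN hK hC Φ
  have hfin : Module.finrank k (ι → k) = Fintype.card ι := Module.finrank_fintype_fun_eq_card k
  have h1 := dims p hN hm W hW hev hodd hB hJ hker (fun h => absurd h hN5)
  rw [hfin] at h1
  rcases h1 with h1 | ⟨h1, h2, h3, h4⟩ | h1 | h1 | h1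
  · exact Or.inl h1
  · exact Or.inr (Or.inl ⟨h1, h2, hSD h3 h4⟩)
  · exact Or.inr (Or.inr h1)
  · exact absurd h1.1 hN5
  · omega

/-- `PSU_4(q)` in its own characteristic -/
theorem core_psu_four (p : ℕ) [hp : Fact p.Prime] [CharP F p] (K : Type) [Field K] [Fintype K] [CharP K p] {q : ℕ}
    (hn : Fintype.card ι ≤ 12) (hK : Fintype.card K = q ^ 2) (hC : Core P) (Φ : Soc P ≃* PSU 4 K q) :
    Fintype.card ι = 4 ∨ (Fintype.card ι = 6 ∧ SD P) ∨ (Fintype.card ι = 10 ∧ p ≠ 2) := by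
  rcases core_psu' p K le_rfl (by norm_num) hn hK hC Φ with h | h | h
  · exact Or.inl h
  · exact Or.inr (Or.inl h.2)
  · exact Or.inr (Or.inr h.2)

/-- `PSU_N(q)`, `N ≥ 6`, in its own characteristic -/
theorem core_psu_six (p : ℕ) [hp : Fact p.Prime] [CharP F p] (K : Type) [Field K] [Fintype K] [CharP K p] {N q : ℕ}
    (hN : 6 ≤ N) (hn : Fintype.card ι ≤ 12) (hK : Fintype.card K = q ^ 2) (hC : Core P)
    (Φ : Soc P ≃* PSU N K q) : Fintype.card ι = N := by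
  rcases core_psu' p K (by omega) (by omega) hn hK hC Φ with h | h | h
  · exact h
  · omega
  · omega

end core

end Cfsg.Agent.H876.D3
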