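import Cfsg.Agent.H876.D3.Rank

/-!
# Graded kernels with two branches (helper876)

* `bl_branch`; `Rk.double`.
-/

set_option autoImplicit false
set_option linter.unusedSectionVars false

namespace Cfsg.Agent.H876.D3

section

variable {k : Type*} [Field k] {X Y B : Type*} [Fintype X] [Fintype Y] [Fintype B] [DecidableEq B]

theorem bl_branch (κ : B × X → B × Y → k) (b b' : B) (P : X → k) (Q : Y → k) :
    bl κ (fun z => if z.1 = b then P z.2 else 0) (fun w => if w.1 = b' then Q w.2 else 0) =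
      bl (fun x y => κ (b, x) (b', y)) P Q := by
  unfold bl
  rw [Fintype.sum_prod_type, Finset.sum_eq_single b]
  · refine Finset.sum_congr rfl fun x _ => ?_
    rw [Fintype.sum_prod_type, Finset.sum_eq_single b']
    · refine Finset.sum_congr rfl fun y _ => ?_
      simp only [if_true]
    · intro c _ hc
      refine Finset.sum_eq_zero fun y _ => ?_
      simp only [if_neg hc, mul_zero]
    · intro h; exact absurd (Finset.mem_univ _) h
  · intro c _ hc
    refine Finset.sum_eq_zero fun x _ => Finset.sum_eq_zero fun y _ => ?_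
    simp only [if_neg hc, zero_mul]
  · intro h; exact absurd (Finset.mem_univ _) h

variable {T : Type*} [Fintype T] {τ τ' : T → k}

/-- the pairing of the components of degrees `c`, `c'` -/
theorem bl_graded {A B : ℕ → T → k} (hA : ∀ i < Fintype.card T, ∀ j < Fintype.card T, ∑ t, A i t * τ t ^ j = if i = j then 1 else 0)
    (hB : ∀ i < Fintype.card T, ∀ j < Fintype.card T, ∑ t, B i t * τ' t ^ j = if i = j then 1 else 0)
    {S : Finset ℕ} (hS : ∀ c ∈ S, c < Fintype.card T) {κ : T × X → T × Y → k} {κc : ℕ → X → Y → k}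
    (h : ∀ l x l' y, κ (l, x) (l', y) = ∑ c ∈ S, τ l ^ c * τ' l' ^ c * κc c x y) {c c' : ℕ} (hc : c < Fintype.card T)
    (hc' : c' < Fintype.card T) (P : X → k) (Q : Y → k) :
    bl κ (fun z => A c z.1 * P z.2) (fun w => B c' w.1 * Q w.2) =
      if c = c' ∧ c ∈ S then bl (κc c) P Q else 0 := by
  classical
  have hκ : κ = fun z w => ∑ c ∈ S, (fun (l l' : T) => τ l ^ c * τ' l' ^ c) z.1 w.1 * κc c z.2 w.2 := by
    ext ⟨l, x⟩ ⟨l', y⟩
    exact h l x l' y
  have hbl : ∀ d ∈ S, bl (fun (l l' : T) => τ l ^ d * τ' l' ^ d) (A c) (B c') =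
      if c = d ∧ c' = d then 1 else 0 := by
    intro d hd
    have e1 : bl (fun (l l' : T) => τ l ^ d * τ' l' ^ d) (A c) (B c') =
        (∑ l, A c l * τ l ^ d) * ∑ l', B c' l' * τ' l' ^ d := by
      unfold bl
      rw [Finset.sum_mul_sum]
      exact Finset.sum_congr rfl fun x _ => Finset.sum_congr rfl fun y _ => by ring
    rw [e1, hA c hc d (hS d hd), hB c' hc' d (hS d hd)]
    by_cases h1 : c = d <;> by_cases h2 : c' = d <;> simp [h1, h2]
  have hterm : ∀ d ∈ S, bl (fun (z : T × X) (w : T × Y) => (fun (l l' : T) => τ l ^ d * τ' l' ^ d) z.1 w.1 *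
      κc d z.2 w.2) (fun z => A c z.1 * P z.2) (fun z => B c' z.1 * Q z.2) =
      (if c = d ∧ c' = d then 1 else 0) * bl (κc d) P Q := fun d hd =>
    (bl_prod (fun (l l' : T) => τ l ^ d * τ' l' ^ d) (κc d) (A c) P (B c') Q).trans (by rw [hbl d hd])
  rw [hκ, bl_kernel_sum, Finset.sum_congr rfl hterm]
  by_cases h1 : c = c' ∧ c ∈ S
  · obtain ⟨rfl, h2⟩ := h1
    rw [if_pos ⟨rfl, h2⟩, Finset.sum_eq_single c]
    · simp only [and_self, if_true, one_mul]
    · intro d _ hd
      rw [if_neg (fun h3 => hd h3.1.symm), zero_mul]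
    · intro h3; exact absurd h2 h3
  · rw [if_neg h1]
    refine Finset.sum_eq_zero fun d hd => ?_
    rw [if_neg, zero_mul]
    rintro ⟨rfl, rfl⟩
    exact h1 ⟨rfl, hd⟩

/-- **Graded kernels with two branches sharing the degree `0`.** -/
theorem Rk.double (hτ : Function.Injective τ) (hτ' : Function.Injective τ') {S : Finset ℕ}
    (hS : ∀ c ∈ S, c < Fintype.card T) (hT : 0 < Fintype.card T) {κ : Bool × (T × X) → Bool × (T × Y) → k}
    {κc : ℕ → X → Y → k}
    (h : ∀ b l x l' y, κ (b, l, x) (b, l', y) = ∑ c ∈ S, τ l ^ c * τ' l' ^ c * κc c x y)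
    (h' : ∀ b b', b ≠ b' → ∀ l x l' y, κ (b, l, x) (b', l', y) = κc 0 x y) {n : ℕ → ℕ}
    (hn : ∀ c ∈ S, Rk (κc c) (n c)) : Rk κ (∑ c ∈ S, n c + ∑ c ∈ S.erase 0, n c) := by
  classical
  obtain ⟨A, hA⟩ := exists_dual_pow τ hτ
  obtain ⟨B, hB⟩ := exists_dual_pow τ' hτ'
  choose P Q hPQ using fun c : S => hn c.1 c.2
  have hsame : ∀ (b : Bool) (c c' : ℕ) (hc : c ∈ S) (hc' : c' ∈ S) (i : Fin (n c)) (j : Fin (n c')),
      bl κ (fun z => if z.1 = b then A c z.2.1 * P ⟨c, hc⟩ i z.2.2 else 0)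
        (fun w => if w.1 = b then B c' w.2.1 * Q ⟨c', hc'⟩ j w.2.2 else 0) =
      if c = c' then bl (κc c) (P ⟨c, hc⟩ i) (Q ⟨c', hc'⟩ j) else 0 := by
    intro b c c' hc hc' i j
    rw [bl_branch κ b b (fun z => A c z.1 * P ⟨c, hc⟩ i z.2) (fun w => B c' w.1 * Q ⟨c', hc'⟩ j w.2),
      bl_graded hA hB hS (κ := fun x y => κ (b, x) (b, y)) (κc := κc) (fun l x l' y => h b l x l' y) (hS c hc)
        (hS c' hc')]
    simp only [hc, and_true]
  have hdiff : ∀ (b b' : Bool) (hb : b ≠ b') (c c' : ℕ) (hc : c ∈ S) (hc' : c' ∈ S) (i : Fin (n c)) (j : Fin (n c')),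
      ¬ (c = 0 ∧ c' = 0) →
      bl κ (fun z => if z.1 = b then A c z.2.1 * P ⟨c, hc⟩ i z.2.2 else 0)
        (fun w => if w.1 = b' then B c' w.2.1 * Q ⟨c', hc'⟩ j w.2.2 else 0) = 0 := by
    intro b b' hb c c' hc hc' i j h0
    rw [bl_branch κ b b' (fun z => A c z.1 * P ⟨c, hc⟩ i z.2) (fun w => B c' w.1 * Q ⟨c', hc'⟩ j w.2),
      bl_graded hA hB (S := {0}) (fun c hc => by rw [Finset.mem_singleton.1 hc]; exact hT)
        (κ := fun x y => κ (b, x) (b', y)) (κc := κc) (fun l x l' y => by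
          rw [Finset.sum_singleton, pow_zero, pow_zero, one_mul, one_mul]
          exact h' b b' hb l x l' y) (hS c hc) (hS c' hc'), if_neg]
    rintro ⟨rfl, h1⟩
    exact h0 ⟨Finset.mem_singleton.1 h1, Finset.mem_singleton.1 h1⟩
  let α := (c : S) × Fin (n c.1)
  let β := (c : {c : S // c.1 ≠ 0}) × Fin (n c.1.1)
  have key := Rk.mk (κ := κ) (α := α ⊕ β)
    (Sum.elim (fun a z => if z.1 = false then A a.1 z.2.1 * P a.1 a.2 z.2.2 else 0)
      (fun a z => if z.1 = true then A a.1.1 z.2.1 * P a.1.1 a.2 z.2.2 else 0))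
    (Sum.elim (fun a z => if z.1 = false then B a.1 z.2.1 * Q a.1 a.2 z.2.2 else 0)
      (fun a z => if z.1 = true then B a.1.1 z.2.1 * Q a.1.1 a.2 z.2.2 else 0)) (by
      rintro (⟨c, i⟩ | ⟨⟨c, hc0⟩, i⟩) (⟨c', j⟩ | ⟨⟨c', hc0'⟩, j⟩)
      · change bl κ (fun z => if z.1 = false then A c z.2.1 * P c i z.2.2 else 0)
          (fun z => if z.1 = false then B c' z.2.1 * Q c' j z.2.2 else 0) = _
        rw [hsame false c.1 c'.1 c.2 c'.2 i j]
        by_cases h1 : c = c'
        · subst h1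
          rw [if_pos rfl, hPQ c i j]
          refine if_congr ⟨fun h => by rw [h], fun h => ?_⟩ rfl rfl
          exact eq_of_heq (Sigma.mk.inj (Sum.inl_injective h)).2
        · rw [if_neg (fun h2 => h1 (Subtype.ext h2)), if_neg]
          intro h2
          exact h1 (congrArg Sigma.fst (Sum.inl_injective h2))
      · change bl κ (fun z => if z.1 = false then A c z.2.1 * P c i z.2.2 else 0)
          (fun z => if z.1 = true then B c' z.2.1 * Q c' j z.2.2 else 0) = _
        rw [hdiff false true (by simp) c.1 c'.1 c.2 c'.2 i j (fun h1 => hc0' h1.2), if_neg (by simp)]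
      · change bl κ (fun z => if z.1 = true then A c z.2.1 * P c i z.2.2 else 0)
          (fun z => if z.1 = false then B c' z.2.1 * Q c' j z.2.2 else 0) = _
        rw [hdiff true false (by simp) c.1 c'.1 c.2 c'.2 i j (fun h1 => hc0 h1.1), if_neg (by simp)]
      · change bl κ (fun z => if z.1 = true then A c z.2.1 * P c i z.2.2 else 0)
          (fun z => if z.1 = true then B c' z.2.1 * Q c' j z.2.2 else 0) = _
        rw [hsame true c.1 c'.1 c.2 c'.2 i j]
        by_cases h1 : c = c'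
        · subst h1
          rw [if_pos rfl, hPQ c i j]
          refine if_congr ⟨fun h => by rw [h], fun h => ?_⟩ rfl rfl
          exact eq_of_heq (Sigma.mk.inj (Sum.inr_injective h)).2
        · rw [if_neg (fun h2 => h1 (Subtype.ext h2)), if_neg]
          intro h2
          have h3 := Sum.inr_injective h2
          exact h1 (congrArg (fun a : β => a.1.1) h3))
  have hα : Fintype.card α = ∑ c ∈ S, n c := by
    rw [Fintype.card_sigma]
    simp only [Fintype.card_fin]
    exact Finset.sum_coe_sort S n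
  have hβ : Fintype.card β = ∑ c ∈ S.erase 0, n c := by
    rw [Fintype.card_sigma]
    simp only [Fintype.card_fin]
    rw [← Finset.sum_coe_sort (S.erase 0) n]
    refine Fintype.sum_equiv ⟨fun c => ⟨c.1.1, Finset.mem_erase.2 ⟨c.2, c.1.2⟩⟩,
      fun c => ⟨⟨c.1, Finset.mem_of_mem_erase c.2⟩, Finset.ne_of_mem_erase c.2⟩, fun _ => rfl, fun _ => rfl⟩ _ _ ?_
    intro c
    rfl
  rwa [Fintype.card_sum, hα, hβ] at key

end

end Cfsg.Agent.H876.D3
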