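import Cfsg.Agent.H876.D3.Patch
import Cfsg.Agent.H876.D3.Rank2

/-!
# Frobenius twists of kernels, pairings in a frame (helper876)

* `IsKer.twist`; `jb hK j` : `x ↦ j (x ^ q)`; `h_ee`, `h_ff`, `h_ef`, `h_fe`; `card_E`.
-/

set_option autoImplicit false
set_option linter.unusedSectionVars false

namespace Cfsg.Agent.H876.D3

open Cfsg Cfsg.Geo Matrix
open LieClassical.HermBasic LieClassical.HermSiegel Cfsg.Agent.TitsThree.KSideU Cfsg.Agent.TitsThree.KSideUDesc
  Cfsg.Agent.TitsThree.WBridge Cfsg.Agent.TitsThree.SiegelGen Cfsg.Agent.TitsThree.Siegel Cfsg.Agent.H61.SUCross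
  Cfsg.Agent.TitsThree.WittFrame
open Cfsg.Agent.Phan (fixedField mem_fixedField card_fixedField)

variable {K : Type} [Field K] [Fintype K] {N q m : ℕ} {hK : Fintype.card K = q ^ 2}

section Ker

variable {k : Type*} [Field k] {V : Type*} [AddCommGroup V] [Module k V]
  {r : ℕ} {j : K →+* k} {θ : Fin m → ℕ} {vv : (Fin m → Fin N → K) → V}
  {ff : (Fin m → Fin N → K) → Module.Dual k V}

/-- Frobenius twists -/
theorem IsKer.twist {p : ℕ} [Fact p.Prime] [CharP K p] (h : IsKer q r j θ vv ff) (a : ℕ) {θ' : Fin m → ℕ}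
    (hθ : ∀ i, θ i = p ^ a * θ' i) : IsKer q r (j.comp (iterateFrobenius K p a)) θ' vv ff where
  ker u u' hu hu' := by
    rw [h.ker u u' hu hu']
    refine Finset.prod_congr rfl fun i _ => ?_
    rw [hθ, pow_mul, RingHom.comp_apply, iterateFrobenius_def, map_pow]
  span := h.span
  sep := h.sep

end Ker

/-- the conjugate embedding -/
noncomputable def jb (hK : Fintype.card K = q ^ 2) {k : Type*} [Field k] (j : K →+* k) : K →+* k :=
  j.comp (conj hK : K →+* K)

theorem jb_apply (hK : Fintype.card K = q ^ 2) {k : Type*} [Field k] (j : K →+* k) (x : K) : jb hK j x = j (x ^ q) :=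
  rfl

section Frame

variable (W : WFrame (PU hK N) m)

theorem h_ee (a b : Fin m) : hermForm N K q (W.e a) (W.e b) = 0 := W.ee a b
theorem h_ff (a b : Fin m) : hermForm N K q (W.f a) (W.f b) = 0 := W.ff a b
theorem h_ef (a b : Fin m) : hermForm N K q (W.e a) (W.f b) = if a = b then 1 else 0 := W.ef a b
theorem h_fe (a b : Fin m) : hermForm N K q (W.f a) (W.e b) = if a = b then 1 else 0 := W.fe a b
theorem b_true (a : Fin m) : (toFrame W).b (a, true) = W.e a := rfl
theorem b_false (a : Fin m) : (toFrame W).b (a, false) = W.f a := rfl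

end Frame

theorem card_E (hK : Fintype.card K = q ^ 2) [Fintype (fixedField hK)] : Fintype.card (fixedField hK) = q := by
  rw [← Nat.card_eq_fintype_card, card_fixedField]

theorem E_q (hK : Fintype.card K = q ^ 2) (s : fixedField hK) : (s : K) ^ q = s := (mem_fixedField hK _).1 s.2

end Cfsg.Agent.H876.D3
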