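import Cfsg.Agent.H905.MdD

/-!
# The coefficient of the highest weight vector (helper876)

* `exists_birkhoff` : `g = a m u` with `a ∈ U⁻`, `m` over `w`, `u ∈ U`;
* **`coef_eq`** : `φ (ρ g v) = f g` if `f` has the obvious invariance properties and vanishes outside `W_J`.
-/

set_option autoImplicit false
set_option linter.unusedSectionVars false

namespace Cfsg.Agent.H876.D3

open CoxeterSystem Cfsg.Agent.ChevalleyStructure.CoxeterGeom Cfsg.Agent.Tits.Roots Cfsg.Agent.Tits.Core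
  Cfsg.Agent.Tits.Exchange Cfsg.Agent.Nodes.Reps Cfsg.Agent.Nodes.BNOf Cfsg.Agent.Nodes.StabComb
  Cfsg.Agent.Nodes.Bruhat Cfsg.Agent.Nodes.OppDec Cfsg.Agent.Nodes.LeviDec Cfsg.Agent.KFacts.RgdOpp
  Cfsg.Agent.Omega.CR Cfsg.Agent.Omega.FOne.Lift.Sd Cfsg.Agent.H905.Md

variable {I W Y : Type*} [Fintype I] [DecidableEq I] [Group W] [Group Y] {M : CoxeterMatrix I}
  {cs : CoxeterSystem M W} {A : I → I → ℤ} {h : IsCartan M A} {p : ℕ} {T : Subgroup Y} {n : I → Y}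
  {X : (I → ℤ) → Subgroup Y}

theorem exists_birkhoff (R : RGD cs h p T n X) [Finite W] {g : Y} (hg : g ∈ GG cs h T X) :
    ∃ a ∈ UN cs h X, ∃ w m, Rp cs R.nsys w m ∧ ∃ u ∈ RGD.Sup X (RGD.Pos cs h), g = a * m * u := by
  obtain ⟨k₀, hk₀⟩ := exists_rp cs R.nsys (w0 cs)
  obtain ⟨w, b₁, hb₁, k, hk, b₂, hb₂, e⟩ := (mem_GG R).1 (mul_mem (inv_mem (NN_le_GG R ⟨_, hk₀⟩)) hg)
  obtain ⟨t₁, ht₁, u₁, hu₁, e₁⟩ := R.mem_B.1 (inv_mem hb₁)
  obtain ⟨t₂, ht₂, u₂, hu₂, e₂⟩ := R.mem_B.1 hb₂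
  refine ⟨k₀ * u₁⁻¹ * k₀⁻¹, ?_, w0 cs * (1 * w * 1), k₀ * (t₁⁻¹ * k * t₂), ?_, u₂, hu₂, ?_⟩
  · rw [← cj_U R hk₀]
    exact conj_mem_cj.2 (inv_mem hu₁)
  · exact hk₀.mul (((rp_of_mem (inv_mem ht₁)).mul hk).mul (rp_of_mem ht₂))
  · have h1 : b₁ = u₁⁻¹ * t₁⁻¹ := by rw [← mul_inv_rev, ← e₁, inv_inv]
    have h2 : g = k₀ * (k₀⁻¹ * g) := by group
    rw [h2, e, h1, e₂]
    group

variable {k V : Type*} [Field k] [AddCommGroup V] [Module k V]

/-- **The coefficient of the highest weight vector.** -/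
theorem coef_eq (R : RGD cs h p T n X) [Finite Y] [Finite W] [Fact p.Prime] [CharP k p]
    {ρ : Y →* Module.End k V} [FiniteDimensional k V] [Nontrivial V]
    (hirr : ∀ L : Submodule k V, Ivt ρ (GG cs h T X) L → L = ⊥ ∨ L = ⊤)
    {v : V} (hv : v ∈ D cs h X ρ) {φ : Module.Dual k V} (hφ : φ ∈ fx (dualRep ρ) (UN cs h X)) (h1 : φ v = 1)
    {χ : Y → k} (hχ : ∀ t ∈ T, ρ t v = χ t • v) {f : Y → k} (hl : ∀ a ∈ UN cs h X, ∀ g, f (a * g) = f g)
    (hr : ∀ u ∈ RGD.Sup X (RGD.Pos cs h), ∀ g, f (g * u) = f g) (ht : ∀ t ∈ T, ∀ g, f (g * t) = χ t * f g)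
    (hJ : ∀ x ∈ RootsJ cs h (Jx cs h X ρ), ∀ u ∈ X x, ∀ g, f (g * u) = f g) (hf1 : f 1 = 1)
    (h0 : ∀ w, w ∉ WJ cs (Jx cs h X ρ) → ∀ m, Rp cs R.nsys w m → f m = 0) {g : Y} (hg : g ∈ GG cs h T X) :
    φ (ρ g v) = f g := by
  have hv0 : v ≠ 0 := by
    rintro rfl
    rw [map_zero] at h1
    exact zero_ne_one h1
  obtain ⟨a, ha, w, m, hm, u, hu, rfl⟩ := exists_birkhoff R hg
  rw [hr u hu, hl a ha, rho_mul, hv u hu, rho_mul, dual_fx_pair R hφ ha]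
  by_cases hw : w ∈ WJ cs (Jx cs h X ρ)
  · -- the elements with the same eigenvalue
    let K : Subgroup Y :=
      { carrier := {y | ∃ c : k, ρ y v = c • v ∧ ∀ g, f (g * y) = c * f g}
        one_mem' := ⟨1, by rw [rho_one, one_smul], fun g => by rw [mul_one, one_mul]⟩
        mul_mem' := by
          rintro y z ⟨c, hc, hc'⟩ ⟨d, hd, hd'⟩
          refine ⟨d * c, by rw [rho_mul, hd, map_smul, hc, smul_smul], fun g => ?_⟩
          rw [← mul_assoc, hd', hc', mul_assoc]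
        inv_mem' := by
          rintro y ⟨c, hc, hc'⟩
          have hc0 : c ≠ 0 := by
            rintro rfl
            rw [zero_smul] at hc
            exact rho_ne_zero ρ _ hv0 hc
          refine ⟨c⁻¹, ?_, fun g => ?_⟩
          · have h2 : ρ y⁻¹ (ρ y v) = v := rho_inv_rho ρ _ _
            rw [hc, map_smul] at h2
            rw [← h2, smul_smul, inv_mul_cancel₀ hc0, one_smul, h2]
          · have h2 := hc' (g * y⁻¹)
            rw [inv_mul_cancel_right] at h2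
            rw [h2, ← mul_assoc, inv_mul_cancel₀ hc0, one_mul] }
    have hK : LJ cs h T X (Jx cs h X ρ) ≤ K := by
      unfold LJ
      refine sup_le (fun t htT => ⟨χ t, hχ t htT, ht t htT⟩) (RGD.Sup_le fun x hx => fun u hu => ?_)
      exact ⟨1, by rw [X_fix_J R hirr hx hu hv, one_smul], fun g => by rw [hJ x hx u hu, one_mul]⟩
    obtain ⟨c, hc, hc'⟩ := hK (rp_mem_LJ R hw hm)
    have h2 := hc' 1
    rw [one_mul, hf1, mul_one] at h2
    rw [h2, hc, map_smul, h1, smul_eq_mul, mul_one]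
  · rw [h0 w hw m hm]
    by_contra hne
    exact hw (mem_WJ_of_pair R hirr hφ hm hv hne)

end Cfsg.Agent.H876.D3
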