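import Cfsg.Agent.H876.D3.Perm
import Cfsg.Agent.H876.D3.Coef
import Cfsg.Agent.H905.MdL
import Cfsg.Agent.KFacts.MulOdd.Shrink

/-!
# The coefficients of the representations of `SU_N(q)` (helper876)

* `exists_exp` : characters of the rank one tori;
* `exists_theta` : `χ t = ∏ i, j (dl i t) ^ θ i` on the torus;
* **`exists_coef`** : `φ (ρ g v) = ∏ i, j (dl i g) ^ θ i`.
-/

set_option autoImplicit false
set_option linter.unusedSectionVars false

namespace Cfsg.Agent.H876.D3

open CoxeterSystem Cfsg.Agent.ChevalleyStructure.CoxeterGeom Cfsg.Agent.Tits.Roots Cfsg.Agent.Nodes.TypeC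
open Cfsg.Agent.Nodes.Comb Cfsg.Agent.Nodes.Reps Cfsg.Agent.Nodes.WittRoot Cfsg.Agent.Nodes.BNOf
open Cfsg.Agent.Nodes.WittRGD Cfsg.Agent.Nodes.RGDLib Cfsg.Agent.Nodes.WittAll Cfsg.Agent.Nodes
open Cfsg.Agent.TitsThree Cfsg.Agent.TitsThree.Siegel Cfsg.Agent.TitsThree.WittFrame
  Cfsg.Agent.TitsThree.WittWeyl Cfsg.Agent.TitsThree.FrameCN Cfsg.Agent.H905.Md
  Cfsg.Agent.Nodes.StabComb Cfsg.Agent.Tits.Core
open Cfsg Cfsg.Geo
open LieClassical.HermBasic Cfsg.Agent.TitsThree.KSideU Cfsg.Agent.TitsThree.KSideUDesc Cfsg.Agent.Nodes.WittU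
  Cfsg.Agent.TitsThree.WBridge Cfsg.Agent.TitsThree.SiegelGen Cfsg.Agent.H61.SUCross Cfsg.Agent.H61.SUNode
open Cfsg.Agent.KFacts.MulOdd.Inst (Lv)

/-- characters of a cyclic group embedded in a field -/
theorem exists_exp {A F k : Type*} [Group A] [Finite A] [Field F] [Field k] (j : F →+* k)
    (μ : A →* F) (hμ : Function.Injective μ) (χ : A →* k) :
    ∃ θ : ℕ, 1 ≤ θ ∧ (∀ b : ℕ, 0 < b → (∀ t, μ t ^ b = 1) → θ ≤ b) ∧ ∀ t, χ t = j (μ t) ^ θ := by
  have hcyc : IsCyclic A := isCyclic_of_injective_ringHom μ hμ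
  obtain ⟨g, hg⟩ := IsCyclic.exists_generator (α := A)
  set n := orderOf g with hn
  have hn0 : 0 < n := orderOf_pos g
  have h1 : orderOf (j (μ g)) = n := by
    have := orderOf_injective ((j : F →* k).comp μ) (j.injective.comp hμ) g
    exact this
  have hprim : IsPrimitiveRoot (j (μ g)) n := by
    rw [← h1]
    exact IsPrimitiveRoot.orderOf _
  have h2 : χ g ^ n = 1 := by rw [← map_pow, pow_orderOf_eq_one, map_one]
  have : NeZero n := ⟨hn0.ne'⟩
  obtain ⟨i, hi, he⟩ := hprim.eq_pow_of_pow_eq_one h2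
  have key : ∀ θ : ℕ, j (μ g) ^ θ = χ g → ∀ t, χ t = j (μ t) ^ θ := by
    intro θ hθ t
    obtain ⟨a, rfl⟩ := mem_powers_iff_mem_zpowers.2 (hg t)
    change χ (g ^ a) = j (μ (g ^ a)) ^ θ
    rw [map_pow, map_pow, map_pow, ← hθ, ← pow_mul, ← pow_mul, mul_comm]
  have hle : ∀ b : ℕ, 0 < b → (∀ t, μ t ^ b = 1) → n ≤ b := by
    intro b hb h
    refine Nat.le_of_dvd hb (orderOf_dvd_of_pow_eq_one (hμ ?_))
    rw [map_pow, map_one, h g]
  by_cases hi0 : i = 0
  · refine ⟨n, hn0, hle, key n ?_⟩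
    rw [hprim.pow_eq_one, ← he, hi0, pow_zero]
  · exact ⟨i, Nat.one_le_iff_ne_zero.2 hi0, fun b hb h => hi.le.trans (hle b hb h), key i he⟩

variable {K : Type} [Field K] [Fintype K] {N q m : ℕ} {hK : Fintype.card K = q ^ 2} (hN : 3 ≤ N)
  (W : WFrame (PU hK N) m)

/-- the leading minors of an element of `SU` -/
noncomputable def dl (i : Fin m) (g : SU N K q) : K := Dl (toFrame W) true i (toLin K q N g)

variable {W}

theorem iso_toLin (g : SU N K q) : (HU hK N).IsIso (toLin K q N g) := isIso_IU hK ⟨g, rfl⟩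

theorem dl_one (i : Fin m) : dl W i 1 = 1 := by
  unfold dl
  rw [map_one]
  exact Dl_one i

section roots

variable {Wc : Type*} [Group Wc] {cs : CoxeterSystem (CoxeterMatrix.B m) Wc}

theorem dl_mul_right {x : Fin m → ℤ} (hx : IsRoot cs (isCartan m) x) {i : Fin m} (h0 : 0 ≤ x i) {u : SU N K q}
    (hu : u ∈ WittModel.X (modelSU hK hN W) x) (g : SU N K q) : dl W i (g * u) = dl W i g := by
  rw [X_eq] at hu
  unfold dl
  rw [map_mul]
  exact rg_le_KD (Fr := toFrame W) (s := true) hx (by simpa [sgn] using h0) hu _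

theorem dl_mul_left {x : Fin m → ℤ} (hx : IsRoot cs (isCartan m) x) {i : Fin m} (h0 : x i ≤ 0) {u : SU N K q}
    (hu : u ∈ WittModel.X (modelSU hK hN W) x) (g : SU N K q) : dl W i (u * g) = dl W i g := by
  rw [X_eq] at hu
  unfold dl
  rw [map_mul]
  refine Dl_mul_left rfl (iso_toLin g) (iso_toLin u) ?_
  exact rg_le_KD (Fr := toFrame W) (s := false) hx (by simpa [sgn] using h0) hu

end roots

theorem dl_mul_T {t : SU N K q} (ht : t ∈ WittModel.T (modelSU hK hN W)) (i : Fin m) (g : SU N K q) :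
    dl W i (g * t) = dl W i g * dl W i t := by
  unfold dl
  rw [map_mul]
  exact Dl_mul_diag' (l := fun a => ((chi hN W a ⟨t, ht⟩ : Kˣ) : K)) (fun a _ => apply_e hN W a ⟨t, ht⟩) _

theorem dl_T_ne {t : SU N K q} (ht : t ∈ WittModel.T (modelSU hK hN W)) (i : Fin m) : dl W i t ≠ 0 := by
  intro h0
  have h1 := dl_mul_T hN ht i t⁻¹
  rw [inv_mul_cancel, dl_one, h0, mul_zero] at h1
  exact one_ne_zero h1

/-- the torus of a node -/
noncomputable abbrev Tn (hN : 3 ≤ N) (W : WFrame (PU hK N) m) (i : Fin m) : Subgroup (SU N K q) :=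
  WittModel.T (modelSU hK hN W) ⊓ Lv (WittModel.X (modelSU hK hN W)) i

theorem dl_Tn_ne {i a : Fin m} (ha : a ≠ i) {t : SU N K q} (ht : t ∈ Tn hN W i) : dl W a t = 1 := by
  let cs := (CoxeterMatrix.B m).toCoxeterSystem
  have h1 : toLin K q N t ∈ KD (toFrame W) true a := by
    have h2 := (Subgroup.mem_inf.1 ht).2
    have h3 : Lv (WittModel.X (modelSU hK hN W)) i ≤ (KD (toFrame W) true a).comap (toLin K q N) := by
      refine sup_le ?_ ?_
      · intro u hu
        rw [X_eq] at hu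
        exact rg_le_KD (Fr := toFrame W) (s := true) (isRoot_sr cs (isCartan m) i) (by
          rw [sr, Pi.single_eq_of_ne ha]; simp) hu
      · intro u hu
        rw [X_eq] at hu
        exact rg_le_KD (Fr := toFrame W) (s := true) (isRoot_sr cs (isCartan m) i).neg (by
          rw [Pi.neg_apply, sr, Pi.single_eq_of_ne ha]; simp) hu
    exact h3 h2
  have h2 := h1 1
  rw [one_mul, Dl_one] at h2
  exact h2

theorem dl_Tn_self {i : Fin m} {t : SU N K q} (ht : t ∈ Tn hN W i) :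
    toLin K q N t (W.e i) = dl W i t • W.e i := by
  have hT := (Subgroup.mem_inf.1 ht).1
  have hL := (Subgroup.mem_inf.1 ht).2
  rw [Lv_eq] at hL
  have h1 := apply_e hN W i ⟨t, hT⟩
  have h2 : dl W i t = ((chi hN W i ⟨t, hT⟩ : Kˣ) : K) := by
    have h3 := Dl_mul_diag (Fr := toFrame W) (s := true) (i := i) (t := toLin K q N t)
      (l := fun a => if a = i then ((chi hN W i ⟨t, hT⟩ : Kˣ) : K) else 1) (fun a ha => by
        by_cases h4 : a = i
        · rw [if_pos h4, h4]; exact h1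
        · rw [if_neg h4, one_smul]
          exact fix_of_mem (lt_of_le_of_ne ha h4) hL) 1
    rw [one_mul, Dl_one, mul_one] at h3
    unfold dl
    rw [h3, Finset.prod_eq_single ⟨i, le_rfl⟩]
    · rw [if_pos rfl]
    · rintro ⟨a, ha⟩ _ h4
      rw [if_neg]
      exact fun h5 => h4 (Subtype.ext h5)
    · intro h4; exact absurd (Finset.mem_univ _) h4
  rw [h2]
  exact h1

theorem dl_Tn_inj (hW : Kind W) {i : Fin m} {t : SU N K q} (ht : t ∈ Tn hN W i) (h1 : dl W i t = 1) : t = 1 := by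
  have hT := (Subgroup.mem_inf.1 ht).1
  have hL := (Subgroup.mem_inf.1 ht).2
  rw [Lv_eq] at hL
  rw [T_eq] at hT
  have h2 := dl_Tn_self hN ht
  rw [h1, one_smul] at h2
  have h3 := eq_one_of W hW i hL hT.2 h2
  apply toLin_injective
  rw [h3, map_one]

theorem dl_Tn_last (hV0 : W.V0 = ⊥) {i : Fin m} (hi : ¬ (i : ℕ) + 1 < m) {t : SU N K q} (ht : t ∈ Tn hN W i) :
    dl W i t ^ q = dl W i t := by
  have hL := (Subgroup.mem_inf.1 ht).2
  rw [Lv_eq] at hL
  have h2 := dl_Tn_self hN ht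
  obtain ⟨δ, hδ, hδ0⟩ := exists_delta hK
  have hL' : toLin K q N t ∈ Nv (toFrame W) i := hL
  rw [Nv_eq_ZG hi] at hL'
  obtain ⟨A, hA⟩ := Cfsg.Agent.H61.LastEven.exists_rel hV0 hδ hδ0 hL'
  have e1 := Cfsg.Agent.H61.LastEven.indep (W := W) (i := i) hδ0 ((A 0 0 : K) - dl W i t) (A 1 0 : K) (by
    have := hA.fst
    rw [map_smul, h2, ← sub_eq_zero] at this
    rw [← neg_eq_zero, ← this]; module)
  rw [← sub_eq_zero.1 e1.1]
  exact (A 0 0).2

theorem two_le_q {K : Type*} [Field K] [Fintype K] {q : ℕ} (hK : Fintype.card K = q ^ 2) : 2 ≤ q := by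
  have h1 := Fintype.one_lt_card (α := K)
  rw [hK] at h1
  by_contra h2
  have h3 : q ≤ 1 := by omega
  interval_cases q <;> omega

/-- the bounds of the exponents -/
structure Bd (W : WFrame (PU hK N) m) (J : Set (Fin m)) (θ : Fin m → ℕ) : Prop where
  zero : ∀ i ∈ J, θ i = 0
  pos : ∀ i, i ∉ J → θ i ≠ 0
  le : ∀ i, θ i ≤ q ^ 2 - 1
  last : W.V0 = ⊥ → ∀ i : Fin m, ¬ (i : ℕ) + 1 < m → θ i ≤ q - 1

/-- **The characters of the torus.** -/
theorem exists_theta (hW : Kind W) (hm : 0 < m) {p : ℕ} [Fact p.Prime] [CharP K p] {k : Type*} [Field k]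
    (j : K →+* k) {χ : SU N K q → k} (hχ1 : χ 1 = 1)
    (hχ : ∀ s ∈ WittModel.T (modelSU hK hN W), ∀ t ∈ WittModel.T (modelSU hK hN W), χ (s * t) = χ s * χ t)
    (J : Set (Fin m)) (hJ : ∀ i ∈ J, ∀ t ∈ Tn hN W i, χ t = 1) :
    ∃ θ : Fin m → ℕ, Bd W J θ ∧ ∀ t ∈ WittModel.T (modelSU hK hN W), χ t = ∏ i, j (dl W i t) ^ θ i := by
  classical
  have hq : 2 ≤ q := two_le_q hK
  have hq2 : 0 < q ^ 2 - 1 := by
    have : 2 ^ 2 ≤ q ^ 2 := Nat.pow_le_pow_left hq 2
    omega
  have hTle : ∀ i, Tn hN W i ≤ WittModel.T (modelSU hK hN W) := fun i => inf_le_left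
  -- the rank one tori
  have h1 : ∀ i : Fin m, ∃ θ : ℕ, 1 ≤ θ ∧ θ ≤ q ^ 2 - 1 ∧ (W.V0 = ⊥ → ¬ (i : ℕ) + 1 < m → θ ≤ q - 1) ∧
      ∀ t ∈ Tn hN W i, χ t = j (dl W i t) ^ θ := by
    intro i
    let μ : Tn hN W i →* K :=
      { toFun := fun t => dl W i t.1
        map_one' := dl_one i
        map_mul' := fun s t => dl_mul_T hN (hTle i t.2) i s.1 }
    let χ' : Tn hN W i →* k :=
      { toFun := fun t => χ t.1
        map_one' := hχ1
        map_mul' := fun s t => hχ _ (hTle i s.2) _ (hTle i t.2) }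
    have hμ : Function.Injective μ := by
      intro s t hst
      have h2 : μ (s * t⁻¹) = 1 := by rw [map_mul, hst, ← map_mul, mul_inv_cancel, map_one]
      have h3 := dl_Tn_inj hN hW (s * t⁻¹).2 h2
      exact mul_inv_eq_one.1 (Subtype.ext h3)
    have hne : ∀ t, μ t ≠ 0 := fun t => dl_T_ne hN (hTle i t.2) i
    obtain ⟨θ, h2, h3, h4⟩ := exists_exp j μ hμ χ'
    refine ⟨θ, h2, h3 _ hq2 fun t => ?_, fun hV0 hi => h3 _ (by omega) fun t => ?_, fun t ht => h4 ⟨t, ht⟩⟩
    · rw [← hK]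
      exact FiniteField.pow_card_sub_one_eq_one _ (hne t)
    · have h5 : μ t ^ q = μ t := dl_Tn_last hN hV0 hi t.2
      have h6 : μ t ^ (q - 1) * μ t = 1 * μ t := by
        rw [← pow_succ, Nat.sub_add_cancel (by omega), h5, one_mul]
      exact mul_right_cancel₀ (hne t) h6
  choose θ' hθ1 hθ2 hθ3 hθ4 using h1
  refine ⟨fun i => if i ∈ J then 0 else θ' i, ⟨?_, ?_, ?_, ?_⟩, ?_⟩
  · intro i hi
    simp only [if_pos hi]
  · intro i hi
    simp only [if_neg hi]
    have := hθ1 i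
    omega
  · intro i
    split_ifs
    · exact Nat.zero_le _
    · exact hθ2 i
  · intro hV0 i hi
    split_ifs
    · exact Nat.zero_le _
    · exact hθ3 i hV0 hi
  · set θ : Fin m → ℕ := fun i => if i ∈ J then 0 else θ' i with hθ
    have hmul : ∀ s, ∀ t ∈ WittModel.T (modelSU hK hN W), ∏ i, j (dl W i (s * t)) ^ θ i =
        (∏ i, j (dl W i s) ^ θ i) * ∏ i, j (dl W i t) ^ θ i := by
      intro s t ht
      rw [← Finset.prod_mul_distrib]
      refine Finset.prod_congr rfl fun i _ => ?_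
      rw [dl_mul_T hN ht, map_mul, mul_pow]
    have hone : ∏ i : Fin m, j (dl W i (1 : SU N K q)) ^ θ i = 1 :=
      Finset.prod_eq_one fun i _ => by rw [dl_one, map_one, one_pow]
    let S : Subgroup (SU N K q) :=
      { carrier := {t | t ∈ WittModel.T (modelSU hK hN W) ∧ χ t = ∏ i, j (dl W i t) ^ θ i}
        one_mem' := ⟨one_mem _, by rw [hχ1, hone]⟩
        mul_mem' := by
          rintro s t ⟨hs, es⟩ ⟨ht, et⟩
          exact ⟨mul_mem hs ht, by rw [hχ s hs t ht, hmul s t ht, es, et]⟩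
        inv_mem' := by
          rintro t ⟨ht, et⟩
          refine ⟨inv_mem ht, ?_⟩
          have h2 := hχ t ht t⁻¹ (inv_mem ht)
          have h3 := hmul t t⁻¹ (inv_mem ht)
          rw [mul_inv_cancel, hχ1] at h2
          rw [mul_inv_cancel, hone, ← et] at h3
          have h4 : χ t ≠ 0 := by
            intro h0
            rw [h0, zero_mul] at h2
            exact one_ne_zero h2
          exact mul_left_cancel₀ h4 (h2.symm.trans h3) }
    obtain ⟨p0, hp0, -⟩ := exists_adm hK W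
    have hA : AmbT (toFrame W) p (modelSU hK hN W).I := AmbT.of_amb (amb_U hK W) p
    have : Finite (CoxeterMatrix.B m).Group := finite_W (CoxeterMatrix.B m).toCoxeterSystem
    have R := rgdC_model (modelSU hK hN W) hA hp0 (CoxeterMatrix.B m).toCoxeterSystem
    have h2 := KFacts.MulOdd.Shrink.torus_le R (WittModel.G1_eq_top _ hm _)
    have h3 : KFacts.MulOdd.Shrink.TT (WittModel.T (modelSU hK hN W)) (WittModel.X (modelSU hK hN W)) ≤ S := by
      refine iSup_le fun i => ?_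
      intro t ht
      have ht' : t ∈ Tn hN W i := ht
      refine ⟨hTle i ht', ?_⟩
      rw [Finset.prod_eq_single i]
      · by_cases hi : i ∈ J
        · rw [hJ i hi t ht', hθ]
          simp only [if_pos hi, pow_zero]
        · rw [hθ4 i t ht', hθ]
          simp only [if_neg hi]
      · intro a _ ha
        rw [dl_Tn_ne hN ha ht', map_one, one_pow]
      · intro h4; exact absurd (Finset.mem_univ _) h4
    exact fun t ht => (h3 (h2 ht)).2

section rep

open Cfsg.Agent.Omega.CR Cfsg.Agent.Omega.FOne.Lift.Sd Cfsg.Agent.Nodes.Bruhat Cfsg.Agent.Nodes.OppDec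

variable {k : Type*} [Field k] {V : Type*} [AddCommGroup V] [Module k V]

/-- the coefficient function -/
noncomputable def cf (W : WFrame (PU hK N) m) (j : K →+* k) (θ : Fin m → ℕ) (g : SU N K q) : k :=
  ∏ i, j (dl W i g) ^ θ i

/-- **The coefficients of the representations of `SU_N(q)`.** -/
theorem exists_coef (p : ℕ) [Fact p.Prime] [CharP K p] [CharP k p] [IsAlgClosed k] [FiniteDimensional k V]
    [Nontrivial V] (hW : Kind W) (hm : 0 < m) (j : K →+* k) (ρ : SU N K q →* Module.End k V)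
    (hirr : ∀ L : Submodule k V, Ivt ρ ⊤ L → L = ⊥ ∨ L = ⊤) :
    ∃ (J : Set (Fin m)) (θ : Fin m → ℕ), Bd W J θ ∧ (Module.finrank k V ≠ 1 → ∃ i, i ∉ J) ∧
      ∃ (v : V) (φ : Module.Dual k V), v ≠ 0 ∧ v ∈ fx ρ (RGD.Sup (WittModel.X (modelSU hK hN W))
        (RGD.Pos (CoxeterMatrix.B m).toCoxeterSystem (isCartan m))) ∧
      (∀ t ∈ WittModel.T (modelSU hK hN W), ρ t v = cf W j θ t • v) ∧ (∀ g, φ (ρ g v) = cf W j θ g) := by
  classical
  obtain ⟨p0, hp0, -⟩ := exists_adm hK W
  have hA : AmbT (toFrame W) p (modelSU hK hN W).I := AmbT.of_amb (amb_U hK W) p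
  have : Finite (CoxeterMatrix.B m).Group := finite_W (CoxeterMatrix.B m).toCoxeterSystem
  have R := rgdC_model (modelSU hK hN W) hA hp0 (CoxeterMatrix.B m).toCoxeterSystem
  have hG : GG (CoxeterMatrix.B m).toCoxeterSystem (isCartan m) (WittModel.T (modelSU hK hN W))
      (WittModel.X (modelSU hK hN W)) = ⊤ := gg_top (WittModel.G1_eq_top _ hm _)
  have hirr' : ∀ L : Submodule k V, Ivt ρ (GG (CoxeterMatrix.B m).toCoxeterSystem (isCartan m)
      (WittModel.T (modelSU hK hN W)) (WittModel.X (modelSU hK hN W))) L → L = ⊥ ∨ L = ⊤ := by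
    rw [hG]; exact hirr
  have hT := modelT_comm (M := modelSU hK hN W) hA (kd_su hW)
  obtain ⟨c, hc, hc0, χ, hχ⟩ := exists_chi R hirr' hT
  set J := Jx (CoxeterMatrix.B m).toCoxeterSystem (isCartan m) (WittModel.X (modelSU hK hN W)) ρ with hJ
  -- the character
  have hinj : ∀ a b : k, a • c = b • c → a = b := by
    intro a b hab
    rw [← sub_eq_zero, ← sub_smul, smul_eq_zero] at hab
    exact sub_eq_zero.1 (hab.resolve_right hc0)
  have hχ1 : χ 1 = 1 := hinj _ _ (by rw [← hχ 1 (one_mem _), rho_one, one_smul])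
  have hχm : ∀ s ∈ WittModel.T (modelSU hK hN W), ∀ t ∈ WittModel.T (modelSU hK hN W), χ (s * t) = χ s * χ t := by
    intro s hs t ht
    apply hinj
    rw [← hχ _ (mul_mem hs ht), rho_mul, hχ t ht, map_smul, hχ s hs, smul_smul, mul_comm]
  have hχJ : ∀ i ∈ J, ∀ t ∈ Tn hN W i, χ t = 1 := by
    intro i hi t ht
    apply hinj
    rw [← hχ t (Subgroup.mem_inf.1 ht).1, one_smul]
    have h1 : c ∈ fx ρ (Lv (WittModel.X (modelSU hK hN W)) i) := by
      unfold Lv
      rw [fx_sup]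
      exact ⟨fun u hu => X_fix R ρ hc i hu, fun u hu => hi u hu c hc⟩
    exact h1 t (Subgroup.mem_inf.1 ht).2
  obtain ⟨θ, hB, hθ⟩ := exists_theta hN hW hm j hχ1 hχm J hχJ
  obtain ⟨φ₀, hφ₀, hne⟩ := exists_pair_D R hirr' hc hc0
  refine ⟨J, θ, hB, ?_, c, (φ₀ c)⁻¹ • φ₀, hc0, hc, fun t ht => ?_, fun g => ?_⟩
  · intro h1
    by_contra hcon
    push Not at hcon
    have h2 := D_eq_top R hirr' hcon
    have h3 := finrank_D R hirr' hT
    rw [h2, finrank_top] at h3
    exact h1 h3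
  · rw [hχ t ht, hθ t ht]
    rfl
  · -- the comparison
    have hright : ∀ u ∈ RGD.Sup (WittModel.X (modelSU hK hN W))
        (RGD.Pos (CoxeterMatrix.B m).toCoxeterSystem (isCartan m)), ∀ i, ∀ g, dl W i (g * u) = dl W i g := by
      intro u hu i
      let S : Subgroup (SU N K q) := (KD (toFrame W) true i).comap (toLin K q N)
      have h1 : RGD.Sup (WittModel.X (modelSU hK hN W))
          (RGD.Pos (CoxeterMatrix.B m).toCoxeterSystem (isCartan m)) ≤ S := by
        refine RGD.Sup_le fun x hx => ?_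
        intro u hu
        rw [X_eq] at hu
        exact rg_le_KD (Fr := toFrame W) (s := true) hx.1 (by simpa [sgn] using hx.2 i) hu
      intro g
      unfold dl
      rw [map_mul]
      exact h1 hu _
    have hleft : ∀ u ∈ UN (CoxeterMatrix.B m).toCoxeterSystem (isCartan m) (WittModel.X (modelSU hK hN W)),
        ∀ i, ∀ g, dl W i (u * g) = dl W i g := by
      intro u hu i
      let S : Subgroup (SU N K q) := (KD (toFrame W) false i).comap (toLin K q N)
      have h1 : UN (CoxeterMatrix.B m).toCoxeterSystem (isCartan m) (WittModel.X (modelSU hK hN W)) ≤ S := by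
        refine RGD.Sup_le fun x hx => ?_
        intro u hu
        rw [X_eq] at hu
        exact rg_le_KD (Fr := toFrame W) (s := false) hx.1 (by simpa [sgn] using hx.2 i) hu
      intro g
      unfold dl
      rw [map_mul]
      exact Dl_mul_left rfl (iso_toLin g) (iso_toLin u) (h1 hu)
    refine coef_eq R hirr' hc (φ := (φ₀ c)⁻¹ • φ₀) (Submodule.smul_mem _ _ hφ₀) ?_ (χ := χ) hχ (f := cf W j θ)
      ?_ ?_ ?_ ?_ ?_ ?_ ?_
    · rw [LinearMap.smul_apply, smul_eq_mul, inv_mul_cancel₀ hne]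
    · intro a ha g
      exact Finset.prod_congr rfl fun i _ => by rw [hleft a ha]
    · intro a ha g
      exact Finset.prod_congr rfl fun i _ => by rw [hright a ha]
    · intro t ht g
      rw [hθ t ht, mul_comm]
      unfold cf
      rw [← Finset.prod_mul_distrib]
      refine Finset.prod_congr rfl fun i _ => ?_
      rw [dl_mul_T hN ht, map_mul, mul_pow]
    · intro x hx u hu g
      refine Finset.prod_congr rfl fun i _ => ?_
      by_cases hi : i ∈ J
      · rw [hB.zero i hi, pow_zero, pow_zero]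
      · rw [dl_mul_right hN hx.1 (hx.2 i hi).ge hu]
    · exact Finset.prod_eq_one fun i _ => by rw [dl_one, map_one, one_pow]
    · intro w hw y hy
      by_contra h0
      apply hw
      have h1 : (modelSU hK hN W).φ ⟨toLin K q N y, y, rfl⟩ = y := by
        apply toLin_injective
        exact toLin_ofRange _
      refine mem_WJ_of_Dl (modelSU hK hN W) hA hp0 R.nsys (g := toLin K q N y) ⟨y, rfl⟩ ?_ (by rw [h1]; exact hy) ?_
      · intro g' hg' e
        exact congrArg Subtype.val ((ofRange K q N).injective e)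
      · intro i hi h2
        apply h0
        refine Finset.prod_eq_zero (Finset.mem_univ i) ?_
        change j (Dl (toFrame W) true i (toLin K q N y)) ^ θ i = 0
        rw [h2, map_zero, zero_pow (hB.pos i hi)]
    · rw [hG]; trivial

end rep

end Cfsg.Agent.H876.D3
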