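import Cfsg.Agent.H905.MdJ

/-!
# The leading minors of an isometry over a Witt frame (helper876)

`Dl Fr s i g = det (h(g b_(a,s), b_(b,!s)))_{a, b ≤ i}`.

* `KD Fr s i` : the `u` with `Dl s i (g u) = Dl s i g`; `rg_le_KD` : it contains the root groups of the roots `x` with
  `x_i ≥ 0` (`s = true`), `x_i ≤ 0` (`s = false`);
* `Dl_mul_diag`, `Dl_one`, `Dl_swap`;
* `exists_act_mono`, `coord_of_Dl`.
-/

set_option autoImplicit false
set_option linter.unusedSectionVars false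

namespace Cfsg.Agent.H876.D3

open CoxeterSystem Cfsg.Agent.ChevalleyStructure.CoxeterGeom Cfsg.Agent.Tits.Roots Cfsg.Agent.Nodes.TypeC
open Cfsg.Agent.Nodes.Comb Cfsg.Agent.Nodes.Reps Cfsg.Agent.Nodes.WittRoot Cfsg.Agent.Nodes.BNOf
open Cfsg.Agent.Nodes.WittRGD Cfsg.Agent.Nodes.RGDLib Cfsg.Agent.Nodes.WittAll Cfsg.Agent.Nodes
open Cfsg.Agent.TitsThree Cfsg.Agent.TitsThree.Siegel Cfsg.Agent.TitsThree.WittFrame
  Cfsg.Agent.TitsThree.WittWeyl Cfsg.Agent.TitsThree.FrameCN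

/-! ### partial sums -/

section Sums

variable {m : ℕ}

theorem sum_wt (y : Fin m × Bool) (i : Fin m) :
    ∑ k ∈ Finset.Iic i, wt y k = if y.1 ≤ i then (if y.2 then 1 else -1) else 0 := by
  unfold wt
  rw [Finset.sum_pi_single']
  simp only [Finset.mem_Iic]

theorem sum_ee (x : Fin m → ℤ) (i : Fin m) :
    ∑ k ∈ Finset.Iic i, ee x k = (if (i : ℕ) + 1 < m then 1 else 2) * x i := by
  have h1 : ∀ k, ee x k = ∑ j, x j * bt j k := by
    intro k
    simp [ee, Finset.sum_apply]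
  simp only [h1]
  rw [Finset.sum_comm]
  simp only [← Finset.mul_sum, sum_bt]
  rw [Finset.sum_eq_single i]
  · simp only [if_true]
    split_ifs <;> ring
  · intro j _ hj
    simp [Ne.symm hj]
  · simp

theorem sum_ee_pair {x : Fin m → ℤ} {a b : Fin m × Bool} (e : ee x = wt a + wt b) (i : Fin m) :
    (if (i : ℕ) + 1 < m then 1 else 2) * x i = (if a.1 ≤ i then (if a.2 then 1 else -1) else 0) +
      (if b.1 ≤ i then (if b.2 then 1 else -1) else 0) := by
  rw [← sum_ee, e]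
  simp only [Pi.add_apply, Finset.sum_add_distrib, sum_wt]

end Sums

variable {F : Type*} [Field F] {V : Type*} [AddCommGroup V] [Module F V] {H : HForm F V} {m : ℕ}
  (Fr : Frame H (Fin m))

/-- the leading minors -/
noncomputable def Dl (s : Bool) (i : Fin m) (g : V ≃ₗ[F] V) : F :=
  (Matrix.of fun a b : {a : Fin m // a ≤ i} => H.h (g (Fr.b (a.1, s))) (Fr.b (b.1, !s))).det

/-- the right stabiliser of `Dl` -/
def KD (s : Bool) (i : Fin m) : Subgroup (V ≃ₗ[F] V) where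
  carrier := {u | ∀ g, Dl Fr s i (g * u) = Dl Fr s i g}
  one_mem' := fun g => by rw [mul_one]
  mul_mem' := fun {u v} hu hv g => by rw [← mul_assoc, hv, hu]
  inv_mem' := fun {u} hu g => by
    have := hu (g * u⁻¹)
    rw [inv_mul_cancel_right] at this
    exact this.symm

variable {Fr}

theorem mem_KD_of_fix {s : Bool} {i : Fin m} {u : V ≃ₗ[F] V} (hu : ∀ c ≤ i, u (Fr.b (c, s)) = Fr.b (c, s)) :
    u ∈ KD Fr s i := by
  intro g
  unfold Dl
  congr 1
  ext a b
  rw [Matrix.of_apply, Matrix.of_apply, mul_apply', hu a.1 a.2]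

theorem mem_KD_of_transv {s : Bool} {i : Fin m} {u : V ≃ₗ[F] V} {c₁ c₂ : Fin m} (h1 : c₁ ≤ i) (h2 : c₂ ≤ i)
    (hne : c₁ ≠ c₂) {t : F} (hu : u (Fr.b (c₁, s)) = Fr.b (c₁, s) + t • Fr.b (c₂, s))
    (hfix : ∀ c ≤ i, c ≠ c₁ → u (Fr.b (c, s)) = Fr.b (c, s)) : u ∈ KD Fr s i := by
  intro g
  set M : Matrix {a : Fin m // a ≤ i} {a : Fin m // a ≤ i} F :=
    Matrix.of fun a b : {a : Fin m // a ≤ i} => H.h (g (Fr.b (a.1, s))) (Fr.b (b.1, !s)) with hM
  have h3 : (⟨c₁, h1⟩ : {a : Fin m // a ≤ i}) ≠ ⟨c₂, h2⟩ := fun h => hne (congrArg Subtype.val h)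
  have h4 := Matrix.det_updateRow_add_smul_self M h3 t
  unfold Dl
  rw [← hM, ← h4]
  congr 1
  ext a b
  rw [Matrix.of_apply, Matrix.updateRow_apply]
  split_ifs with h5
  · rw [h5, mul_apply', hu, map_add, map_smul, H.add_left, H.smul_left, Pi.add_apply, Pi.smul_apply, smul_eq_mul]
    rfl
  · rw [mul_apply', hfix a.1 a.2 fun h6 => h5 (Subtype.ext h6)]
    rfl

theorem neg_eq_ng (x : Fin m × Bool) : neg x = ng x := rfl

/-- the sign -/
def sgn (s : Bool) : ℤ := if s then 1 else -1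

theorem PG_le_KD {s : Bool} {i : Fin m} {a b : Fin m × Bool} (hab : Ok a b)
    (h0 : 0 ≤ sgn s * ((if a.1 ≤ i then (if a.2 then 1 else -1) else 0) +
      (if b.1 ≤ i then (if b.2 then 1 else -1) else 0))) : PG Fr a b ≤ KD Fr s i := by
  obtain ⟨a, u⟩ := a
  obtain ⟨b, v⟩ := b
  simp only at h0
  rcases hab with hab | hab
  · simp only at hab
    rw [PG_ne Fr hab]
    rintro _ ⟨t, rfl⟩
    by_cases h1 : a ≤ i ∧ u = !s
    · -- `e_a ↦ e_a + c e_b`
      have h2 : b ≤ i ∧ v = s := by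
        by_contra hcon
        rcases h1 with ⟨h1, rfl⟩
        cases s <;> cases v <;> simp_all [sgn] <;> split_ifs at h0 <;> omega
      obtain ⟨h1, rfl⟩ := h1
      obtain ⟨h2, rfl⟩ := h2
      have e := X_apply_neg' Fr (x := (a, !v)) (y := (b, v)) hab t
      rw [sub_eq_add_neg, ← neg_smul] at e
      have e0 : neg ((a, !v) : Fin m × Bool) = (a, v) := by simp [neg]
      rw [e0] at e
      refine mem_KD_of_transv h1 h2 hab e fun c _ hca => ?_
      refine X_apply_of_ne Fr hab ?_ ?_ t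
      · rw [e0]
        exact fun h => hca (congrArg Prod.fst h)
      · intro h
        have := congrArg Prod.snd h
        simp [neg] at this
    · by_cases h2 : b ≤ i ∧ v = !s
      · have h3 : a ≤ i ∧ u = s := by
          by_contra hcon
          rcases h2 with ⟨h2, rfl⟩
          cases s <;> cases u <;> simp_all [sgn] <;> split_ifs at h0 <;> omega
        obtain ⟨h2, rfl⟩ := h2
        obtain ⟨h3, rfl⟩ := h3
        have e := X_apply_neg Fr (x := (a, u)) (y := (b, !u)) hab t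
        have e0 : neg ((b, !u) : Fin m × Bool) = (b, u) := by simp [neg]
        rw [e0] at e
        refine mem_KD_of_transv h2 h3 (Ne.symm hab) e fun c _ hca => ?_
        refine X_apply_of_ne Fr hab ?_ ?_ t
        · intro h
          have := congrArg Prod.snd h
          simp [neg] at this
        · rw [e0]
          exact fun h => hca (congrArg Prod.fst h)
      · refine mem_KD_of_fix fun c hc => X_apply_of_ne Fr hab ?_ ?_ t
        · intro h
          have e1 := congrArg Prod.fst h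
          have e2 := congrArg Prod.snd h
          simp only [neg] at e1 e2
          exact h1 ⟨e1 ▸ hc, by rw [e2]; simp⟩
        · intro h
          have e1 := congrArg Prod.fst h
          have e2 := congrArg Prod.snd h
          simp only [neg] at e1 e2
          exact h2 ⟨e1 ▸ hc, by rw [e2]; simp⟩
  · rw [← hab, PG_self]
    obtain ⟨rfl, rfl⟩ := Prod.mk.inj hab
    rintro _ ⟨p, rfl⟩
    refine mem_KD_of_fix fun c hc => Z_apply_of_ne Fr ?_ p
    intro h
    have e1 := congrArg Prod.fst h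
    have e2 := congrArg Prod.snd h
    simp only [neg] at e1 e2
    subst e1
    rw [if_pos hc, e2] at h0
    cases u
    · norm_num [sgn] at h0
    · norm_num [sgn] at h0

theorem rg_le_KD {W : Type*} [Group W] {cs : CoxeterSystem (CoxeterMatrix.B m) W} {s : Bool} {i : Fin m}
    {x : Fin m → ℤ} (hx : IsRoot cs (isCartan m) x) (h0 : 0 ≤ sgn s * x i) : rg Fr x ≤ KD Fr s i := by
  obtain ⟨a, b, hab, e⟩ := isRoot_iff.1 hx
  rw [rg_eq Fr hab e]
  refine PG_le_KD hab ?_
  rw [← sum_ee_pair e i]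
  split_ifs
  · rwa [one_mul]
  · have : sgn s * (2 * x i) = 2 * (sgn s * x i) := by ring
    rw [this]
    omega

/-! ### values -/

theorem Dl_one (i : Fin m) : Dl Fr true i 1 = 1 := by
  unfold Dl
  have h1 : (Matrix.of fun a b : {a : Fin m // a ≤ i} =>
      H.h ((1 : V ≃ₗ[F] V) (Fr.b (a.1, true))) (Fr.b (b.1, !true))) = 1 := by
    ext a b
    rw [Matrix.of_apply]
    change H.h (Fr.b (a.1, true)) (Fr.b (b.1, !true)) = _
    rw [Fr.hb, Matrix.one_apply]
    by_cases h2 : a = b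
    · subst h2; simp
    · rw [if_neg h2, if_neg]
      rintro ⟨h3, -⟩
      exact h2 (Subtype.ext h3)
  rw [h1, Matrix.det_one]

theorem Dl_mul_diag {s : Bool} {i : Fin m} {t : V ≃ₗ[F] V} {l : Fin m → F}
    (ht : ∀ a ≤ i, t (Fr.b (a, s)) = l a • Fr.b (a, s)) (g : V ≃ₗ[F] V) :
    Dl Fr s i (g * t) = (∏ a : {a : Fin m // a ≤ i}, l a.1) * Dl Fr s i g := by
  unfold Dl
  rw [← Matrix.det_mul_column]
  congr 1
  ext a b
  rw [Matrix.of_apply, Matrix.of_apply, mul_apply', ht a.1 a.2, map_smul, H.smul_left]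
  rfl

theorem Dl_mul_diag' {i : Fin m} {t : V ≃ₗ[F] V} {l : Fin m → F}
    (ht : ∀ a ≤ i, t (Fr.b (a, true)) = l a • Fr.b (a, true)) (g : V ≃ₗ[F] V) :
    Dl Fr true i (g * t) = Dl Fr true i g * Dl Fr true i t := by
  have h1 := Dl_mul_diag ht 1
  rw [one_mul, Dl_one, mul_one] at h1
  rw [Dl_mul_diag ht, h1, mul_comm]

theorem Dl_swap (hε : H.ε = 1) {g : V ≃ₗ[F] V} (hg : H.IsIso g) (i : Fin m) :
    Dl Fr true i g = H.σ (Dl Fr false i g⁻¹) := by
  unfold Dl
  rw [RingEquiv.map_det, ← Matrix.det_transpose]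
  congr 1
  ext a b
  rw [Matrix.transpose_apply, Matrix.of_apply]
  change H.h (g (Fr.b (b.1, true))) (Fr.b (a.1, false)) = H.σ (H.h (g⁻¹ (Fr.b (a.1, false))) (Fr.b (b.1, true)))
  have h1 : H.h (g (Fr.b (b.1, true))) (Fr.b (a.1, false)) = H.h (Fr.b (b.1, true)) (g⁻¹ (Fr.b (a.1, false))) := by
    rw [← hg (Fr.b (b.1, true)) (g⁻¹ (Fr.b (a.1, false)))]
    congr 1
    exact (g.apply_symm_apply _).symm
  rw [h1, H.swap (g⁻¹ (Fr.b (a.1, false))) (Fr.b (b.1, true)), hε, one_mul]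

theorem Dl_mul_left (hε : H.ε = 1) {g u : V ≃ₗ[F] V} (hg : H.IsIso g) (hu : H.IsIso u) {i : Fin m}
    (h : u ∈ KD Fr false i) : Dl Fr true i (u * g) = Dl Fr true i g := by
  rw [Dl_swap hε (HForm.IsIso.mul H hu hg), Dl_swap hε hg, mul_inv_rev, inv_mem h]

theorem perm_of_Dl {g : V ≃ₗ[F] V} {π : Fin m × Bool → Fin m × Bool} (hm : Mono Fr g π) {i : Fin m}
    (h : Dl Fr true i g ≠ 0) : ∀ a ≤ i, ∃ b ≤ i, π (a, true) = (b, true) := by
  intro a ha
  by_contra hcon
  push Not at hcon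
  apply h
  unfold Dl
  refine Matrix.det_eq_zero_of_row_eq_zero ⟨a, ha⟩ fun b => ?_
  rw [Matrix.of_apply]
  obtain ⟨l, -, hl⟩ := hm (a, true)
  rw [hl, H.smul_left, Fr.hb_ne, mul_zero]
  intro h1
  apply hcon b.1 b.2
  have h2 := congrArg neg h1
  rw [neg_neg] at h2
  rw [← h2]
  simp [neg]

end Cfsg.Agent.H876.D3
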