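import Mathlib

/-!
# Binomial coefficients prime to `p` (helper876)

`Ib p θ = {i ≤ θ | p ∤ C(θ, i)}`; `Ib_cases`: a power of `p`, `2 p ^ a`, `3 p ^ a`, `p ^ a + p ^ b`, or `5 ≤ |Ib p θ|`.
-/

set_option autoImplicit false

namespace Cfsg.Agent.H876.D3

/-- the exponents of `(1 + x) ^ θ` modulo `p` -/
def Ib (p θ : ℕ) : Finset ℕ := (Finset.range (θ + 1)).filter fun i => ¬ p ∣ θ.choose i

theorem mem_Ib {p θ i : ℕ} : i ∈ Ib p θ ↔ i ≤ θ ∧ ¬ p ∣ θ.choose i := by
  unfold Ib
  rw [Finset.mem_filter, Finset.mem_range, Nat.lt_succ_iff]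

variable {p : ℕ} [hp : Fact p.Prime]

theorem zero_mem_Ib (θ : ℕ) : 0 ∈ Ib p θ :=
  mem_Ib.2 ⟨Nat.zero_le _, by rw [Nat.choose_zero_right]; exact hp.out.one_lt.ne' ∘ Nat.dvd_one.1⟩

theorem self_mem_Ib (θ : ℕ) : θ ∈ Ib p θ :=
  mem_Ib.2 ⟨le_rfl, by rw [Nat.choose_self]; exact hp.out.one_lt.ne' ∘ Nat.dvd_one.1⟩

theorem sub_mem_Ib {θ i : ℕ} (h : i ∈ Ib p θ) : θ - i ∈ Ib p θ := by
  rw [mem_Ib] at h ⊢
  exact ⟨Nat.sub_le _ _, by rw [Nat.choose_symm h.1]; exact h.2⟩

theorem two_le_card_Ib {θ : ℕ} (h : θ ≠ 0) : 2 ≤ (Ib p θ).card := by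
  have h1 : ({0, θ} : Finset ℕ) ⊆ Ib p θ := by
    intro i hi
    rw [Finset.mem_insert, Finset.mem_singleton] at hi
    rcases hi with rfl | rfl
    · exact zero_mem_Ib _
    · exact self_mem_Ib _
  have h2 := Finset.card_le_card h1
  rwa [Finset.card_pair (Ne.symm h)] at h2

theorem card_Ib_mul {t d : ℕ} (hd : d < p) : (d + 1) * (Ib p t).card ≤ (Ib p (p * t + d)).card := by
  have hpp := hp.out.pos
  have h1 : (Finset.range (d + 1) ×ˢ Ib p t).image (fun z => p * z.2 + z.1) ⊆ Ib p (p * t + d) := by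
    intro i hi
    rw [Finset.mem_image] at hi
    obtain ⟨⟨j, i1⟩, hj, rfl⟩ := hi
    rw [Finset.mem_product, Finset.mem_range, mem_Ib] at hj
    obtain ⟨hj, hi1, hi2⟩ := hj
    simp only at hj hi1 hi2 ⊢
    have hj' : j ≤ d := by omega
    rw [mem_Ib]
    refine ⟨add_le_add (Nat.mul_le_mul_left p hi1) hj', ?_⟩
    have h2 := Choose.choose_modEq_choose_mod_mul_choose_div_nat (n := p * t + d) (k := p * i1 + j) (p := p)
    rw [Nat.mul_add_mod, Nat.mul_add_mod, Nat.mod_eq_of_lt hd, Nat.mod_eq_of_lt (by omega : j < p),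
      Nat.mul_add_div hpp, Nat.mul_add_div hpp, Nat.div_eq_of_lt hd, Nat.div_eq_of_lt (by omega : j < p),
      add_zero, add_zero] at h2
    intro h3
    have h4 : p ∣ d.choose j * t.choose i1 := (Nat.modEq_zero_iff_dvd.1 (h2.symm.trans (Nat.modEq_zero_iff_dvd.2 h3)))
    rcases hp.out.dvd_mul.1 h4 with h5 | h5
    · have h6 : d.choose j ∣ d.factorial := ⟨j.factorial * (d - j).factorial, by
        rw [← mul_assoc]; exact (Nat.choose_mul_factorial_mul_factorial hj').symm⟩
      have h7 := (hp.out.dvd_factorial).1 (h5.trans h6)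
      omega
    · exact hi2 h5
  have h2 := Finset.card_le_card h1
  rw [Finset.card_image_of_injOn, Finset.card_product, Finset.card_range] at h2
  · exact h2
  · rintro ⟨j, i⟩ hj ⟨j', i'⟩ hj' e
    rw [Finset.mem_coe, Finset.mem_product, Finset.mem_range] at hj hj'
    simp only at hj hj' e
    have e1 : (p * i + j) % p = (p * i' + j') % p := by rw [e]
    rw [Nat.mul_add_mod, Nat.mul_add_mod, Nat.mod_eq_of_lt (by omega), Nat.mod_eq_of_lt (by omega)] at e1
    subst e1
    have e2 : p * i = p * i' := by omega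
    rw [Nat.eq_of_mul_eq_mul_left hpp e2]

/-- **The exponents with few binomial coefficients.** -/
theorem Ib_cases : ∀ {θ : ℕ}, θ ≠ 0 → (∃ a, θ = p ^ a) ∨ (3 ≤ (Ib p θ).card ∧ p ≠ 2 ∧ ∃ a, θ = 2 * p ^ a) ∨
    (4 ≤ (Ib p θ).card ∧ ((5 ≤ p ∧ ∃ a, θ = 3 * p ^ a) ∨ ∃ a b, a < b ∧ θ = p ^ a + p ^ b)) ∨ 5 ≤ (Ib p θ).card := by
  intro θ
  induction θ using Nat.strong_induction_on with
  | _ θ ih =>
    intro hθ
    have h2 := hp.out.two_le
    have hθe : p * (θ / p) + θ % p = θ := Nat.div_add_mod θ p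
    have hd : θ % p < p := Nat.mod_lt _ hp.out.pos
    have hcard := card_Ib_mul (p := p) (t := θ / p) hd
    rw [hθe] at hcard
    by_cases ht : θ / p = 0
    · rw [ht, mul_zero, zero_add] at hθe
      have h0 : (Ib p 0).card = 1 := by
        have : Ib p 0 = {0} := by
          ext i
          rw [mem_Ib, Finset.mem_singleton]
          constructor
          · intro h; omega
          · rintro rfl
            exact ⟨le_rfl, (mem_Ib.1 (zero_mem_Ib (p := p) 0)).2⟩
        rw [this, Finset.card_singleton]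
      rw [ht, h0, mul_one, hθe] at hcard
      have hlt : θ < p := by rw [← hθe]; exact hd
      by_cases h1 : θ = 1
      · left; exact ⟨0, by rw [h1, pow_zero]⟩
      by_cases h3 : θ = 2
      · right; left
        exact ⟨by omega, by omega, 0, by rw [h3, pow_zero, mul_one]⟩
      by_cases h4 : θ = 3
      · right; right; left
        refine ⟨by omega, Or.inl ⟨?_, 0, by rw [h4, pow_zero, mul_one]⟩⟩
        by_contra hlt5
        have h5 : p = 4 := by omega
        have h6 := hp.out
        rw [h5] at h6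
        exact absurd h6 (by norm_num)
      · right; right; right; omega
    · have hlt : θ / p < θ := Nat.div_lt_self (Nat.pos_of_ne_zero hθ) hp.out.one_lt
      have hih := ih (θ / p) hlt ht
      by_cases hd0 : θ % p = 0
      · rw [hd0, add_zero] at hθe
        rw [hd0, zero_add, one_mul] at hcard
        rcases hih with ⟨a, ha⟩ | ⟨h3, h4, a, ha⟩ | ⟨h3, h4⟩ | h3
        · left; exact ⟨a + 1, by rw [← hθe, ha, pow_succ']⟩
        · right; left
          exact ⟨h3.trans hcard, h4, a + 1, by rw [← hθe, ha, pow_succ']; ring⟩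
        · right; right; left
          refine ⟨h3.trans hcard, ?_⟩
          rcases h4 with ⟨h5, a, ha⟩ | ⟨a, b, hab, he⟩
          · exact Or.inl ⟨h5, a + 1, by rw [← hθe, ha, pow_succ']; ring⟩
          · exact Or.inr ⟨a + 1, b + 1, by omega, by rw [← hθe, he, pow_succ', pow_succ']; ring⟩
        · right; right; right; exact h3.trans hcard
      · have h22 := two_le_card_Ib (p := p) ht
        rcases hih with ⟨a, ha⟩ | ⟨h3, -⟩ | ⟨h3, -⟩ | h3
        · by_cases hd1 : θ % p = 1
          · right; right; left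
            rw [hd1] at hcard
            refine ⟨by omega, Or.inr ⟨0, a + 1, by omega, ?_⟩⟩
            rw [← hθe, hd1, ha, pow_zero, pow_succ']
            ring
          · right; right; right
            have : 3 * 2 ≤ (θ % p + 1) * (Ib p (θ / p)).card := Nat.mul_le_mul (by omega) h22
            omega
        all_goals
          right; right; right
          have : 2 * 3 ≤ (θ % p + 1) * (Ib p (θ / p)).card := Nat.mul_le_mul (by omega) (by omega)
          omega

end Cfsg.Agent.H876.D3
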