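import Cfsg.Agent.H876.D3.Base

/-!
# The kernel `j(h(x, y)) ^ θ` on isotropic vectors: fans (helper876)

* `pfr_one`, `ker_one`; `RR p Q e`; **`fan_bound`** : `∑ i ∈ Ib p θ, RR (θ - i) + ∑ i ∈ Ib p θ \ 0, RR (θ - i) ≤ dim V`.
-/

set_option autoImplicit false
set_option linter.unusedSectionVars false

namespace Cfsg.Agent.H876.D3

open Cfsg Cfsg.Geo Matrix
open LieClassical.HermBasic LieClassical.HermSiegel Cfsg.Agent.TitsThree.KSideU Cfsg.Agent.TitsThree.KSideUDesc
  Cfsg.Agent.TitsThree.WBridge Cfsg.Agent.TitsThree.SiegelGen Cfsg.Agent.TitsThree.Siegel Cfsg.Agent.H61.SUCross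
  Cfsg.Agent.TitsThree.WittFrame
open Cfsg.Agent.Phan (fixedField mem_fixedField card_fixedField)

variable {K : Type} [Field K] [Fintype K] {N q m : ℕ} {hK : Fintype.card K = q ^ 2}

theorem pfr_one (hm : 0 < m) {x : Fin N → K} (hx : hermForm N K q x x = 0) (h0 : x ≠ 0) :
    PFr (m := m) q 1 (fun _ => x) where
  iso _ _ _ _ := hx
  li := by
    have hs : Subsingleton {a : Fin m // (a : ℕ) < 1} := ⟨fun a b => by
      have := a.2
      have := b.2
      exact Subtype.ext (Fin.ext (by omega))⟩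
    exact LinearIndependent.of_subsingleton ⟨⟨0, hm⟩, Nat.zero_lt_one⟩ h0

theorem Gr_zero (hm : 0 < m) (u u' : Fin m → Fin N → K) :
    Gr q ⟨0, hm⟩ u u' = hermForm N K q (u ⟨0, hm⟩) (u' ⟨0, hm⟩) := by
  unfold Gr
  have hs : Subsingleton {a : Fin m // a ≤ ⟨0, hm⟩} := ⟨fun a b => by
    have h1 := Fin.le_def.1 a.2
    have h2 := Fin.le_def.1 b.2
    exact Subtype.ext (Fin.ext (by simp only at h1 h2; omega))⟩
  rw [Matrix.det_eq_elem_of_subsingleton _ ⟨⟨0, hm⟩, le_rfl⟩, Matrix.of_apply]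

/-- the rank of `(1 + c r r') ^ e` -/
def RR (p Q e : ℕ) : ℕ := if e = 0 then 1 else (Ib p (red Q e)).card

theorem RR_zero (p Q : ℕ) : RR p Q 0 = 1 := if_pos rfl

theorem RR_of_ne {p Q e : ℕ} (he : e ≠ 0) : RR p Q e = (Ib p (red Q e)).card := if_neg he

section

variable {p : ℕ} [hp : Fact p.Prime]

theorem two_le_RR {Q e : ℕ} (he : e ≠ 0) : 2 ≤ RR p Q e := by
  rw [RR_of_ne he]
  exact two_le_card_Ib (red_ne_zero _ _)

theorem one_le_RR {Q e : ℕ} : 1 ≤ RR p Q e := by
  by_cases he : e = 0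
  · rw [he, RR_zero]
  · exact (two_le_RR he).trans' (by norm_num)

theorem Rk_RR {E : Type*} [Field E] [Fintype E] {k : Type*} [Field k] [CharP k p] (j : E →+* k) {c : E} (hc : c ≠ 0)
    (e : ℕ) : Rk (fun r r' : E => j (1 + c * (r * r')) ^ e) (RR p (Fintype.card E) e) := by
  by_cases he : e = 0
  · rw [he, RR_zero]
    exact Rk_pow_zero j c 0
  · rw [RR_of_ne he]
    exact Rk_pow j hc he

end

section Ker

variable {k : Type*} [Field k] {V : Type*} [AddCommGroup V] [Module k V] [FiniteDimensional k V]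
  {j : K →+* k} {θ : Fin m → ℕ} {vv : (Fin m → Fin N → K) → V}
  {ff : (Fin m → Fin N → K) → Module.Dual k V}

theorem prod_one (hm : 0 < m) (hθ : ∀ i : Fin m, 1 ≤ (i : ℕ) → θ i = 0) (u u' : Fin m → Fin N → K) :
    ∏ i, j (Gr q i u u') ^ θ i = j (hermForm N K q (u ⟨0, hm⟩) (u' ⟨0, hm⟩)) ^ θ ⟨0, hm⟩ := by
  rw [Finset.prod_eq_single ⟨0, hm⟩, Gr_zero]
  · intro i _ hi
    rw [hθ i, pow_zero]
    have : (i : ℕ) ≠ 0 := fun h => hi (Fin.ext h)
    omega
  · intro h; exact absurd (Finset.mem_univ _) h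

/-- the elements `1 + c r r'` -/
theorem fan_scalar {ε : K} (hε : ε ^ q = -ε) : ∃ c : fixedField hK, (c : K) = -ε ^ 2 := by
  refine ⟨⟨-ε ^ 2, ?_⟩, rfl⟩
  rw [mem_fixedField, neg_pow_q hK, ← pow_mul, mul_comm, pow_mul, hε]
  ring

variable (W : WFrame (PU hK N) m)

/-- the vectors of the fans -/
noncomputable def fan (i i' : Fin m) (c : Bool) (ε : K) (b : Bool) (s : K) (r : K) : Fin N → K :=
  (toFrame W).b (i, c) + (ε * r) • (toFrame W).b (i, !c) + s • (toFrame W).b (i', b)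

theorem hb_all (a b : Fin m) (c d : Bool) : hermForm N K q ((toFrame W).b (a, c)) ((toFrame W).b (b, d)) =
    if a = b ∧ d = !c then 1 else 0 := by
  by_cases h : d = !c
  · subst h
    rw [hb_pair]
    simp
  · have h1 : d = c := by revert h; cases c <;> cases d <;> simp
    subst h1
    rw [hb_iso, if_neg (fun h2 => h h2.2)]

theorem herm_fan {i i' : Fin m} (hi : i ≠ i') {ε : K} (hε : ε ^ q = -ε) (c b b' : Bool) (s s' r r' : K)
    (hr' : r' ^ q = r') :
    hermForm N K q (fan W i i' c ε b s r) (fan W i i' (!c) ε (!b') s' r') =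
      1 - ε ^ 2 * (r * r') + if b = b' then s * s' ^ q else 0 := by
  unfold fan
  simp only [herm_add_left, herm_add_right hK, herm_smul_left, herm_smul_right, hb_all]
  have h1 : (ε * r') ^ q = -ε * r' := by rw [mul_pow, hε, hr']
  rw [h1]
  cases c <;> cases b <;> cases b' <;> simp [hi, Ne.symm hi] <;> ring

theorem herm_fan_self {i i' : Fin m} (hi : i ≠ i') {ε : K} (hε : ε ^ q = -ε) (c b : Bool) (s r : K)
    (hr : r ^ q = r) : hermForm N K q (fan W i i' c ε b s r) (fan W i i' c ε b s r) = 0 := by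
  unfold fan
  simp only [herm_add_left, herm_add_right hK, herm_smul_left, herm_smul_right, hb_all]
  have h1 : (ε * r) ^ q = -ε * r := by rw [mul_pow, hε, hr]
  rw [h1]
  cases c <;> cases b <;> simp [hi, Ne.symm hi]

theorem fan_ne {i i' : Fin m} (hi : i ≠ i') (ε : K) (c b : Bool) (s r : K) : fan W i i' c ε b s r ≠ 0 := by
  intro h
  have h1 : hermForm N K q (fan W i i' c ε b s r) ((toFrame W).b (i, !c)) = 0 := by rw [h]; exact herm_zero_left _
  unfold fan at h1
  simp only [herm_add_left, herm_smul_left, hb_all] at h1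
  revert h1
  cases c <;> cases b <;> simp [Ne.symm hi]

variable {W}

/-- **The bound from the fans.** -/
theorem fan_bound (p : ℕ) [hp : Fact p.Prime] [CharP K p] [CharP k p] (hm : 2 ≤ m) (W : WFrame (PU hK N) m)
    (h : IsKer q 1 j θ vv ff)
    (hθ : ∀ i : Fin m, 1 ≤ (i : ℕ) → θ i = 0) (hθ' : θ ⟨0, by omega⟩ < q ^ 2) :
    ∑ i ∈ Ib p (θ ⟨0, by omega⟩), RR p q (θ ⟨0, by omega⟩ - i) +
      ∑ i ∈ (Ib p (θ ⟨0, by omega⟩)).erase 0, RR p q (θ ⟨0, by omega⟩ - i) ≤ Module.finrank k V := by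
  classical
  have hm0 : 0 < m := by omega
  set t := θ ⟨0, hm0⟩ with ht
  let i0 : Fin m := ⟨0, hm0⟩
  let i1 : Fin m := ⟨1, by omega⟩
  have hi : i0 ≠ i1 := fun h => absurd (congrArg Fin.val h) (by simp [i0, i1])
  obtain ⟨ε, hε, hε0⟩ := exists_delta hK
  obtain ⟨c, hc⟩ := fan_scalar (hK := hK) hε
  have hc0 : c ≠ 0 := by
    intro h0
    have h1 : (c : K) = 0 := by rw [h0]; rfl
    rw [hc, neg_eq_zero] at h1
    exact hε0 (pow_eq_zero_iff (two_ne_zero)|>.1 h1)
  have : Fintype (fixedField hK) := Fintype.ofFinite _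
  let jE : fixedField hK →+* k := j.comp (fixedField hK).subtype
  have key := Rk.double (k := k) (T := K) (X := fixedField hK) (Y := fixedField hK) (τ := j) (τ' := jb hK j)
    (S := Ib p t) (n := fun i => RR p q (t - i))
    (κ := fun x y => j (hermForm N K q (fan W i0 i1 true ε x.1 x.2.1 x.2.2)
      (fan W i0 i1 false ε (!y.1) y.2.1 y.2.2)) ^ t)
    (κc := fun i r r' => (t.choose i : k) * jE (1 + c * (r * r')) ^ (t - i)) j.injective (jb hK j).injective
    (fun i hi => by rw [hK]; exact (mem_Ib.1 hi).1.trans_lt hθ') Fintype.card_pos ?_ ?_ ?_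
  · refine h.le_finrank (X := Bool × (K × fixedField hK)) (Y := Bool × (K × fixedField hK))
      (f := fun x _ => fan W i0 i1 true ε x.1 x.2.1 x.2.2)
      (g := fun y _ => fan W i0 i1 false ε (!y.1) y.2.1 y.2.2)
      (fun x => pfr_one hm0 (herm_fan_self W hi hε _ _ _ _ (E_q hK _)) (fan_ne W hi _ _ _ _ _))
      (fun x => pfr_one hm0 (herm_fan_self W hi hε _ _ _ _ (E_q hK _)) (fan_ne W hi _ _ _ _ _))
      (fun x y => ?_) key
    rw [prod_one hm0 hθ]
  · intro b l x l' y
    have e1 := herm_fan W hi hε true b b l l' (x : K) (y : K) (E_q hK _)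
    rw [if_pos rfl, Bool.not_true] at e1
    have e2 : (1 - ε ^ 2 * ((x : K) * (y : K)) + l * l' ^ q) = ((1 + c * (x * y) : fixedField hK) : K) + l * l' ^ q := by
      push_cast
      rw [hc]
      ring
    simp only
    rw [e1, e2, map_add, add_pow_Ib (p := p)]
    refine Finset.sum_congr rfl fun i _ => ?_
    rw [jb_apply, map_mul, mul_pow]
    have e3 : j ((1 + c * (x * y) : fixedField hK) : K) = jE (1 + c * (x * y)) := rfl
    rw [e3]
    ring
  · intro b b' hb l x l' y
    have e1 := herm_fan W hi hε true b b' l l' (x : K) (y : K) (E_q hK _)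
    rw [if_neg hb, Bool.not_true, add_zero] at e1
    have e2 : (1 - ε ^ 2 * ((x : K) * (y : K))) = ((1 + c * (x * y) : fixedField hK) : K) := by
      push_cast
      rw [hc]
      ring
    simp only
    rw [e1, e2, Nat.choose_zero_right, Nat.cast_one, one_mul, Nat.sub_zero]
    rfl
  · intro i hi'
    have h1 := Rk_RR (p := p) jE hc0 (t - i)
    rw [card_E] at h1
    exact h1.scale (a := fun _ => (t.choose i : k)) (b := fun _ => 1) (fun _ => choose_ne hi') (fun _ => one_ne_zero)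
      (fun x y => by rw [mul_one])

end Ker

end Cfsg.Agent.H876.D3
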