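import Cfsg.Agent.H876.D3.Fan

/-!
# The kernel `j(h(x, y)) ^ θ` on isotropic vectors: numerical consequences (helper876)

* `fan_num` : `RR θ + 4 |I| - 6 ≤ dim V`; `fan_three` (`≥ 8`), `fan_five` (`≥ 13`), `fan_four` (`≥ 13` if `3 ≤ RR θ`);
* `node0_cases`.
-/

set_option autoImplicit false
set_option linter.unusedSectionVars false

namespace Cfsg.Agent.H876.D3

open Cfsg Cfsg.Geo Matrix
open LieClassical.HermBasic LieClassical.HermSiegel Cfsg.Agent.TitsThree.KSideU Cfsg.Agent.TitsThree.KSideUDesc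
  Cfsg.Agent.TitsThree.WBridge Cfsg.Agent.TitsThree.SiegelGen Cfsg.Agent.TitsThree.Siegel Cfsg.Agent.H61.SUCross
  Cfsg.Agent.TitsThree.WittFrame
open Cfsg.Agent.Phan (fixedField mem_fixedField card_fixedField)

theorem red_unique {Q e x : ℕ} (hQ : 2 ≤ Q) (he : e ≠ 0) (hx : x ≠ 0) (hx' : x ≤ Q - 1) (h : x ≡ e [MOD (Q - 1)]) :
    red Q e = x := by
  have h1 : red Q e ≡ x [MOD (Q - 1)] := (red_modEq he).trans h.symm
  have h2 := red_le (e := e) hQ
  have h3 := red_ne_zero Q e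
  rcases Nat.lt_trichotomy (red Q e) x with h4 | h4 | h4
  · have h5 := (Nat.modEq_iff_dvd' h4.le).1 h1
    obtain ⟨l, hl⟩ := h5
    rcases Nat.eq_zero_or_pos l with rfl | hl0
    · omega
    · have : Q - 1 ≤ (Q - 1) * l := Nat.le_mul_of_pos_right _ hl0
      omega
  · exact h4
  · have h5 := (Nat.modEq_iff_dvd' h4.le).1 h1.symm
    obtain ⟨l, hl⟩ := h5
    rcases Nat.eq_zero_or_pos l with rfl | hl0
    · omega
    · have : Q - 1 ≤ (Q - 1) * l := Nat.le_mul_of_pos_right _ hl0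
      omega

section

variable {p : ℕ} [hp : Fact p.Prime]

theorem card_Ib_zero : (Ib p 0).card = 1 := by
  have : Ib p 0 = {0} := by
    ext i
    rw [mem_Ib, Finset.mem_singleton]
    constructor
    · intro h; omega
    · rintro rfl
      exact ⟨le_rfl, (mem_Ib.1 (zero_mem_Ib (p := p) 0)).2⟩
  rw [this, Finset.card_singleton]

theorem card_Ib_three (h5 : 5 ≤ p) : 4 ≤ (Ib p 3).card := by
  have h1 := card_Ib_mul (p := p) (t := 0) (d := 3) (by omega)
  rw [card_Ib_zero, mul_zero, zero_add] at h1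
  exact h1

theorem card_Ib_succ {d : ℕ} (hd : 0 < d) : 4 ≤ (Ib p (1 + p ^ d)).card := by
  have h1 := card_Ib_mul (p := p) (t := p ^ (d - 1)) (d := 1) hp.out.one_lt
  rw [← pow_succ', Nat.sub_add_cancel hd, add_comm (p ^ d) 1] at h1
  have h2 := two_le_card_Ib (p := p) (θ := p ^ (d - 1)) (pow_ne_zero _ hp.out.ne_zero)
  omega

/-- `RR` of `1 + p ^ d`, `0 < d < 2 f`, `d ≠ f` -/
theorem four_le_RR {f d : ℕ} (hd : 0 < d) (hdf : d ≠ f) (hd2 : d < 2 * f) : 4 ≤ RR p (p ^ f) (1 + p ^ d) := by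
  have hp2 := hp.out.two_le
  have key : ∀ d', 0 < d' → d' < f → p ^ d' + 1 ≤ p ^ f - 1 := by
    intro d' h1 h2
    have h3 : p ^ (d' + 1) ≤ p ^ f := Nat.pow_le_pow_right hp.out.pos h2
    have h4 : p ^ 1 ≤ p ^ d' := Nat.pow_le_pow_right hp.out.pos h1
    rw [pow_one] at h4
    rw [pow_succ] at h3
    have h5 : p ^ d' * 2 ≤ p ^ d' * p := Nat.mul_le_mul_left _ hp2
    omega
  have hQ : 2 ≤ p ^ f := by
    have h3 : p ^ 1 ≤ p ^ f := Nat.pow_le_pow_right hp.out.pos (by omega)
    rw [pow_one] at h3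
    omega
  rw [RR_of_ne (by omega)]
  rcases Nat.lt_or_ge d f with h1 | h1
  · rw [red_eq (by omega) (by have := key d hd h1; omega)]
    exact card_Ib_succ hd
  · have h2 : 0 < d - f := by omega
    have h3 := key (d - f) h2 (by omega)
    have h4 : red (p ^ f) (1 + p ^ d) = 1 + p ^ (d - f) := by
      refine red_unique hQ (by omega) (by omega) (by omega) (Nat.ModEq.add_left _ ?_)
      have h5 : p ^ d = p ^ f * p ^ (d - f) := by rw [← pow_add]; congr 1; omega
      have h6 : 1 ≡ p ^ f [MOD (p ^ f - 1)] := (Nat.modEq_iff_dvd' (by omega)).2 dvd_rfl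
      rw [h5]
      conv_lhs => rw [← one_mul (p ^ (d - f))]
      exact h6.mul_right _
    rw [h4]
    exact card_Ib_succ h2

end

variable {K : Type} [Field K] [Fintype K] {N q m : ℕ} {hK : Fintype.card K = q ^ 2}

section Ker

variable {k : Type*} [Field k] {V : Type*} [AddCommGroup V] [Module k V] [FiniteDimensional k V]
  {j : K →+* k} {θ : Fin m → ℕ} {vv : (Fin m → Fin N → K) → V}
  {ff : (Fin m → Fin N → K) → Module.Dual k V}

variable (p : ℕ) [hp : Fact p.Prime] [CharP K p] [CharP k p] (hm : 2 ≤ m) (W : WFrame (PU hK N) m)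
    (h : IsKer q 1 j θ vv ff) (hθ : ∀ i : Fin m, 1 ≤ (i : ℕ) → θ i = 0) (h0 : θ ⟨0, by omega⟩ ≠ 0)
    (hθ' : θ ⟨0, by omega⟩ < q ^ 2)
include hp hm W h hθ h0 hθ'

theorem fan_num : RR p q (θ ⟨0, by omega⟩) + 4 * (Ib p (θ ⟨0, by omega⟩)).card ≤ Module.finrank k V + 6 := by
  classical
  have h1 := fan_bound p hm W h hθ hθ'
  set t := θ ⟨0, by omega⟩ with ht
  have e1 := Finset.add_sum_erase (Ib p t) (fun i => RR p q (t - i)) (zero_mem_Ib (p := p) t)
  have e2 : t ∈ (Ib p t).erase 0 := Finset.mem_erase.2 ⟨h0, self_mem_Ib t⟩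
  have e3 := Finset.add_sum_erase _ (fun i => RR p q (t - i)) e2
  simp only [Nat.sub_zero, Nat.sub_self, RR_zero] at e1 e3
  have e4 : 2 * (((Ib p t).erase 0).erase t).card ≤ ∑ i ∈ ((Ib p t).erase 0).erase t, RR p q (t - i) := by
    rw [mul_comm, ← smul_eq_mul]
    refine Finset.card_nsmul_le_sum _ _ _ fun i hi => two_le_RR ?_
    have h2 := Finset.mem_erase.1 hi
    have h3 := (mem_Ib.1 (Finset.mem_of_mem_erase h2.2)).1
    omega
  rw [Finset.card_erase_of_mem e2, Finset.card_erase_of_mem (zero_mem_Ib t)] at e4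
  have e5 := two_le_card_Ib (p := p) h0
  omega

theorem fan_three (h3 : 3 ≤ (Ib p (θ ⟨0, by omega⟩)).card) : 8 ≤ Module.finrank k V := by
  have h1 := fan_num p hm W h hθ h0 hθ'
  have h2 := two_le_RR (p := p) (Q := q) h0
  omega

theorem fan_five (h5 : 5 ≤ (Ib p (θ ⟨0, by omega⟩)).card) : 13 ≤ Module.finrank k V := by
  have h1 := fan_num p hm W h hθ h0 hθ'
  have h2 := two_le_RR (p := p) (Q := q) h0
  omega

theorem fan_four (h4 : 4 ≤ (Ib p (θ ⟨0, by omega⟩)).card) (h3 : 3 ≤ RR p q (θ ⟨0, by omega⟩)) :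
    13 ≤ Module.finrank k V := by
  have h1 := fan_num p hm W h hθ h0 hθ'
  omega

/-- **The exponents at the first node.** -/
theorem node0_cases {f : ℕ} (hf : q = p ^ f) :
    (∃ a, θ ⟨0, by omega⟩ = p ^ a) ∨ 13 ≤ Module.finrank k V ∨ (p ≠ 2 ∧ ∃ a, θ ⟨0, by omega⟩ = 2 * p ^ a) ∨
      ∃ a, θ ⟨0, by omega⟩ = p ^ a + p ^ (a + f) := by
  have hp2 := hp.out.two_le
  have hq2 := two_le_q hK
  rcases Ib_cases (p := p) h0 with h1 | ⟨h1, h2⟩ | ⟨h1, ⟨h5, a, ha⟩ | ⟨a, b, hab, he⟩⟩ | h1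
  · exact Or.inl h1
  · exact Or.inr (Or.inr (Or.inl h2))
  · right; left
    have h' := h.twist a (θ' := fun i => if (i : ℕ) = 0 then 3 else 0) (fun i => by
      by_cases hi : (i : ℕ) = 0
      · have : i = ⟨0, by omega⟩ := Fin.ext hi
        rw [this, ha, if_pos rfl, mul_comm]
      · rw [hθ i (by omega), if_neg hi, mul_zero])
    have hq5 : 5 ≤ q := by
      rcases Nat.eq_zero_or_pos f with rfl | hf0
      · rw [pow_zero] at hf; omega
      · rw [hf]
        exact h5.trans (Nat.le_self_pow hf0.ne' p)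
    refine fan_four p hm W h' (fun i hi => if_neg (by omega)) (by simp) ?_ ?_ ?_
    · simp only [if_true]
      nlinarith
    · simp only [if_true]
      exact card_Ib_three h5
    · simp only [if_true]
      rw [RR_of_ne (by norm_num), red_eq (by norm_num) (by omega)]
      exact (card_Ib_three h5).trans' (by norm_num)
  · by_cases hbf : b = a + f
    · exact Or.inr (Or.inr (Or.inr ⟨a, by rw [he, hbf]⟩))
    right; left
    have h' := h.twist a (θ' := fun i => if (i : ℕ) = 0 then 1 + p ^ (b - a) else 0) (fun i => by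
      by_cases hi : (i : ℕ) = 0
      · have : i = ⟨0, by omega⟩ := Fin.ext hi
        rw [this, he, if_pos rfl, mul_add, mul_one, ← pow_add]
        congr 2
        omega
      · rw [hθ i (by omega), if_neg hi, mul_zero])
    have hlt : b < 2 * f := by
      rw [he, hf, ← pow_mul] at hθ'
      have h3 : p ^ b < p ^ (f * 2) := by omega
      have h4 := (Nat.pow_lt_pow_iff_right hp.out.one_lt).1 h3
      omega
    have h1' : 1 + p ^ (b - a) ≤ p ^ a + p ^ b := by
      have h2 : p ^ (b - a) ≤ p ^ b := Nat.pow_le_pow_right hp.out.pos (Nat.sub_le _ _)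
      have h3 : 0 < p ^ a := pow_pos hp.out.pos _
      omega
    refine fan_four p hm W h' (fun i hi => if_neg (by omega)) (by simp) ?_ ?_ ?_
    · simp only [if_true]
      exact lt_of_le_of_lt h1' (he ▸ hθ')
    · simp only [if_true]
      exact card_Ib_succ (by omega)
    · simp only [if_true]
      rw [hf]
      exact (four_le_RR (f := f) (by omega) (by omega) (by omega)).trans' (by norm_num)
  · exact Or.inr (Or.inl (fan_five p hm W h hθ h0 hθ' h1))

end Ker

end Cfsg.Agent.H876.D3
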