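import Cfsg.Agent.H876.D3.PK

/-!
# Pair kernels: the bound from the flags `(x + l y, y)` (helper876)

* `flags_rk`, **`flags_bound`** : `∑ i ∈ Ib p θ, RR (θ - i + κ) * RR (i + κ) ≤ dim V`.
-/

set_option autoImplicit false
set_option linter.unusedSectionVars false

namespace Cfsg.Agent.H876.D3

open Cfsg Cfsg.Geo Matrix
open LieClassical.HermBasic LieClassical.HermSiegel Cfsg.Agent.TitsThree.KSideU Cfsg.Agent.TitsThree.KSideUDesc
  Cfsg.Agent.TitsThree.WBridge Cfsg.Agent.TitsThree.SiegelGen Cfsg.Agent.TitsThree.Siegel Cfsg.Agent.H61.SUCross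
  Cfsg.Agent.TitsThree.WittFrame
open Cfsg.Agent.Phan (fixedField mem_fixedField card_fixedField)

variable {K : Type} [Field K] [Fintype K] {q : ℕ} {hK : Fintype.card K = q ^ 2}

theorem ln_SF (hK : Fintype.card K = q ^ 2) {ε : K} (hε : ε ^ q = -ε) (l s t : K) (hs : s ^ q = s) (ht : t ^ q = t) :
    Ln q ![1, ε * s, l, l * (ε * t)] ![0, 0, 1, ε * t] where
  vv := by
    simp [mul_pow, hε, hs, ht]
    ring
  vw := by
    simp [mul_pow, hε, ht, zero_pow_q hK]
  wv := by
    simp [mul_pow, hε, ht]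
    ring
  ww := by simp [mul_pow, hε, ht, zero_pow_q hK]
  pl_ne := ⟨0, by simp [pl]⟩

section

variable {k : Type*} [Field k] {p : ℕ} [hp : Fact p.Prime] [CharP k p]

/-- **The rank of the kernel on the flags.** -/
theorem flags_rk (hK : Fintype.card K = q ^ 2) [Fintype (fixedField hK)] (j : K →+* k) {c : fixedField hK} (hc0 : c ≠ 0) {θ κ : ℕ}
    (hθ : θ < q ^ 2) :
    Rk (fun x y : K × (fixedField hK × fixedField hK) =>
      j (((1 + c * (x.2.1 * y.2.1) : fixedField hK) : K) + x.1 * y.1 ^ q * ((1 + c * (x.2.2 * y.2.2) : fixedField hK) : K)) ^ θ *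
        j (((1 + c * (x.2.1 * y.2.1) : fixedField hK) : K) * ((1 + c * (x.2.2 * y.2.2) : fixedField hK) : K)) ^ κ)
      (∑ i ∈ Ib p θ, RR p q (θ - i + κ) * RR p q (i + κ)) := by
  classical
  let jE : fixedField hK →+* k := j.comp (fixedField hK).subtype
  refine Rk.graded (τ := j) (τ' := jb hK j) (κc := fun i x y => (θ.choose i : k) *
    (jE (1 + c * (x.1 * y.1)) ^ (θ - i + κ) * jE (1 + c * (x.2 * y.2)) ^ (i + κ))) j.injective (jb hK j).injective
    (fun i hi => by rw [hK]; exact (mem_Ib.1 hi).1.trans_lt hθ) ?_ ?_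
  · intro l x l' y
    have e1 : ∀ a : fixedField hK, j (a : K) = jE a := fun a => rfl
    simp only
    rw [map_add, map_mul, map_mul, map_mul, e1, e1, ← jb_apply hK, add_pow_Ib (p := p), Finset.sum_mul]
    refine Finset.sum_congr rfl fun i _ => ?_
    rw [mul_pow, mul_pow, mul_pow, pow_add, pow_add]
    ring
  · intro i hi
    have h1 := Rk_RR (p := p) jE hc0 (θ - i + κ)
    have h2 := Rk_RR (p := p) jE hc0 (i + κ)
    rw [card_E] at h1 h2
    exact (h1.kron h2).scale (a := fun _ => (θ.choose i : k)) (b := fun _ => 1) (fun _ => choose_ne hi)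
      (fun _ => one_ne_zero) (fun x y => by rw [mul_one])

theorem flags_eq1 {ε : K} (hε : ε ^ q = -ε) {c : fixedField hK} (hc : (c : K) = -ε ^ 2) (l l' : K)
    (x y : fixedField hK × fixedField hK) :
    ∑ a, (![1, ε * (x.1 : K), l, l * (ε * x.2)] : Fin 4 → K) a * ![1, ε * (y.1 : K), l', l' * (ε * y.2)] a ^ q =
      ((1 + c * (x.1 * y.1) : fixedField hK) : K) + l * l' ^ q * ((1 + c * (x.2 * y.2) : fixedField hK) : K) := by
  simp only [Fin.sum_univ_four, Matrix.cons_val]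
  push_cast
  simp only [mul_pow, one_pow, hε, E_q hK]
  rw [hc]
  ring

theorem flags_eq2 {ε : K} (hε : ε ^ q = -ε) {c : fixedField hK} (hc : (c : K) = -ε ^ 2) (l l' : K)
    (x y : fixedField hK × fixedField hK) :
    ∑ b, pl ![1, ε * (x.1 : K), l, l * (ε * x.2)] ![0, 0, 1, ε * (x.2 : K)] b *
      pl ![1, ε * (y.1 : K), l', l' * (ε * y.2)] ![0, 0, 1, ε * (y.2 : K)] b ^ q =
      ((1 + c * (x.1 * y.1) : fixedField hK) : K) * ((1 + c * (x.2 * y.2) : fixedField hK) : K) := by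
  have h1 : ∀ (l : K) (x : fixedField hK × fixedField hK), pl ![1, ε * (x.1 : K), l, l * (ε * x.2)]
      ![0, 0, 1, ε * (x.2 : K)] = pl ![1, ε * (x.1 : K), 0, 0] ![0, 0, 1, ε * (x.2 : K)] := by
    intro l x
    ext b
    fin_cases b <;> simp [pl]
  rw [h1, h1]
  exact G2_SS hε hc x y

variable {V : Type*} [AddCommGroup V] [Module k V] [FiniteDimensional k V] {j : K →+* k} {θ κ : ℕ}
  {vv : (Fin 4 → K) → (Fin 4 → K) → V} {ff : (Fin 4 → K) → (Fin 4 → K) → Module.Dual k V}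

/-- **The bound from the flags.** -/
theorem flags_bound (hK : Fintype.card K = q ^ 2) (h : PK q j θ κ vv ff) (hθ : θ < q ^ 2) :
    ∑ i ∈ Ib p θ, RR p q (θ - i + κ) * RR p q (i + κ) ≤ Module.finrank k V := by
  obtain ⟨ε, c, hε, hε0, hc0, hc⟩ := exists_c hK
  have : Fintype (fixedField hK) := Fintype.ofFinite _
  refine h.le_finrank
    (f := fun x : K × (fixedField hK × fixedField hK) => (![1, ε * (x.2.1 : K), x.1, x.1 * (ε * x.2.2)],
      ![0, 0, 1, ε * (x.2.2 : K)]))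
    (g := fun x : K × (fixedField hK × fixedField hK) => (![1, ε * (x.2.1 : K), x.1, x.1 * (ε * x.2.2)],
      ![0, 0, 1, ε * (x.2.2 : K)])) (fun x => ln_SF hK hε _ _ _ (E_q hK _) (E_q hK _))
    (fun x => ln_SF hK hε _ _ _ (E_q hK _) (E_q hK _)) (flags_rk hK j hc0 hθ) (fun x y => ?_)
  rw [flags_eq1 hε hc, flags_eq2 hε hc]

end

end Cfsg.Agent.H876.D3
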