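import Cfsg.Agent.H876.D3.Witt

/-!
# The kernel of a representation of `SU_N(q)` (helper876)

* `Gr q i u u' = det (h(u a, u' b))_{a, b ≤ i}`;
* **`exists_kernel`** : vectors `vv u` and functionals `ff u'` for the partial frames with
  `ff u' (vv u) = ∏ i, j (Gr q i u u') ^ θ i`.
-/

set_option autoImplicit false
set_option linter.unusedSectionVars false

namespace Cfsg.Agent.H876.D3

open Cfsg Cfsg.Geo Matrix
open LieClassical.HermBasic LieClassical.HermSiegel Cfsg.Agent.TitsThree.KSideU Cfsg.Agent.TitsThree.KSideUDesc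
  Cfsg.Agent.TitsThree.WBridge Cfsg.Agent.TitsThree.SiegelGen Cfsg.Agent.TitsThree.Siegel Cfsg.Agent.H61.SUCross
  Cfsg.Agent.TitsThree.WittFrame Cfsg.Agent.Omega.CR Cfsg.Agent.Omega.FOne.Lift.Sd Cfsg.Agent.H905.Md
  Cfsg.Agent.Nodes.BNOf Cfsg.Agent.Nodes.TypeC Cfsg.Agent.Nodes.WittAll

variable {K : Type} [Field K] [Fintype K] {N q m : ℕ} {hK : Fintype.card K = q ^ 2}

/-- the leading minors of two families -/
noncomputable def Gr (q : ℕ) (i : Fin m) (u u' : Fin m → Fin N → K) : K :=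
  (Matrix.of fun a b : {a : Fin m // a ≤ i} => hermForm N K q (u a.1) (u' b.1)).det

section

variable (W : WFrame (PU hK N) m)

theorem hb_iso (s : Bool) (a b : Fin m) : hermForm N K q ((toFrame W).b (a, s)) ((toFrame W).b (b, s)) = 0 := by
  have := (toFrame W).hb (a, s) (b, s)
  rw [if_neg (by simp)] at this
  exact this

theorem hb_pair (s : Bool) (a b : Fin m) :
    hermForm N K q ((toFrame W).b (a, s)) ((toFrame W).b (b, !s)) = if a = b then 1 else 0 := by
  have := (toFrame W).hb (a, s) (b, !s)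
  refine (this : _).trans ?_
  by_cases h : a = b
  · subst h
    rw [if_pos ⟨rfl, by simp⟩, if_pos rfl]
    cases s <;> rfl
  · rw [if_neg (fun h1 => h h1.1), if_neg h]

theorem pfr_act (r : ℕ) (s : Bool) (g : SU N K q) : PFr q r (fun a : Fin m => act g ((toFrame W).b (a, s))) := by
  refine ⟨fun a b _ _ => by rw [herm_act, hb_iso], ?_⟩
  refine li_of_det (q := q) (w := fun a : {a : Fin m // (a : ℕ) < r} => act g ((toFrame W).b (a.1, !s))) ?_
  have h1 : (Matrix.of fun a b : {a : Fin m // (a : ℕ) < r} => hermForm N K q (act g ((toFrame W).b (a.1, s)))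
      (act g ((toFrame W).b (b.1, !s)))) = 1 := by
    ext a b
    rw [Matrix.of_apply, herm_act, hb_pair, Matrix.one_apply]
    simp only [Subtype.ext_iff]
  rw [h1, Matrix.det_one]
  exact one_ne_zero

theorem exists_su {r : ℕ} (hr : r ≤ m) (hr0 : 0 < r) {u : Fin m → Fin N → K} (hu : PFr q r u) (s : Bool) :
    ∃ (g : SU N K q) (c : K), c ≠ 0 ∧
      ∀ a : Fin m, (a : ℕ) < r → act g ((toFrame W).b (a, s)) = (if (a : ℕ) = 0 then c else 1) • u a := by
  have h0 := pfr_act W r s 1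
  simp only [act_one] at h0
  obtain ⟨g, hg, h1⟩ := exists_gu_of_li hK h0.li hu.li (fun a b => h0.iso _ _ a.2 b.2)
    (fun a b => hu.iso _ _ a.2 b.2)
  have hm : 0 < m := by omega
  obtain ⟨g₁, c, hc0, h2, h3⟩ := exists_su_scaled hK hg (e := (toFrame W).b (⟨0, hm⟩, s))
    (f := (toFrame W).b (⟨0, hm⟩, !s)) (hb_iso W _ _ _) (by
      exact hb_iso W (!s) _ _) (by rw [hb_pair, if_pos rfl])
  refine ⟨g₁, c, hc0, fun a ha => ?_⟩
  by_cases ha0 : (a : ℕ) = 0
  · have h4 : a = ⟨0, hm⟩ := Fin.ext ha0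
    rw [if_pos ha0, h4, h2, h1 ⟨⟨0, hm⟩, hr0⟩]
  · rw [if_neg ha0, one_smul, h3 _ (hb_iso W _ _ _) (by rw [hb_pair, if_neg (fun h => ha0 (by rw [h]))]),
      h1 ⟨a, ha⟩]

theorem dl_eq (i : Fin m) (g g' : SU N K q) :
    dl W i (g'⁻¹ * g) = Gr q i (fun a => act g (W.e a)) (fun b => act g' (W.f b)) := by
  unfold dl Dl Gr
  congr 1
  ext a b
  rw [Matrix.of_apply, Matrix.of_apply]
  change hermForm N K q (act (g'⁻¹ * g) (W.e a.1)) (W.f b.1) = _
  rw [act_mul, herm_act_left, inv_inv]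

theorem Gr_scale {i : Fin m} {u u' v v' : Fin m → Fin N → K} {c c' : K}
    (h : ∀ a ≤ i, v a = (if (a : ℕ) = 0 then c else 1) • u a)
    (h' : ∀ a ≤ i, v' a = (if (a : ℕ) = 0 then c' else 1) • u' a) :
    Gr q i v v' = c * c' ^ q * Gr q i u u' := by
  have hprod : ∀ d : K, ∏ a : {a : Fin m // a ≤ i}, (if (a.1 : ℕ) = 0 then d else 1) = d := by
    intro d
    have hm : 0 < m := i.pos
    rw [Finset.prod_eq_single ⟨⟨0, hm⟩, Fin.mk_le_of_le_val (Nat.zero_le _)⟩]
    · rw [if_pos rfl]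
    · rintro ⟨a, ha⟩ _ h1
      rw [if_neg]
      intro h2
      exact h1 (Subtype.ext (Fin.ext h2))
    · intro h1; exact absurd (Finset.mem_univ _) h1
  have e1 := Matrix.det_mul_column (fun a : {a : Fin m // a ≤ i} => if (a.1 : ℕ) = 0 then c else 1)
    (Matrix.of fun a b : {a : Fin m // a ≤ i} => (if (b.1 : ℕ) = 0 then c' ^ q else 1) *
      hermForm N K q (u a.1) (u' b.1))
  have e2 := Matrix.det_mul_row (fun a : {a : Fin m // a ≤ i} => if (a.1 : ℕ) = 0 then c' ^ q else 1)
    (Matrix.of fun a b : {a : Fin m // a ≤ i} => hermForm N K q (u a.1) (u' b.1))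
  simp only [Matrix.of_apply] at e1 e2
  rw [hprod] at e1 e2
  rw [e2] at e1
  unfold Gr
  rw [mul_assoc, ← e1]
  congr 1
  ext a b
  rw [Matrix.of_apply, Matrix.of_apply, h a.1 a.2, h' b.1 b.2, herm_smul_left, herm_smul_right]
  split_ifs <;> simp

variable {W}

/-- the coefficient function in terms of the frames -/
theorem cf_eq {k : Type*} [Field k] (j : K →+* k) {θ : Fin m → ℕ} {r : ℕ} (hθ : ∀ i : Fin m, r ≤ i → θ i = 0)
    {g g' : SU N K q} {c c' : K} {u u' : Fin m → Fin N → K}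
    (h : ∀ a : Fin m, (a : ℕ) < r → act g (W.e a) = (if (a : ℕ) = 0 then c else 1) • u a)
    (h' : ∀ a : Fin m, (a : ℕ) < r → act g' (W.f a) = (if (a : ℕ) = 0 then c' else 1) • u' a) :
    cf W j θ (g'⁻¹ * g) = j (c * c' ^ q) ^ (∑ i, θ i) * ∏ i, j (Gr q i u u') ^ θ i := by
  unfold cf
  rw [← Finset.prod_pow_eq_pow_sum, ← Finset.prod_mul_distrib]
  refine Finset.prod_congr rfl fun i _ => ?_
  by_cases hi : (i : ℕ) < r
  · rw [dl_eq, Gr_scale (c := c) (c' := c') (u := u) (u' := u')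
      (fun a ha => h a (lt_of_le_of_lt ha hi)) (fun a ha => h' a (lt_of_le_of_lt ha hi)), map_mul, mul_pow]
  · rw [hθ i (by omega), pow_zero, pow_zero, pow_zero, mul_one]

end

section rep

variable {W : WFrame (PU hK N) m} (hN : 3 ≤ N) {k : Type*} [Field k] {V : Type*} [AddCommGroup V] [Module k V]

/-- the statement of the kernel theorem for the frames of length `r` -/
structure IsKer (q r : ℕ) (j : K →+* k) (θ : Fin m → ℕ) (vv : (Fin m → Fin N → K) → V)
    (ff : (Fin m → Fin N → K) → Module.Dual k V) : Prop where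
  ker : ∀ u u', PFr q r u → PFr q r u' → ff u' (vv u) = ∏ i, j (Gr q i u u') ^ θ i
  span : Submodule.span k (vv '' {u | PFr q r u}) = ⊤
  sep : ∀ w, (∀ u, PFr q r u → ff u w = 0) → w = 0

theorem isKer_of_coef [Nontrivial V] {j : K →+* k} {ρ : SU N K q →* Module.End k V}
    (hirr : ∀ L : Submodule k V, Ivt ρ ⊤ L → L = ⊥ ∨ L = ⊤) {θ : Fin m → ℕ} {v : V} (hv0 : v ≠ 0)
    {φ : Module.Dual k V} (hφ : ∀ g, φ (ρ g v) = cf W j θ g) {r : ℕ} (hr : r ≤ m) (hr0 : 0 < r)
    (hθ : ∀ i : Fin m, r ≤ i → θ i = 0) : ∃ (vv : (Fin m → Fin N → K) → V) (ff : (Fin m → Fin N → K) → Module.Dual k V), IsKer q r j θ vv ff := by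
  classical
  -- the vectors `ρ g v` span, the functionals `φ ρ(g)` separate
  have hspan : ∀ L : Submodule k V, (∀ g, ρ g v ∈ L) → L = ⊤ := by
    intro L hL
    have h1 := hirr (Submodule.span k (Set.range fun g => ρ g v)) (by
      intro x _ w hw
      induction hw using Submodule.span_induction with
      | mem w hw =>
        obtain ⟨g, rfl⟩ := hw
        refine Submodule.subset_span ⟨x * g, ?_⟩
        exact rho_mul ρ x g v
      | zero => rw [map_zero]; exact zero_mem _
      | add a b _ _ ha hb => rw [map_add]; exact add_mem ha hb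
      | smul a b _ hb => rw [map_smul]; exact Submodule.smul_mem _ _ hb)
    rcases h1 with h1 | h1
    · exfalso
      apply hv0
      have h2 : ρ 1 v ∈ Submodule.span k (Set.range fun g => ρ g v) := Submodule.subset_span ⟨1, rfl⟩
      rwa [h1, Submodule.mem_bot, rho_one] at h2
    · rw [eq_top_iff, ← h1, Submodule.span_le]
      rintro _ ⟨g, rfl⟩
      exact hL g
  have hsep : ∀ w, (∀ g, φ (ρ g w) = 0) → w = 0 := by
    intro w hw
    let L : Submodule k V :=
      { carrier := {w | ∀ g, φ (ρ g w) = 0}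
        zero_mem' := fun g => by rw [map_zero, map_zero]
        add_mem' := fun {a b} ha hb g => by rw [map_add, map_add, ha g, hb g, add_zero]
        smul_mem' := fun c a ha g => by rw [map_smul, map_smul, ha g, smul_zero] }
    have h1 := hirr L (by
      intro x _ w hw g
      rw [← rho_mul]
      exact hw _)
    rcases h1 with h1 | h1
    · have h2 : w ∈ L := hw
      rwa [h1, Submodule.mem_bot] at h2
    · exfalso
      have h2 : v ∈ L := by rw [h1]; trivial
      have h3 : φ (ρ 1 v) = 0 := h2 1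
      rw [hφ] at h3
      have h4 : cf W j θ 1 = 1 := Finset.prod_eq_one fun i _ => by rw [dl_one, map_one, one_pow]
      rw [h4] at h3
      exact one_ne_zero h3
  have hex : ∀ (s : Bool) (u : Fin m → Fin N → K), ∃ (g : SU N K q) (c : K), c ≠ 0 ∧ (PFr q r u →
      ∀ a : Fin m, (a : ℕ) < r → act g ((toFrame W).b (a, s)) = (if (a : ℕ) = 0 then c else 1) • u a) := by
    intro s u
    by_cases hu : PFr q r u
    · obtain ⟨g, c, hc, h1⟩ := exists_su W hr hr0 hu s
      exact ⟨g, c, hc, fun _ => h1⟩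
    · exact ⟨1, 1, one_ne_zero, fun h => absurd h hu⟩
  choose ge ce hce hge using hex true
  choose gf cf' hcf hgf using hex false
  set s := ∑ i, θ i with hs
  let vv : (Fin m → Fin N → K) → V := fun u => (j (ce u) ^ s)⁻¹ • ρ (ge u) v
  let ff : (Fin m → Fin N → K) → Module.Dual k V := fun u =>
    (j (cf' u ^ q) ^ s)⁻¹ • (φ.comp (ρ (gf u)⁻¹ : V →ₗ[k] V))
  have hje : ∀ u, j (ce u) ^ s ≠ 0 := fun u => pow_ne_zero _ ((map_ne_zero j).2 (hce u))
  have hjf : ∀ u, j (cf' u ^ q) ^ s ≠ 0 := fun u => pow_ne_zero _ ((map_ne_zero j).2 (pow_ne_zero _ (hcf u)))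
  have hmain : ∀ u u', PFr q r u → PFr q r u' → ff u' (vv u) = ∏ i, j (Gr q i u u') ^ θ i := by
    intro u u' hu hu'
    have h1 : φ (ρ (gf u')⁻¹ (ρ (ge u) v)) = j (ce u * cf' u' ^ q) ^ s * ∏ i, j (Gr q i u u') ^ θ i := by
      rw [← rho_mul, hφ]
      exact cf_eq j hθ (hge u hu) (hgf u' hu')
    change (j (cf' u' ^ q) ^ s)⁻¹ * φ (ρ (gf u')⁻¹ ((j (ce u) ^ s)⁻¹ • ρ (ge u) v)) = _
    rw [map_smul, map_smul, h1, smul_eq_mul, map_mul, mul_pow]
    have e1 := hje u
    have e2 := hjf u'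
    field_simp
  refine ⟨vv, ff, hmain, ?_, ?_⟩
  · refine hspan _ fun y => ?_
    have hy := pfr_act W r true y
    have h1 : vv (fun a : Fin m => act y ((toFrame W).b (a, true))) = ρ y v := by
      rw [← sub_eq_zero]
      refine hsep _ fun g => ?_
      rw [map_sub, map_sub, sub_eq_zero]
      change φ (ρ g ((j (ce _) ^ s)⁻¹ • ρ (ge _) v)) = _
      rw [map_smul, map_smul, ← rho_mul, ← rho_mul, hφ, hφ, smul_eq_mul]
      have e1 := cf_eq j hθ (g' := g⁻¹) (c' := 1) (u' := fun b => act g⁻¹ (W.f b)) (hge _ hy) (fun a _ => by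
        split_ifs <;> rw [one_smul])
      have e2 := cf_eq j hθ (g := y) (g' := g⁻¹) (c := 1) (c' := 1) (u := fun b => act y (W.e b))
        (u' := fun b => act g⁻¹ (W.f b)) (fun a _ => by split_ifs <;> rw [one_smul])
        (fun a _ => by split_ifs <;> rw [one_smul])
      rw [inv_inv] at e1 e2
      rw [e1, e2, one_pow, mul_one, mul_one, map_one, one_pow, one_mul, inv_mul_cancel_left₀ (hje _)]
      rfl
    rw [← h1]
    exact Submodule.subset_span ⟨_, hy, rfl⟩
  · intro w hw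
    refine hsep w fun g => ?_
    have hy := pfr_act W r false g⁻¹
    have h1 : ff (fun a : Fin m => act g⁻¹ ((toFrame W).b (a, false))) = φ.comp (ρ g : V →ₗ[k] V) := by
      have h2 : LinearMap.ker (ff (fun a : Fin m => act g⁻¹ ((toFrame W).b (a, false))) -
          φ.comp (ρ g : V →ₗ[k] V)) = ⊤ := by
        refine hspan _ fun y => ?_
        rw [LinearMap.mem_ker, LinearMap.sub_apply, sub_eq_zero]
        change (j (cf' _ ^ q) ^ s)⁻¹ * φ (ρ (gf _)⁻¹ (ρ y v)) = φ (ρ g (ρ y v))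
        rw [← rho_mul, ← rho_mul, hφ, hφ]
        have e1 := cf_eq j hθ (g := y) (c := 1) (u := fun b => act y (W.e b)) (fun a _ => by
          split_ifs <;> rw [one_smul]) (hgf _ hy)
        have e2 := cf_eq j hθ (g := y) (g' := g⁻¹) (c := 1) (c' := 1) (u := fun b => act y (W.e b))
          (u' := fun b => act g⁻¹ (W.f b)) (fun a _ => by split_ifs <;> rw [one_smul])
          (fun a _ => by split_ifs <;> rw [one_smul])
        rw [inv_inv] at e2
        rw [e1, e2, one_pow, mul_one, map_one, one_pow, one_mul, one_mul, inv_mul_cancel_left₀ (hjf _)]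
        rfl
      rw [LinearMap.ker_eq_top, sub_eq_zero] at h2
      exact h2
    have h3 := hw _ hy
    rw [h1] at h3
    exact h3

end rep

end Cfsg.Agent.H876.D3
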