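import Cfsg.Agent.H876.D3.Natural
import Cfsg.Agent.H887.D3.NodeTwo
import Cfsg.Agent.H887.D3.NodeAdj

/-!
# The first node alone (helper876)

* `node0` : `dim V = N`, or `N = 4`, `dim V = 10` and `p ≠ 2`, or `13 ≤ dim V`.
-/

set_option autoImplicit false
set_option linter.unusedSectionVars false

namespace Cfsg.Agent.H876.D3

open Cfsg Cfsg.Geo Matrix
open LieClassical.HermBasic LieClassical.HermSiegel Cfsg.Agent.TitsThree.KSideU Cfsg.Agent.TitsThree.KSideUDesc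
  Cfsg.Agent.TitsThree.WBridge Cfsg.Agent.TitsThree.SiegelGen Cfsg.Agent.TitsThree.Siegel Cfsg.Agent.H61.SUCross
  Cfsg.Agent.TitsThree.WittFrame

variable {K : Type} [Field K] [Fintype K] {N q m : ℕ} {hK : Fintype.card K = q ^ 2}

theorem exists_f (hK : Fintype.card K = q ^ 2) (p : ℕ) [hp : Fact p.Prime] [CharP K p] : ∃ f, q = p ^ f := by
  obtain ⟨a, -, ha⟩ := FiniteField.card K p
  have h1 : q ∣ p ^ (a : ℕ) := by rw [← ha, hK, sq]; exact Dvd.intro _ rfl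
  obtain ⟨b, -, hb⟩ := (Nat.dvd_prime_pow hp.out).1 h1
  exact ⟨b, hb⟩

section Ker

variable {k : Type*} [Field k] {V : Type*} [AddCommGroup V] [Module k V] [FiniteDimensional k V]
  {j : K →+* k} {θ : Fin m → ℕ} {vv : (Fin m → Fin N → K) → V}
  {ff : (Fin m → Fin N → K) → Module.Dual k V}

/-- **The first node alone.** -/
theorem node0 (p : ℕ) [hp : Fact p.Prime] [CharP K p] [CharP k p] (hN : 4 ≤ N) (hm : 2 ≤ m) (W : WFrame (PU hK N) m)
    (h : IsKer q 1 j θ vv ff) (hθ : ∀ i : Fin m, 1 ≤ (i : ℕ) → θ i = 0) (h0 : θ ⟨0, by omega⟩ ≠ 0)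
    (hθ' : θ ⟨0, by omega⟩ < q ^ 2) :
    Module.finrank k V = N ∨ (N = 4 ∧ Module.finrank k V = 10 ∧ p ≠ 2) ∨ 13 ≤ Module.finrank k V := by
  obtain ⟨f, hf⟩ := exists_f hK p
  have hθ2 : ∀ i : Fin m, (i : ℕ) ≠ 0 → θ i = 0 := fun i hi => hθ i (by omega)
  rcases node0_cases p hm W h hθ h0 hθ' hf with ⟨a, ha⟩ | h1 | ⟨hp2, a, ha⟩ | ⟨a, ha⟩
  · exact Or.inl (natural p (by omega) W h hθ ha)
  · exact Or.inr (Or.inr h1)
  · have h2 := H887.D3.node0_two (p := p) W hm h ha hθ2 hp2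
    rcases Nat.lt_or_ge N 5 with h3 | h3
    · have h4 : N = 4 := by omega
      exact Or.inr (Or.inl ⟨h4, h2.1 h4, hp2⟩)
    · have := h2.2 h3
      exact Or.inr (Or.inr (by omega))
  · have h2 := H887.D3.node0_adj (p := p) W hm h hf ha hθ2
    exact Or.inr (Or.inr (by omega))

end Ker

end Cfsg.Agent.H876.D3
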