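import Cfsg.Agent.H876.D3.PairBound

/-!
# Pair kernels in coordinates (helper876)

* `PK q j θ κ vv ff` : the kernel `j(h(x, x')) ^ θ * j(G_2) ^ κ` on the isotropic flags of the span of two hyperbolic
  pairs; `PK.twist`, `PK.le_finrank`, `PK.sylvester`;
* **`exists_pk`** : the kernel of a module with two nodes.
-/

set_option autoImplicit false
set_option linter.unusedSectionVars false

namespace Cfsg.Agent.H876.D3

open Cfsg Cfsg.Geo Matrix
open LieClassical.HermBasic LieClassical.HermSiegel Cfsg.Agent.TitsThree.KSideU Cfsg.Agent.TitsThree.KSideUDesc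
  Cfsg.Agent.TitsThree.WBridge Cfsg.Agent.TitsThree.SiegelGen Cfsg.Agent.TitsThree.Siegel Cfsg.Agent.H61.SUCross
  Cfsg.Agent.TitsThree.WittFrame
open Cfsg.Agent.Phan (fixedField mem_fixedField card_fixedField)

variable {K : Type} [Field K] [Fintype K] {N q m : ℕ} {hK : Fintype.card K = q ^ 2}

section PK

variable {k : Type*} [Field k] {V : Type*} [AddCommGroup V] [Module k V] {j : K →+* k} {θ κ : ℕ}
  {vv : (Fin 4 → K) → (Fin 4 → K) → V} {ff : (Fin 4 → K) → (Fin 4 → K) → Module.Dual k V}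

/-- pair kernels -/
def PK (q : ℕ) (j : K →+* k) (θ κ : ℕ) (vv : (Fin 4 → K) → (Fin 4 → K) → V)
    (ff : (Fin 4 → K) → (Fin 4 → K) → Module.Dual k V) : Prop :=
  ∀ v w v' w', Ln q v w → Ln q v' w' →
    ff v' w' (vv v w) = j (∑ a, v a * v' a ^ q) ^ θ * j (∑ b, pl v w b * pl v' w' b ^ q) ^ κ

theorem PK.le_finrank [FiniteDimensional k V] (h : PK q j θ κ vv ff) {X Y : Type*} [Fintype X] [Fintype Y]
    {f : X → (Fin 4 → K) × (Fin 4 → K)} {g : Y → (Fin 4 → K) × (Fin 4 → K)} (hf : ∀ x, Ln q (f x).1 (f x).2)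
    (hg : ∀ y, Ln q (g y).1 (g y).2) {c : X → Y → k} {n : ℕ} (hn : Rk c n)
    (hc : ∀ x y, c x y = j (∑ a, (f x).1 a * (g y).1 a ^ q) ^ θ *
      j (∑ b, pl (f x).1 (f x).2 b * pl (g y).1 (g y).2 b ^ q) ^ κ) : n ≤ Module.finrank k V :=
  Rk.le_finrank (vv := fun x => vv (f x).1 (f x).2) (ff := fun y => ff (g y).1 (g y).2) (fun x y => by
    rw [h _ _ _ _ (hf x) (hg y), hc]) hn

theorem PK.sylvester [FiniteDimensional k V] (h : PK q j θ κ vv ff) {X Y α : Type*} [Fintype α]
    {f : X → (Fin 4 → K) × (Fin 4 → K)} {g : Y → (Fin 4 → K) × (Fin 4 → K)} (hf : ∀ x, Ln q (f x).1 (f x).2)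
    (hg : ∀ y, Ln q (g y).1 (g y).2) {F : X → α → k} {G : Y → α → k}
    (hc : ∀ x y, j (∑ a, (f x).1 a * (g y).1 a ^ q) ^ θ *
      j (∑ b, pl (f x).1 (f x).2 b * pl (g y).1 (g y).2 b ^ q) ^ κ = ∑ a, F x a * G y a)
    {S S' : Finset α} (hF : ∀ c : α → k, (∀ x, ∑ a, F x a * c a = 0) → (∀ a ∈ S, c a = 0) → c = 0)
    (hG : ∀ c : α → k, (∀ y, ∑ a, G y a * c a = 0) → (∀ a ∈ S', c a = 0) → c = 0) :
    Fintype.card α ≤ Module.finrank k V + S.card + S'.card :=
  H876.D3.sylvester (vv := fun x => vv (f x).1 (f x).2) (ff := fun y => ff (g y).1 (g y).2) (fun x y => by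
    rw [h _ _ _ _ (hf x) (hg y), hc]) hF hG

theorem pow_q_sq (hK : Fintype.card K = q ^ 2) (x : K) (n : ℕ) : x ^ (q ^ 2) ^ n = x := by
  rw [← hK, FiniteField.pow_card_pow]

/-- **Frobenius twists.** -/
theorem PK.twist (hK : Fintype.card K = q ^ 2) {p f : ℕ} [hp : Fact p.Prime] [CharP K p] (hf : q = p ^ f) (a : ℕ)
    {θ' : ℕ} (hθ : θ = p ^ a * θ') (h : PK q j θ κ vv ff) (hκ : κ ≠ 0) :
    ∃ κ', κ' ≠ 0 ∧ PK q (j.comp (iterateFrobenius K p a)) θ' κ' vv ff := by
  have hf0 : 0 < f := by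
    rcases Nat.eq_zero_or_pos f with h0 | h0
    · have := two_le_q hK
      rw [hf, h0, pow_zero] at this
      omega
    · exact h0
  have hle : a ≤ 2 * f * a := Nat.le_mul_of_pos_left _ (by omega)
  refine ⟨κ * p ^ (2 * f * a - a), mul_ne_zero hκ (pow_ne_zero _ hp.out.ne_zero), ?_⟩
  intro v w v' w' h1 h2
  rw [h v w v' w' h1 h2, hθ, pow_mul, RingHom.comp_apply, iterateFrobenius_def, map_pow, RingHom.comp_apply,
    iterateFrobenius_def, map_pow]
  congr 1
  set g := ∑ b, pl v w b * pl v' w' b ^ q with hg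
  rw [← pow_mul]
  have e1 : p ^ a * (κ * p ^ (2 * f * a - a)) = (q ^ 2) ^ a * κ := by
    have e2 : p ^ a * p ^ (2 * f * a - a) = (q ^ 2) ^ a := by
      rw [← pow_add, Nat.add_sub_cancel' hle, hf, ← pow_mul, ← pow_mul]
      congr 1
      ring
    rw [← e2]
    ring
  rw [e1, pow_mul, ← map_pow j g ((q ^ 2) ^ a), pow_q_sq hK]

end PK

section red

variable (W : WFrame (PU hK N) m)

/-- the vector with the coordinates `v` at the positions `i`, `i'` -/
noncomputable def vecI (i i' : Fin m) (c : Bool) (v : Fin 4 → K) : Fin N → K :=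
  v 0 • (toFrame W).b (i, c) + v 1 • (toFrame W).b (i, !c) +
    (v 2 • (toFrame W).b (i', c) + v 3 • (toFrame W).b (i', !c))

variable {i i' : Fin m} (hi : i ≠ i')
include hi

theorem herm_vecI_dual (c : Bool) (v w : Fin 4 → K) :
    hermForm N K q (vecI W i i' c v) (vecI W i i' (!c) w) =
      v 0 * w 0 ^ q + v 1 * w 1 ^ q + v 2 * w 2 ^ q + v 3 * w 3 ^ q := by
  unfold vecI
  simp only [herm_add_left, herm_add_right hK, herm_smul_left, herm_smul_right, hb_all]
  cases c <;> simp [hi, Ne.symm hi] <;> ring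

theorem herm_vecI (c : Bool) (v w : Fin 4 → K) :
    hermForm N K q (vecI W i i' c v) (vecI W i i' c w) =
      v 0 * w 1 ^ q + v 1 * w 0 ^ q + v 2 * w 3 ^ q + v 3 * w 2 ^ q := by
  unfold vecI
  simp only [herm_add_left, herm_add_right hK, herm_smul_left, herm_smul_right, hb_all]
  cases c <;> simp [hi, Ne.symm hi] <;> ring

omit hi in
theorem perp_vecI (r : ℕ) (c : Bool) (v : Fin 4 → K) : Perp W r ![i, i'] (vecI W i i' c v) := by
  intro a _ ha c'
  have h0 : a ≠ i := fun h => ha ⟨0, h.symm⟩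
  have h1 : a ≠ i' := fun h => ha ⟨1, h.symm⟩
  unfold vecI
  simp only [herm_add_right hK, herm_smul_right, hb_all]
  simp [h0, h1]

omit hi in
theorem inj_pair (hi : i ≠ i') : Function.Injective ![i, i'] := by
  intro a b hab
  fin_cases a <;> fin_cases b
  · rfl
  · exact absurd hab hi
  · exact absurd hab.symm hi
  · rfl

theorem loc_vecI (r : ℕ) (c : Bool) {v w : Fin 4 → K} (h : Ln q v w) :
    Loc W r ![i, i'] ![vecI W i i' c v, vecI W i i' c w] where
  perp t := by
    fin_cases t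
    · exact perp_vecI W r c v
    · exact perp_vecI W r c w
  iso t t' := by
    fin_cases t <;> fin_cases t'
    · exact (herm_vecI W hi c v v).trans h.vv
    · exact (herm_vecI W hi c v w).trans h.vw
    · exact (herm_vecI W hi c w v).trans h.wv
    · exact (herm_vecI W hi c w w).trans h.ww
  wit := by
    obtain ⟨b, hb⟩ := h.pl_ne
    have key : ∀ y z : Fin 4, v y * w z - v z * w y ≠ 0 → ∃ x : Fin 2 → Fin N → K, (∀ t, Perp W r ![i, i'] (x t)) ∧
        (Matrix.of fun t t' => hermForm N K q (![vecI W i i' c v, vecI W i i' c w] t) (x t')).det ≠ 0 := by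
      intro a b hab
      refine ⟨![vecI W i i' (!c) (Pi.single a 1), vecI W i i' (!c) (Pi.single b 1)], fun t => ?_, ?_⟩
      · fin_cases t
        · exact perp_vecI W _ _ _
        · exact perp_vecI W _ _ _
      · rw [Matrix.det_fin_two]
        simp only [Matrix.of_apply, Matrix.cons_val_zero, Matrix.cons_val_one]
        have e : ∀ (v : Fin 4 → K) (a : Fin 4), hermForm N K q (vecI W i i' c v) (vecI W i i' (!c) (Pi.single a 1)) =
            v a := by
          intro v a
          rw [herm_vecI_dual W hi]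
          fin_cases a <;> simp [zero_pow_q hK]
        rw [e, e, e, e]
        intro h0
        exact hab (by rw [← h0])
    fin_cases b
    · exact key 0 2 hb
    · exact key 0 3 hb
    · exact key 1 2 hb
    · exact key 1 3 hb
    · exact key 0 1 hb
    · exact key 2 3 hb

end red

section

variable {k : Type*} [Field k] {V : Type*} [AddCommGroup V] [Module k V] {j : K →+* k} {θ : Fin m → ℕ}
  {vv : (Fin m → Fin N → K) → V} {ff : (Fin m → Fin N → K) → Module.Dual k V}

/-- **The pair kernel of a module with two nodes.** -/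
theorem exists_pk (W : WFrame (PU hK N) m) (h : IsKer q m j θ vv ff) {a b : Fin m} (hab : a < b)
    (hb : θ b ≠ 0) : ∃ κ, κ ≠ 0 ∧ ∃ (vv' : (Fin 4 → K) → (Fin 4 → K) → V)
      (ff' : (Fin 4 → K) → (Fin 4 → K) → Module.Dual k V), PK q j (θ a) κ vv' ff' := by
  classical
  have ha1 : (a : ℕ) + 1 < m := by
    have := b.2
    have := Fin.lt_def.1 hab
    omega
  let a' : Fin m := ⟨a + 1, ha1⟩
  have haa' : a < a' := Fin.lt_def.2 (Nat.lt_succ_self _)
  have hne : a ≠ a' := haa'.ne
  have hι := inj_pair hne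
  refine ⟨∑ i ∈ Finset.univ.filter (fun i => a < i), θ i, ?_,
    fun v w => vv (upd W.e ![a, a'] ![vecI W a a' true v, vecI W a a' true w]),
    fun v w => ff (upd W.f ![a, a'] ![vecI W a a' false v, vecI W a a' false w]), ?_⟩
  · intro h0
    rw [Finset.sum_eq_zero_iff] at h0
    exact hb (h0 b (Finset.mem_filter.2 ⟨Finset.mem_univ _, hab⟩))
  intro v w v' w' h1 h2
  have hr : ∀ t, (![a, a'] t : ℕ) < m := fun t => (![a, a'] t).2
  have hf1 : PFr q m (upd W.e ![a, a'] ![vecI W a a' true v, vecI W a a' true w]) :=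
    pfr_upd hι hr (loc_vecI W hne m true h1) true
  have hf2 : PFr q m (upd W.f ![a, a'] ![vecI W a a' false v', vecI W a a' false w']) :=
    pfr_upd hι hr (loc_vecI W hne m false h2) false
  rw [h.ker _ _ hf1 hf2]
  have hy : ∀ t, Perp W m ![a, a'] (![vecI W a a' false v', vecI W a a' false w'] t) :=
    (loc_vecI W hne m false h2).perp
  -- the minors
  have g0 : ∀ i : Fin m, i < a → Gr q i (upd W.e ![a, a'] ![vecI W a a' true v, vecI W a a' true w])
      (upd W.f ![a, a'] ![vecI W a a' false v', vecI W a a' false w']) = 1 := by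
    intro i hi
    rw [Gr_upd hι hy (s' := 0) (κ := fun t => t.elim0) (fun t => t.elim0) i.2 (fun t => t.elim0) (fun t _ => by
      fin_cases t
      · exact not_le.2 hi
      · exact not_le.2 (hi.trans haa')), Matrix.det_isEmpty]
  have g1 : Gr q a (upd W.e ![a, a'] ![vecI W a a' true v, vecI W a a' true w])
      (upd W.f ![a, a'] ![vecI W a a' false v', vecI W a a' false w']) = ∑ i, v i * v' i ^ q := by
    rw [Gr_upd hι hy (s' := 1) (κ := fun _ => 0) (fun s t _ => Subsingleton.elim s t) a.2 (fun t => le_rfl)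
      (fun t ht => by
        fin_cases t
        · exact absurd ⟨0, rfl⟩ ht
        · exact not_le.2 haa'), Matrix.det_fin_one, Matrix.of_apply]
    refine (herm_vecI_dual W hne true v v').trans ?_
    rw [Fin.sum_univ_four]
  have g2 : ∀ i : Fin m, a < i → Gr q i (upd W.e ![a, a'] ![vecI W a a' true v, vecI W a a' true w])
      (upd W.f ![a, a'] ![vecI W a a' false v', vecI W a a' false w']) = ∑ b, pl v w b * pl v' w' b ^ q := by
    intro i hi
    have hi' : a' ≤ i := Fin.le_def.2 (Nat.succ_le_of_lt (Fin.lt_def.1 hi))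
    rw [Gr_upd hι hy (s' := 2) (κ := id) Function.injective_id i.2 (fun t => by
      fin_cases t
      · exact hi.le
      · exact hi') (fun t ht => absurd ⟨t, rfl⟩ ht), Matrix.det_fin_two]
    simp only [Matrix.of_apply, id, Matrix.cons_val_zero, Matrix.cons_val_one]
    have e := herm_vecI_dual W hne true
    simp only [Bool.not_true] at e
    rw [e, e, e, e]
    have hs : ∀ a b : K, (a - b) ^ q = a ^ q - b ^ q := fun a b => by
      rw [sub_eq_add_neg, add_pow_q hK, neg_pow_q hK, ← sub_eq_add_neg]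
    simp only [Fin.sum_univ_six, pl, Matrix.cons_val]
    simp only [hs, mul_pow]
    ring
  rw [← Finset.prod_pow_eq_pow_sum, Finset.prod_filter, ← Finset.mul_prod_erase Finset.univ _ (Finset.mem_univ a), g1]
  congr 1
  rw [← Finset.mul_prod_erase Finset.univ _ (Finset.mem_univ a), if_neg (lt_irrefl a), one_mul]
  refine Finset.prod_congr rfl fun i hi => ?_
  have hia := Finset.ne_of_mem_erase hi
  rcases lt_or_gt_of_ne hia with h3 | h3
  · rw [g0 i h3, map_one, one_pow, if_neg (not_lt.2 h3.le)]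
  · rw [g2 i h3, if_pos h3]

end

end Cfsg.Agent.H876.D3
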