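import Cfsg.Agent.H876.D3.FanNum

/-!
# The kernel `j(G_2) ^ θ` on pairs (helper876)

* `pow_indep` : independence of monomials;
* `pr2 x y` : the family with `x` at `0`, `y` elsewhere; `pfr_two`, `Gr_one`, `prod_two`;
* `vec W c v` : the vector with the coordinates `v`; `pl v w` : Plücker coordinates; `G2_pl`;
* `node1_sq` : `RR θ ^ 2 ≤ dim V`.
-/

set_option autoImplicit false
set_option linter.unusedSectionVars false

namespace Cfsg.Agent.H876.D3

open Cfsg Cfsg.Geo Matrix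
open LieClassical.HermBasic LieClassical.HermSiegel Cfsg.Agent.TitsThree.KSideU Cfsg.Agent.TitsThree.KSideUDesc
  Cfsg.Agent.TitsThree.WBridge Cfsg.Agent.TitsThree.SiegelGen Cfsg.Agent.TitsThree.Siegel Cfsg.Agent.H61.SUCross
  Cfsg.Agent.TitsThree.WittFrame
open Cfsg.Agent.Phan (fixedField mem_fixedField card_fixedField)

/-- independence of monomials -/
theorem pow_indep {k T : Type*} [Field k] [Fintype T] {τ : T → k} (hτ : Function.Injective τ) {n : ℕ} (e : Fin n → ℕ)
    (he : Function.Injective e) (hlt : ∀ i, e i < Fintype.card T) (c : Fin n → k)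
    (h : ∀ t, ∑ i, c i * τ t ^ e i = 0) : c = 0 := by
  obtain ⟨A, hA⟩ := exists_dual_pow τ hτ
  ext i
  have h1 : ∑ t, A (e i) t * ∑ l, c l * τ t ^ e l = 0 := Finset.sum_eq_zero fun t _ => by rw [h t, mul_zero]
  have h2 : ∑ t, A (e i) t * ∑ l, c l * τ t ^ e l = ∑ l, c l * ∑ t, A (e i) t * τ t ^ e l := by
    simp only [Finset.mul_sum]
    rw [Finset.sum_comm]
    exact Finset.sum_congr rfl fun l _ => Finset.sum_congr rfl fun t _ => by ring
  rw [h2, Finset.sum_eq_single i] at h1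
  · rwa [hA _ (hlt i) _ (hlt i), if_pos rfl, mul_one] at h1
  · intro l _ hl
    rw [hA _ (hlt i) _ (hlt l), if_neg (fun h3 => hl (he h3).symm), mul_zero]
  · intro h3; exact absurd (Finset.mem_univ _) h3

variable {K : Type} [Field K] [Fintype K] {N q m : ℕ} {hK : Fintype.card K = q ^ 2}

/-- the family of a pair -/
def pr2 (x y : Fin N → K) : Fin m → Fin N → K := fun a => if (a : ℕ) = 0 then x else y

theorem pfr_two (hm : 2 ≤ m) {x y : Fin N → K} (hxx : hermForm N K q x x = 0) (hxy : hermForm N K q x y = 0)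
    (hyx : hermForm N K q y x = 0) (hyy : hermForm N K q y y = 0) (hli : ∀ a b : K, a • x + b • y = 0 → a = 0 ∧ b = 0) :
    PFr (m := m) q 2 (pr2 x y) where
  iso a b _ _ := by
    unfold pr2
    split_ifs <;> assumption
  li := by
    let e : Fin 2 ≃ {a : Fin m // (a : ℕ) < 2} :=
      { toFun := fun a => ⟨⟨a, by omega⟩, a.2⟩
        invFun := fun a => ⟨a.1, a.2⟩
        left_inv := fun a => rfl
        right_inv := fun a => rfl }
    rw [← linearIndependent_equiv e]
    have h1 : (fun a : {a : Fin m // (a : ℕ) < 2} => pr2 (m := m) x y a.1) ∘ e = ![x, y] := by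
      ext a i
      fin_cases a
      · rfl
      · rfl
    rw [h1, LinearIndependent.pair_iff]
    exact hli

theorem Gr_one (hm : 2 ≤ m) (u u' : Fin m → Fin N → K) :
    Gr q ⟨1, by omega⟩ u u' = hermForm N K q (u ⟨0, by omega⟩) (u' ⟨0, by omega⟩) *
      hermForm N K q (u ⟨1, by omega⟩) (u' ⟨1, by omega⟩) -
      hermForm N K q (u ⟨0, by omega⟩) (u' ⟨1, by omega⟩) *
      hermForm N K q (u ⟨1, by omega⟩) (u' ⟨0, by omega⟩) := by
  unfold Gr
  let e : Fin 2 ≃ {a : Fin m // a ≤ ⟨1, by omega⟩} :=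
    { toFun := fun a => ⟨⟨a, by omega⟩, Fin.le_def.2 (by have := a.2; simp only; omega)⟩
      invFun := fun a => ⟨a.1, by have := Fin.le_def.1 a.2; simp only at this; omega⟩
      left_inv := fun a => rfl
      right_inv := fun a => rfl }
  rw [← Matrix.det_submatrix_equiv_self e, Matrix.det_fin_two]
  simp only [Matrix.submatrix_apply, Matrix.of_apply]
  rfl

section coords

variable (W : WFrame (PU hK N) m) (hm : 2 ≤ m)

/-- the vector with the coordinates `v` -/
noncomputable def vec (c : Bool) (v : Fin 4 → K) : Fin N → K :=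
  v 0 • (toFrame W).b (⟨0, by omega⟩, c) + v 1 • (toFrame W).b (⟨0, by omega⟩, !c) +
    (v 2 • (toFrame W).b (⟨1, by omega⟩, c) + v 3 • (toFrame W).b (⟨1, by omega⟩, !c))

theorem herm_vec_dual (c : Bool) (v w : Fin 4 → K) :
    hermForm N K q (vec W hm c v) (vec W hm (!c) w) = v 0 * w 0 ^ q + v 1 * w 1 ^ q + v 2 * w 2 ^ q + v 3 * w 3 ^ q := by
  unfold vec
  simp only [herm_add_left, herm_add_right hK, herm_smul_left, herm_smul_right, hb_all]
  cases c <;> simp <;> ring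

theorem herm_vec (c : Bool) (v w : Fin 4 → K) :
    hermForm N K q (vec W hm c v) (vec W hm c w) = v 0 * w 1 ^ q + v 1 * w 0 ^ q + v 2 * w 3 ^ q + v 3 * w 2 ^ q := by
  unfold vec
  simp only [herm_add_left, herm_add_right hK, herm_smul_left, herm_smul_right, hb_all]
  cases c <;> simp <;> ring

theorem vec_smul_add (c : Bool) (a b : K) (v w : Fin 4 → K) :
    a • vec W hm c v + b • vec W hm c w = vec W hm c (fun i => a * v i + b * w i) := by
  unfold vec
  module

theorem vec_zero {c : Bool} {v : Fin 4 → K} (h : vec W hm c v = 0) : v = 0 := by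
  have h1 : ∀ w, hermForm N K q (vec W hm c v) (vec W hm (!c) w) = 0 := fun w => by rw [h]; exact herm_zero_left _
  simp only [herm_vec_dual] at h1
  have h10 := h1 ![1, 0, 0, 0]
  have h11 := h1 ![0, 1, 0, 0]
  have h12 := h1 ![0, 0, 1, 0]
  have h13 := h1 ![0, 0, 0, 1]
  simp [zero_pow_q hK] at h10 h11 h12 h13
  ext i
  fin_cases i <;> assumption

/-- Plücker coordinates -/
def pl (v w : Fin 4 → K) : Fin 6 → K :=
  ![v 0 * w 2 - v 2 * w 0, v 0 * w 3 - v 3 * w 0, v 1 * w 2 - v 2 * w 1, v 1 * w 3 - v 3 * w 1,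
    v 0 * w 1 - v 1 * w 0, v 2 * w 3 - v 3 * w 2]

/-- an isotropic line in coordinates -/
structure Ln (q : ℕ) (v w : Fin 4 → K) : Prop where
  vv : v 0 * v 1 ^ q + v 1 * v 0 ^ q + v 2 * v 3 ^ q + v 3 * v 2 ^ q = 0
  vw : v 0 * w 1 ^ q + v 1 * w 0 ^ q + v 2 * w 3 ^ q + v 3 * w 2 ^ q = 0
  wv : w 0 * v 1 ^ q + w 1 * v 0 ^ q + w 2 * v 3 ^ q + w 3 * v 2 ^ q = 0
  ww : w 0 * w 1 ^ q + w 1 * w 0 ^ q + w 2 * w 3 ^ q + w 3 * w 2 ^ q = 0
  pl_ne : ∃ b, pl v w b ≠ 0

omit [Fintype K] in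
theorem Ln.li {v w : Fin 4 → K} (h : Ln q v w) {a b : K} (h0 : ∀ i, a * v i + b * w i = 0) : a = 0 ∧ b = 0 := by
  obtain ⟨i, hi⟩ := h.pl_ne
  have key : ∀ r s : Fin 4, v r * w s - v s * w r ≠ 0 → a = 0 ∧ b = 0 := by
    intro r s hrs
    have h1 := h0 r
    have h2 := h0 s
    constructor
    · have h3 : a * (v r * w s - v s * w r) = 0 := by linear_combination w s * h1 - w r * h2
      exact (mul_eq_zero.1 h3).resolve_right hrs
    · have h3 : b * (v r * w s - v s * w r) = 0 := by linear_combination v r * h2 - v s * h1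
      exact (mul_eq_zero.1 h3).resolve_right hrs
  fin_cases i
  · exact key 0 2 hi
  · exact key 0 3 hi
  · exact key 1 2 hi
  · exact key 1 3 hi
  · exact key 0 1 hi
  · exact key 2 3 hi

theorem Ln.pfr (c : Bool) {v w : Fin 4 → K} (h : Ln q v w) :
    PFr (m := m) q 2 (pr2 (vec W hm c v) (vec W hm c w)) := by
  refine pfr_two hm (by rw [herm_vec, h.vv]) (by rw [herm_vec, h.vw]) (by rw [herm_vec, h.wv])
    (by rw [herm_vec, h.ww]) fun a b hab => ?_
  rw [vec_smul_add] at hab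
  exact h.li fun i => congrFun (vec_zero W hm hab) i

theorem G2_pl (c : Bool) (v w v' w' : Fin 4 → K) :
    Gr q ⟨1, by omega⟩ (pr2 (m := m) (vec W hm c v) (vec W hm c w)) (pr2 (vec W hm (!c) v') (vec W hm (!c) w')) =
      ∑ b, pl v w b * pl v' w' b ^ q := by
  have e1 : ∀ x y : Fin N → K, pr2 (m := m) x y ⟨0, by omega⟩ = x := fun x y => rfl
  have e2 : ∀ x y : Fin N → K, pr2 (m := m) x y ⟨1, by omega⟩ = y := fun x y => rfl
  have hs : ∀ a b : K, (a - b) ^ q = a ^ q - b ^ q := fun a b => by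
    rw [sub_eq_add_neg, add_pow_q hK, neg_pow_q hK, ← sub_eq_add_neg]
  rw [Gr_one hm, e1, e1, e2, e2, herm_vec_dual, herm_vec_dual, herm_vec_dual, herm_vec_dual]
  simp only [Fin.sum_univ_six, pl, Matrix.cons_val]
  simp only [hs, mul_pow]
  ring

theorem G2_pl' (v w v' w' : Fin 4 → K) :
    Gr q ⟨1, by omega⟩ (pr2 (m := m) (vec W hm true v) (vec W hm true w))
      (pr2 (vec W hm false v') (vec W hm false w')) = ∑ b, pl v w b * pl v' w' b ^ q := G2_pl W hm true v w v' w'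

end coords

section Ker

variable {k : Type*} [Field k] {V : Type*} [AddCommGroup V] [Module k V] [FiniteDimensional k V]
  {j : K →+* k} {θ : Fin m → ℕ} {vv : (Fin m → Fin N → K) → V}
  {ff : (Fin m → Fin N → K) → Module.Dual k V}

theorem prod_two (hm : 2 ≤ m) (hθ : ∀ i : Fin m, (i : ℕ) ≠ 1 → θ i = 0) (u u' : Fin m → Fin N → K) :
    ∏ i, j (Gr q i u u') ^ θ i = j (Gr q ⟨1, by omega⟩ u u') ^ θ ⟨1, by omega⟩ := by
  rw [Finset.prod_eq_single ⟨1, by omega⟩]
  · intro i _ hi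
    rw [hθ i (fun h => hi (Fin.ext h)), pow_zero]
  · intro h; exact absurd (Finset.mem_univ _) h

/-- the lines of the fans -/
theorem ln_S (hK : Fintype.card K = q ^ 2) {ε : K} (hε : ε ^ q = -ε) (s t : K) (hs : s ^ q = s) (ht : t ^ q = t) :
    Ln q ![1, ε * s, 0, 0] ![0, 0, 1, ε * t] where
  vv := by simp [mul_pow, hε, hs, zero_pow_q hK]
  vw := by simp [zero_pow_q hK]
  wv := by simp [zero_pow_q hK]
  ww := by simp [mul_pow, hε, ht, zero_pow_q hK]
  pl_ne := ⟨0, by simp [pl]⟩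

/-- **The square of the rank.** -/
theorem node1_sq (p : ℕ) [hp : Fact p.Prime] [CharP K p] [CharP k p] (hm : 2 ≤ m) (W : WFrame (PU hK N) m)
    (h : IsKer q 2 j θ vv ff) (hθ : ∀ i : Fin m, (i : ℕ) ≠ 1 → θ i = 0) :
    RR p q (θ ⟨1, by omega⟩) * RR p q (θ ⟨1, by omega⟩) ≤ Module.finrank k V := by
  obtain ⟨ε, hε, hε0⟩ := exists_delta hK
  obtain ⟨c, hc⟩ := fan_scalar (hK := hK) hε
  have hc0 : c ≠ 0 := by
    intro h0
    have h1 : (c : K) = 0 := by rw [h0]; rfl
    rw [hc, neg_eq_zero] at h1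
    exact hε0 (pow_eq_zero_iff (two_ne_zero)|>.1 h1)
  have : Fintype (fixedField hK) := Fintype.ofFinite _
  let jE : fixedField hK →+* k := j.comp (fixedField hK).subtype
  have h1 := Rk_RR (p := p) jE hc0 (θ ⟨1, by omega⟩)
  rw [card_E] at h1
  refine h.le_finrank (X := fixedField hK × fixedField hK) (Y := fixedField hK × fixedField hK)
    (f := fun x => pr2 (vec W hm true ![1, ε * x.1, 0, 0]) (vec W hm true ![0, 0, 1, ε * x.2]))
    (g := fun x => pr2 (vec W hm false ![1, ε * x.1, 0, 0]) (vec W hm false ![0, 0, 1, ε * x.2]))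
    (fun x => (ln_S hK hε _ _ (E_q hK _) (E_q hK _)).pfr W hm true)
    (fun x => (ln_S hK hε _ _ (E_q hK _) (E_q hK _)).pfr W hm false) (fun x y => ?_) (h1.kron h1)
  rw [prod_two hm hθ, G2_pl' W hm]
  have e1 : ∀ s : fixedField hK, (ε * s) ^ q = -ε * s := fun s => by rw [mul_pow, hε, E_q hK]
  have e2 : ∑ b, pl ![1, ε * (x.1 : K), 0, 0] ![0, 0, 1, ε * (x.2 : K)] b *
      pl ![1, ε * (y.1 : K), 0, 0] ![0, 0, 1, ε * (y.2 : K)] b ^ q =
      ((1 + c * (x.1 * y.1) : fixedField hK) : K) * ((1 + c * (x.2 * y.2) : fixedField hK) : K) := by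
    simp only [Fin.sum_univ_six, pl, Matrix.cons_val]
    push_cast
    simp only [mul_one, mul_zero, zero_mul, sub_zero, one_mul, one_pow, zero_pow_q hK, mul_pow,
      hε, E_q hK, sub_self]
    rw [hc]
    ring
  rw [e2, map_mul, mul_pow]
  rfl

end Ker

end Cfsg.Agent.H876.D3
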