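import Cfsg.Agent.H876.D3.Pair

/-!
# The kernel `j(G_2) ^ θ` on pairs: the bound (helper876)

* `Rk.add_sum`; `pow_red'`; `ln_ell`;
* **`pair_bound`** : `|I| ^ 2 + |I| (|I| - 1) ≤ dim V`, `I = Ib p (red q θ)`.
-/

set_option autoImplicit false
set_option linter.unusedSectionVars false

namespace Cfsg.Agent.H876.D3

open Cfsg Cfsg.Geo Matrix
open LieClassical.HermBasic LieClassical.HermSiegel Cfsg.Agent.TitsThree.KSideU Cfsg.Agent.TitsThree.KSideUDesc
  Cfsg.Agent.TitsThree.WBridge Cfsg.Agent.TitsThree.SiegelGen Cfsg.Agent.TitsThree.Siegel Cfsg.Agent.H61.SUCross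
  Cfsg.Agent.TitsThree.WittFrame
open Cfsg.Agent.Phan (fixedField mem_fixedField card_fixedField)

section

variable {k : Type*} [Field k] {X Y X' Y' : Type*} [Fintype X] [Fintype Y] [Fintype X'] [Fintype Y']

/-- block triangular kernels -/
theorem Rk.add_sum {κ : X ⊕ X' → Y ⊕ Y' → k} {a : ℕ} (h : Rk (fun x y => κ (Sum.inl x) (Sum.inl y)) a)
    {β : Type*} [Fintype β] [DecidableEq β] (P' : β → X' → k) (Q' : β → Y' → k)
    (h' : ∀ i j, bl (fun x y => κ (Sum.inr x) (Sum.inr y)) (P' i) (Q' j) = if i = j then 1 else 0)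
    (h0 : ∀ x j, ∑ y, κ (Sum.inl x) (Sum.inr y) * Q' j y = 0) : Rk κ (a + Fintype.card β) := by
  obtain ⟨P, Q, e⟩ := h
  have key := Rk.add_of (κ := κ) (α := Fin a) (β := β) (P := fun i => Sum.elim (P i) 0)
    (Q := fun i => Sum.elim (Q i) 0) (P' := fun i => Sum.elim 0 (P' i)) (Q' := fun i => Sum.elim 0 (Q' i)) ?_ ?_ ?_
  · rwa [Fintype.card_fin] at key
  · intro i j
    rw [← e]
    simp [bl, Fintype.sum_sum_type]
  · intro i j
    rw [← h']
    simp [bl, Fintype.sum_sum_type]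
  · intro i j
    simp only [bl, Fintype.sum_sum_type, Sum.elim_inl, Sum.elim_inr, Pi.zero_apply, mul_zero, zero_mul,
      Finset.sum_const_zero, add_zero, zero_add]
    refine Finset.sum_eq_zero fun x _ => ?_
    simp only [mul_assoc]
    rw [← Finset.mul_sum, h0, mul_zero]

end

variable {K : Type} [Field K] [Fintype K] {N q m : ℕ} {hK : Fintype.card K = q ^ 2}

theorem pow_red' (hK : Fintype.card K = q ^ 2) {g : K} (hg : g ^ q = g) {e : ℕ} (he : e ≠ 0) :
    g ^ red q e = g ^ e := by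
  have : Fintype (fixedField hK) := Fintype.ofFinite _
  have h1 := pow_red (E := fixedField hK) he ⟨g, (mem_fixedField hK _).2 hg⟩
  rw [card_E] at h1
  exact congrArg Subtype.val h1

theorem ln_ell (hK : Fintype.card K = q ^ 2) (z : K) : Ln q ![1, 0, 0, z] ![0, -z ^ q, 1, 0] where
  vv := by simp [zero_pow_q hK]
  vw := by simp [zero_pow_q hK, neg_pow_q hK, pow_q_pow_q hK]
  wv := by simp [zero_pow_q hK]
  ww := by simp [zero_pow_q hK]
  pl_ne := ⟨0, by simp [pl]⟩

section Ker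

variable {k : Type*} [Field k] {V : Type*} [AddCommGroup V] [Module k V] [FiniteDimensional k V]
  {j : K →+* k} {θ : Fin m → ℕ} {vv : (Fin m → Fin N → K) → V}
  {ff : (Fin m → Fin N → K) → Module.Dual k V}

theorem exists_c (hK : Fintype.card K = q ^ 2) : ∃ (ε : K) (c : fixedField hK), ε ^ q = -ε ∧ ε ≠ 0 ∧ c ≠ 0 ∧
    (c : K) = -ε ^ 2 := by
  obtain ⟨ε, hε, hε0⟩ := exists_delta hK
  obtain ⟨c, hc⟩ := fan_scalar (hK := hK) hε
  refine ⟨ε, c, hε, hε0, ?_, hc⟩
  intro h0
  have h1 : (c : K) = 0 := by rw [h0]; rfl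
  rw [hc, neg_eq_zero] at h1
  exact hε0 (pow_eq_zero_iff (two_ne_zero)|>.1 h1)

theorem G2_SS {ε : K} (hε : ε ^ q = -ε) {c : fixedField hK} (hc : (c : K) = -ε ^ 2) (x y : fixedField hK × fixedField hK) :
    ∑ b, pl ![1, ε * (x.1 : K), 0, 0] ![0, 0, 1, ε * (x.2 : K)] b *
      pl ![1, ε * (y.1 : K), 0, 0] ![0, 0, 1, ε * (y.2 : K)] b ^ q =
      ((1 + c * (x.1 * y.1) : fixedField hK) : K) * ((1 + c * (x.2 * y.2) : fixedField hK) : K) := by
  simp only [Fin.sum_univ_six, pl, Matrix.cons_val]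
  push_cast
  simp only [mul_one, mul_zero, zero_mul, sub_zero, one_mul, one_pow, zero_pow_q hK, mul_pow, hε, E_q hK, sub_self]
  rw [hc]
  ring

theorem G2_Sl {ε : K} {c : fixedField hK} (hc : (c : K) = -ε ^ 2) (x : fixedField hK × fixedField hK)
    (z : K) : ∑ b, pl ![1, ε * (x.1 : K), 0, 0] ![0, 0, 1, ε * (x.2 : K)] b * pl ![1, 0, 0, z] ![0, -z ^ q, 1, 0] b ^ q =
      1 + (-(c * (x.1 * x.2)) : fixedField hK) * z ^ (q + 1) := by
  simp only [Fin.sum_univ_six, pl, Matrix.cons_val]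
  push_cast
  simp only [mul_one, mul_zero, zero_mul, sub_zero, one_mul, one_pow, zero_sub, zero_pow_q hK, mul_pow,
    neg_pow_q hK, mul_neg, sub_self, add_zero, pow_q_pow_q hK, neg_zero]
  rw [hc]
  ring

theorem G2_ll (hK : Fintype.card K = q ^ 2) (z z' : K) : ∑ b, pl ![1, 0, 0, z] ![0, -z ^ q, 1, 0] b * pl ![1, 0, 0, z'] ![0, -z' ^ q, 1, 0] b ^ q =
      (1 + z * z' ^ q) * (1 + (z * z' ^ q) ^ q) := by
  simp only [Fin.sum_univ_six, pl, Matrix.cons_val]
  simp only [mul_one, mul_zero, zero_mul, sub_zero, one_mul, one_pow, zero_sub, zero_pow_q hK, mul_pow,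
    neg_pow_q hK, mul_neg, _root_.neg_neg, sub_self, add_zero, pow_q_pow_q hK, neg_zero, neg_mul]
  ring

/-- **The bound for the kernel `j(G_2) ^ θ`.** -/
theorem pair_bound (p : ℕ) [hp : Fact p.Prime] [CharP K p] [CharP k p] (hm : 2 ≤ m) (W : WFrame (PU hK N) m)
    (h : IsKer q 2 j θ vv ff) (hθ : ∀ i : Fin m, (i : ℕ) ≠ 1 → θ i = 0) (h1θ : θ ⟨1, by omega⟩ ≠ 0) :
    (Ib p (red q (θ ⟨1, by omega⟩))).card * (Ib p (red q (θ ⟨1, by omega⟩))).card +
      ((Ib p (red q (θ ⟨1, by omega⟩))).card * (Ib p (red q (θ ⟨1, by omega⟩))).card -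
        (Ib p (red q (θ ⟨1, by omega⟩))).card) ≤ Module.finrank k V := by
  classical
  obtain ⟨ε, c, hε, hε0, hc0, hc⟩ := exists_c hK
  have hq2 : 2 ≤ q := two_le_q hK
  have : Fintype (fixedField hK) := Fintype.ofFinite _
  let jE : fixedField hK →+* k := j.comp (fixedField hK).subtype
  set t := θ ⟨1, by omega⟩ with ht
  set e := red q t with he
  set I := Ib p e with hI
  have heq : e ≤ q - 1 := red_le hq2
  have hlt : ∀ i ∈ I, i ≤ q - 1 := fun i hi => (mem_Ib.1 hi).1.trans heq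
  -- the exponents
  have hexp : ∀ i ∈ I, ∀ l ∈ I, i + q * l < Fintype.card K := by
    intro i hi l hl
    have h1 := hlt i hi
    have h2 := hlt l hl
    rw [hK]
    have h3 : q * l ≤ q * (q - 1) := Nat.mul_le_mul_left q h2
    have h4 : q * (q - 1) + q = q ^ 2 := by
      rw [sq, ← Nat.mul_succ, Nat.succ_eq_add_one, Nat.sub_add_cancel (by omega)]
    omega
  have hinj : ∀ i ∈ I, ∀ l ∈ I, ∀ i' ∈ I, ∀ l' ∈ I, i + q * l = i' + q * l' → i = i' ∧ l = l' := by
    intro i hi l hl i' hi' l' hl' h3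
    have h1 := hlt i hi
    have h2 := hlt i' hi'
    have h4 : (i + q * l) % q = (i' + q * l') % q := by rw [h3]
    rw [Nat.add_mul_mod_self_left, Nat.add_mul_mod_self_left, Nat.mod_eq_of_lt (by omega),
      Nat.mod_eq_of_lt (by omega)] at h4
    refine ⟨h4, ?_⟩
    subst h4
    exact Nat.eq_of_mul_eq_mul_left (by omega) (Nat.add_left_cancel h3)
  obtain ⟨A, hA⟩ := exists_dual_pow j j.injective
  obtain ⟨B, hB⟩ := exists_dual_pow (jb hK j) (jb hK j).injective
  let f : (fixedField hK × fixedField hK) ⊕ K → (Fin 4 → K) × (Fin 4 → K) :=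
    Sum.elim (fun x => (![1, ε * (x.1 : K), 0, 0], ![0, 0, 1, ε * (x.2 : K)]))
      (fun z => (![1, 0, 0, z], ![0, -z ^ q, 1, 0]))
  have hf : ∀ x, Ln q (f x).1 (f x).2 := by
    rintro (x | z)
    · exact ln_S hK hε _ _ (E_q hK _) (E_q hK _)
    · exact ln_ell hK z
  let κ : (fixedField hK × fixedField hK) ⊕ K → (fixedField hK × fixedField hK) ⊕ K → k := fun x y =>
    j (∑ b, pl (f x).1 (f x).2 b * pl (f y).1 (f y).2 b ^ q) ^ t
  have hRk : Rk κ (I.card * I.card + Fintype.card {z : I × I // z.1 ≠ z.2}) := by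
    refine Rk.add_sum ?_ (fun z : {z : I × I // z.1 ≠ z.2} => fun x =>
        ((e.choose z.1.1 : k) * (e.choose z.1.2 : k))⁻¹ * A (z.1.1 + q * z.1.2) x)
      (fun z : {z : I × I // z.1 ≠ z.2} => fun x => B (z.1.1 + q * z.1.2) x) ?_ ?_
    · have h1 := Rk_pow (p := p) jE hc0 h1θ
      rw [card_E] at h1
      refine (h1.kron h1).congr fun x y => ?_
      change j (∑ b, pl ![1, ε * (x.1 : K), 0, 0] ![0, 0, 1, ε * (x.2 : K)] b *
        pl ![1, ε * (y.1 : K), 0, 0] ![0, 0, 1, ε * (y.2 : K)] b ^ q) ^ t = _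
      rw [G2_SS hε hc, map_mul, mul_pow]
      rfl
    · rintro ⟨⟨i, l⟩, hil⟩ ⟨⟨i', l'⟩, hil'⟩
      have hker : ∀ z z' : K, κ (Sum.inr z) (Sum.inr z') = ∑ a ∈ I ×ˢ I,
          ((e.choose a.1 : k) * (e.choose a.2 : k)) * (j z ^ (a.1 + q * a.2) * jb hK j z' ^ (a.1 + q * a.2)) := by
        intro z z'
        change j (∑ b, pl ![1, 0, 0, z] ![0, -z ^ q, 1, 0] b * pl ![1, 0, 0, z'] ![0, -z' ^ q, 1, 0] b ^ q) ^ t = _
        rw [G2_ll hK]
        have hg : ((1 + z * z' ^ q) * (1 + (z * z' ^ q) ^ q)) ^ q = (1 + z * z' ^ q) * (1 + (z * z' ^ q) ^ q) := by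
          rw [mul_pow, add_pow_q hK, add_pow_q hK, one_pow, pow_q_pow_q hK]
          ring
        rw [← map_pow, ← pow_red' hK hg h1θ, ← he, map_pow, map_mul, mul_pow, map_add, map_add, map_one,
          add_pow_Ib (p := p), add_pow_Ib (p := p), Finset.sum_mul_sum, ← Finset.sum_product']
        refine Finset.sum_congr rfl fun a _ => ?_
        have e1 : j (z * z' ^ q) = j z * jb hK j z' := by rw [map_mul, jb_apply]
        have e2 : j ((z * z' ^ q) ^ q) = j z ^ q * jb hK j z' ^ q := by rw [map_pow, e1, mul_pow]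
        rw [one_pow, one_pow, e1, e2, one_mul, one_mul, mul_pow, mul_pow, ← pow_mul, ← pow_mul, pow_add, pow_add]
        ring
      have hbl : bl (fun x y => κ (Sum.inr x) (Sum.inr y)) (fun x =>
          ((e.choose i : k) * (e.choose l : k))⁻¹ * A ((i : ℕ) + q * l) x) (fun x => B ((i' : ℕ) + q * l') x) =
          ∑ a ∈ I ×ˢ I, ((e.choose i : k) * (e.choose l : k))⁻¹ * ((e.choose a.1 : k) * (e.choose a.2 : k)) *
            ((∑ z, A ((i : ℕ) + q * l) z * j z ^ (a.1 + q * a.2)) *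
              ∑ z, B ((i' : ℕ) + q * l') z * jb hK j z ^ (a.1 + q * a.2)) := by
        simp only [hker]
        rw [bl_kernel_sum]
        refine Finset.sum_congr rfl fun a _ => ?_
        unfold bl
        rw [Finset.sum_mul_sum, Finset.mul_sum]
        refine Finset.sum_congr rfl fun x _ => ?_
        rw [Finset.mul_sum]
        refine Finset.sum_congr rfl fun y _ => by ring
      refine hbl.trans ?_
      have hterm : ∀ a ∈ I ×ˢ I, ((e.choose i : k) * (e.choose l : k))⁻¹ * ((e.choose a.1 : k) * (e.choose a.2 : k)) *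
            ((∑ z, A ((i : ℕ) + q * l) z * j z ^ (a.1 + q * a.2)) *
              ∑ z, B ((i' : ℕ) + q * l') z * jb hK j z ^ (a.1 + q * a.2)) =
          if a = ((i : ℕ), (l : ℕ)) ∧ a = ((i' : ℕ), (l' : ℕ)) then 1 else 0 := by
        intro a ha
        have ha' := Finset.mem_product.1 ha
        rw [hA _ (hexp _ i.2 _ l.2) _ (hexp _ ha'.1 _ ha'.2), hB _ (hexp _ i'.2 _ l'.2) _ (hexp _ ha'.1 _ ha'.2)]
        have e1 : ((i : ℕ) + q * l = a.1 + q * a.2) ↔ a = ((i : ℕ), (l : ℕ)) := by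
          constructor
          · intro h3
            have h4 := hinj _ i.2 _ l.2 _ ha'.1 _ ha'.2 h3
            exact Prod.ext h4.1.symm h4.2.symm
          · intro h3
            rw [h3]
        have e2 : ((i' : ℕ) + q * l' = a.1 + q * a.2) ↔ a = ((i' : ℕ), (l' : ℕ)) := by
          constructor
          · intro h3
            have h4 := hinj _ i'.2 _ l'.2 _ ha'.1 _ ha'.2 h3
            exact Prod.ext h4.1.symm h4.2.symm
          · intro h3
            rw [h3]
        simp only [e1, e2]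
        by_cases h1 : a = ((i : ℕ), (l : ℕ))
        · by_cases h2 : a = ((i' : ℕ), (l' : ℕ))
          · rw [if_pos h1, if_pos h2, if_pos ⟨h1, h2⟩, mul_one, mul_one, h1]
            exact inv_mul_cancel₀ (mul_ne_zero (choose_ne i.2) (choose_ne l.2))
          · rw [if_neg h2, mul_zero, mul_zero, if_neg (fun h => h2 h.2)]
        · rw [if_neg h1, zero_mul, mul_zero, if_neg (fun h => h1 h.1)]
      rw [Finset.sum_congr rfl hterm]
      by_cases h1 : i = i' ∧ l = l'
      · obtain ⟨rfl, rfl⟩ := h1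
        rw [if_pos rfl]
        simp only [and_self]
        rw [Finset.sum_eq_single ((i : ℕ), (l : ℕ))]
        · rw [if_pos rfl]
        · intro a _ ha
          rw [if_neg ha]
        · intro h2
          exact absurd (Finset.mem_product.2 ⟨i.2, l.2⟩) h2
      · rw [if_neg]
        · refine Finset.sum_eq_zero fun a _ => ?_
          rw [if_neg]
          rintro ⟨h2, h3⟩
          rw [h2] at h3
          exact h1 ⟨Subtype.ext (congrArg Prod.fst h3), Subtype.ext (congrArg Prod.snd h3)⟩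
        · intro h2
          have h3 := congrArg Subtype.val h2
          exact h1 ⟨congrArg Prod.fst h3, congrArg Prod.snd h3⟩
    · rintro x ⟨⟨i, l⟩, hil⟩
      have hker : ∀ z' : K, κ (Sum.inl x) (Sum.inr z') = ∑ a ∈ I,
          ((e.choose a : k) * jE (-(c * (x.1 * x.2))) ^ a) * jb hK j z' ^ (a + q * a) := by
        intro z'
        change j (∑ b, pl ![1, ε * (x.1 : K), 0, 0] ![0, 0, 1, ε * (x.2 : K)] b *
          pl ![1, 0, 0, z'] ![0, -z' ^ q, 1, 0] b ^ q) ^ t = _
        rw [G2_Sl hc]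
        have hN : (z' ^ (q + 1)) ^ q = z' ^ (q + 1) := by
          rw [pow_succ, mul_pow, pow_q_pow_q hK, mul_comm]
        have hg : (1 + ((-(c * (x.1 * x.2)) : fixedField hK) : K) * z' ^ (q + 1)) ^ q =
            1 + ((-(c * (x.1 * x.2)) : fixedField hK) : K) * z' ^ (q + 1) := by
          rw [add_pow_q hK, mul_pow, one_pow, E_q hK, hN]
        rw [← map_pow, ← pow_red' hK hg h1θ, ← he, map_pow, map_add, map_one, add_pow_Ib (p := p)]
        refine Finset.sum_congr rfl fun a _ => ?_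
        have e1 : j (((-(c * (x.1 * x.2)) : fixedField hK) : K) * z' ^ (q + 1)) =
            jE (-(c * (x.1 * x.2))) * jb hK j z' ^ (q + 1) := by
          rw [map_mul, jb_apply, ← map_pow, ← pow_mul, mul_comm q, pow_mul, hN]
          rfl
        rw [one_pow, e1, mul_pow, ← pow_mul, one_mul]
        have e2 : (q + 1) * a = a + q * a := by ring
        rw [e2]
        ring
      simp only [hker, Finset.sum_mul]
      rw [Finset.sum_comm]
      refine Finset.sum_eq_zero fun a ha => ?_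
      have h2 : ∑ z : K, B ((i : ℕ) + q * l) z * jb hK j z ^ (a + q * a) = 0 := by
        rw [hB _ (hexp _ i.2 _ l.2) _ (hexp _ ha _ ha), if_neg]
        intro h3
        have h4 := hinj _ i.2 _ l.2 _ ha _ ha h3
        exact hil (Subtype.ext (h4.1.trans h4.2.symm))
      have h3 : ∀ z : K, ((e.choose a : k) * jE (-(c * (x.1 * x.2))) ^ a) * jb hK j z ^ (a + q * a) *
          B ((i : ℕ) + q * l) z = ((e.choose a : k) * jE (-(c * (x.1 * x.2))) ^ a) *
            (B ((i : ℕ) + q * l) z * jb hK j z ^ (a + q * a)) := fun z => by ring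
      simp only [h3]
      rw [← Finset.mul_sum, h2, mul_zero]
  have hcard : Fintype.card {z : I × I // z.1 ≠ z.2} = I.card * I.card - I.card := by
    rw [← Finset.offDiag_card, Fintype.card_subtype, ← Fintype.card_coe I.offDiag]
    rw [← Fintype.card_subtype]
    refine Fintype.card_congr
      { toFun := fun z => ⟨(z.1.1.1, z.1.2.1), Finset.mem_offDiag.2 ⟨z.1.1.2, z.1.2.2, fun h => z.2 (Subtype.ext h)⟩⟩
        invFun := fun z => ⟨(⟨z.1.1, (Finset.mem_offDiag.1 z.2).1⟩, ⟨z.1.2, (Finset.mem_offDiag.1 z.2).2.1⟩),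
          fun h => (Finset.mem_offDiag.1 z.2).2.2 (congrArg Subtype.val h)⟩
        left_inv := fun z => rfl
        right_inv := fun z => rfl }
  rw [hcard] at hRk
  refine h.le_finrank (f := fun x => pr2 (vec W hm true (f x).1) (vec W hm true (f x).2))
    (g := fun x => pr2 (vec W hm false (f x).1) (vec W hm false (f x).2))
    (fun x => (hf x).pfr W hm true) (fun x => (hf x).pfr W hm false) (fun x y => ?_) hRk
  rw [prod_two hm hθ, G2_pl' W hm]

end Ker

end Cfsg.Agent.H876.D3
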