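import Cfsg.Agent.H876.D3.Rank
import Cfsg.Agent.H876.D3.Digits

/-!
# The rank of `(1 + c r r') ^ e` over a finite field (helper876)

* `add_pow_Ib` : the binomial formula in characteristic `p`;
* `red Q e ∈ [1, Q - 1]`, `red Q e ≡ e`; `Rk_pow` : the rank is at least `|Ib p (red Q e)|`; `Rk_pow_two`, `Rk_pow_zero`.
-/

set_option autoImplicit false
set_option linter.unusedSectionVars false

namespace Cfsg.Agent.H876.D3

section

variable {p : ℕ} [hp : Fact p.Prime]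

theorem add_pow_Ib {R : Type*} [CommRing R] [CharP R p] (x y : R) (n : ℕ) :
    (x + y) ^ n = ∑ i ∈ Ib p n, (n.choose i : R) * (x ^ (n - i) * y ^ i) := by
  rw [add_comm x y, add_pow]
  unfold Ib
  rw [Finset.sum_filter]
  refine Finset.sum_congr rfl fun i _ => ?_
  by_cases h : p ∣ n.choose i
  · rw [if_neg (not_not.2 h), (CharP.cast_eq_zero_iff R p _).2 h, mul_zero]
  · rw [if_pos h]
    ring

theorem choose_ne {R : Type*} [CommRing R] [CharP R p] {n i : ℕ} (h : i ∈ Ib p n) : (n.choose i : R) ≠ 0 := fun h0 =>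
  (mem_Ib.1 h).2 ((CharP.cast_eq_zero_iff R p _).1 h0)

end

/-- the exponent in `[1, Q - 1]` -/
def red (Q e : ℕ) : ℕ := (e - 1) % (Q - 1) + 1

theorem red_ne_zero (Q e : ℕ) : red Q e ≠ 0 := Nat.succ_ne_zero _

theorem red_le {Q e : ℕ} (hQ : 2 ≤ Q) : red Q e ≤ Q - 1 := by
  unfold red
  have := Nat.mod_lt (e - 1) (show 0 < Q - 1 by omega)
  omega

theorem red_lt {Q e : ℕ} (hQ : 2 ≤ Q) : red Q e < Q := by
  have := red_le (e := e) hQ
  omega

theorem red_eq {Q e : ℕ} (he : e ≠ 0) (h : e ≤ Q - 1) : red Q e = e := by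
  unfold red
  rw [Nat.mod_eq_of_lt (by omega)]
  omega

theorem red_modEq {Q e : ℕ} (he : e ≠ 0) : red Q e ≡ e [MOD (Q - 1)] := by
  unfold red
  have h1 : (e - 1) % (Q - 1) ≡ e - 1 [MOD (Q - 1)] := Nat.mod_modEq _ _
  have h2 := h1.add_right 1
  rwa [Nat.sub_add_cancel (Nat.one_le_iff_ne_zero.2 he)] at h2

theorem red_succ {Q e : ℕ} (he : e ≠ 0) (h : red Q e < Q - 1) : red Q (e + 1) = red Q e + 1 := by
  unfold red at *
  rw [Nat.add_sub_cancel]
  obtain ⟨e, rfl⟩ := Nat.exists_eq_succ_of_ne_zero he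
  rw [Nat.succ_sub_one] at *
  rw [Nat.succ_eq_add_one, Nat.add_mod]
  rcases Nat.lt_or_ge 1 (Q - 1) with h1 | h1
  · rw [Nat.mod_eq_of_lt h1, Nat.mod_eq_of_lt (a := e % (Q - 1) + 1) (by omega)]
  · have : e % (Q - 1) = 0 := by
      rcases Nat.eq_zero_or_pos (Q - 1) with h2 | h2
      · omega
      · omega
    omega

theorem red_succ_top {Q e : ℕ} (hQ : 2 ≤ Q) (he : e ≠ 0) (h : red Q e = Q - 1) : red Q (e + 1) = 1 := by
  unfold red at *
  rw [Nat.add_sub_cancel]
  obtain ⟨e, rfl⟩ := Nat.exists_eq_succ_of_ne_zero he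
  rw [Nat.succ_sub_one] at h
  rw [Nat.succ_eq_add_one, Nat.add_mod]
  rcases Nat.lt_or_ge 1 (Q - 1) with h1 | h1
  · rw [Nat.mod_eq_of_lt h1, h, Nat.mod_self]
  · have : Q - 1 = 1 := by omega
    rw [this, Nat.mod_one]

section

variable {E : Type*} [Field E] [Fintype E] {k : Type*} [Field k]

theorem two_le_card : 2 ≤ Fintype.card E := Fintype.one_lt_card

theorem pow_red {e : ℕ} (he : e ≠ 0) (x : E) : x ^ red (Fintype.card E) e = x ^ e := by
  by_cases hx : x = 0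
  · rw [hx, zero_pow he, zero_pow (red_ne_zero _ _)]
  · exact (pow_eq_pow_of_modEq (red_modEq he) (FiniteField.pow_card_sub_one_eq_one x hx))

variable {p : ℕ} [hp : Fact p.Prime] [CharP k p]

theorem Rk_pow_aux (j : E →+* k) {c : E} (hc : c ≠ 0) {e : ℕ} (he : e < Fintype.card E) :
    Rk (fun r r' : E => j (1 + c * (r * r')) ^ e) (Ib p e).card := by
  have h1 : Rk (fun (z w : E × Unit) => j (1 + c * (z.1 * w.1)) ^ e) (∑ i ∈ Ib p e, 1) := by
    refine Rk.graded (τ := j) (τ' := j) (κc := fun i _ _ => (e.choose i : k) * j c ^ i) j.injective j.injective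
      (fun i hi => (mem_Ib.1 hi).1.trans_lt he) ?_ (fun i hi => Rk.one_of ⟨(), (), ?_⟩)
    · intro l _ l' _
      rw [map_add, map_one, map_mul, map_mul, add_pow_Ib (p := p)]
      refine Finset.sum_congr rfl fun i _ => ?_
      rw [one_pow, mul_pow, mul_pow]
      ring
    · exact mul_ne_zero (choose_ne hi) (pow_ne_zero _ ((map_ne_zero j).2 hc))
  rw [Finset.sum_const, smul_eq_mul, mul_one] at h1
  exact Rk.of_sub Prod.fst Prod.fst h1

/-- **The rank of `(1 + c r r') ^ e`.** -/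
theorem Rk_pow (j : E →+* k) {c : E} (hc : c ≠ 0) {e : ℕ} (he : e ≠ 0) :
    Rk (fun r r' : E => j (1 + c * (r * r')) ^ e) (Ib p (red (Fintype.card E) e)).card := by
  refine (Rk_pow_aux j hc (red_lt two_le_card)).congr fun r r' => ?_
  rw [← map_pow, ← map_pow, pow_red he]

omit hp [CharP k p] in
theorem Rk_pow_zero (j : E →+* k) (c : E) (e : ℕ) : Rk (fun r r' : E => j (1 + c * (r * r')) ^ e) 1 :=
  Rk.one_of ⟨0, 0, by simp⟩

include p hp in
theorem Rk_pow_two (j : E →+* k) {c : E} (hc : c ≠ 0) {e : ℕ} (he : e ≠ 0) :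
    Rk (fun r r' : E => j (1 + c * (r * r')) ^ e) 2 :=
  (Rk_pow (p := p) j hc he).mono (two_le_card_Ib (red_ne_zero _ _))

end

end Cfsg.Agent.H876.D3
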