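import Cfsg.Agent.H876.D3.Kern
import Cfsg.Agent.H876.D3.PowRank

/-!
# Frames with prescribed vectors at some positions (helper876)

* `det_patch`; `upd e ι x` : the family `e` with `x t` at the position `ι t`;
* `Loc W r ι x` : the conditions on `x`; `pfr_upd`; `Gr_upd`;
* `IsKer.le_finrank`.
-/

set_option autoImplicit false
set_option linter.unusedSectionVars false

namespace Cfsg.Agent.H876.D3

open Cfsg Cfsg.Geo Matrix
open LieClassical.HermBasic LieClassical.HermSiegel Cfsg.Agent.TitsThree.KSideU Cfsg.Agent.TitsThree.KSideUDesc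
  Cfsg.Agent.TitsThree.WBridge Cfsg.Agent.TitsThree.SiegelGen Cfsg.Agent.TitsThree.Siegel Cfsg.Agent.H61.SUCross
  Cfsg.Agent.TitsThree.WittFrame

section Det

variable {R n : Type*} [CommRing R] [Fintype n] [DecidableEq n]

/-- a matrix with identity rows outside the range of `ι` -/
theorem det_patch {s : ℕ} {ι : Fin s → n} (hι : Function.Injective ι) (M : Matrix n n R)
    (h : ∀ a, a ∉ Set.range ι → ∀ b, M a b = if a = b then 1 else 0) : M.det = (M.submatrix ι ι).det := by
  classical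
  have h1 := Matrix.twoBlockTriangular_det M (fun a => a ∈ Set.range ι) (by
    intro i hi j hj
    rw [h i hi, if_neg]
    rintro rfl
    exact hi hj)
  have h2 : (Matrix.toSquareBlockProp M fun a => ¬ a ∈ Set.range ι) = 1 := by
    ext a b
    rw [Matrix.toSquareBlockProp_def, Matrix.of_apply, h a.1 a.2, Matrix.one_apply]
    simp only [Subtype.ext_iff]
  rw [h1, h2, Matrix.det_one, mul_one]
  let e : Fin s ≃ {a // a ∈ Set.range ι} := Equiv.ofInjective ι hι
  generalize hA : (M.toSquareBlockProp fun a => a ∈ Set.range ι) = A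
  have h3 : M.submatrix ι ι = A.submatrix e e := by
    rw [← hA]
    rfl
  rw [h3, Matrix.det_submatrix_equiv_self]
  congr!

end Det

section Upd

variable {m : ℕ} {V : Type*} {s : ℕ}

/-- the family `e` with `x t` at the position `ι t` -/
noncomputable def upd (e : Fin m → V) (ι : Fin s → Fin m) (x : Fin s → V) : Fin m → V := by
  classical
  exact fun a => if h : ∃ t, ι t = a then x h.choose else e a

theorem upd_apply (e : Fin m → V) {ι : Fin s → Fin m} (hι : Function.Injective ι) (x : Fin s → V) (t : Fin s) :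
    upd e ι x (ι t) = x t := by
  unfold upd
  have h : ∃ t', ι t' = ι t := ⟨t, rfl⟩
  rw [dif_pos h, hι h.choose_spec]

theorem upd_ne (e : Fin m → V) {ι : Fin s → Fin m} (x : Fin s → V) {a : Fin m} (h : a ∉ Set.range ι) :
    upd e ι x a = e a := by
  unfold upd
  rw [dif_neg]
  rintro ⟨t, ht⟩
  exact h ⟨t, ht⟩

end Upd

variable {K : Type} [Field K] [Fintype K] {N q m : ℕ} {hK : Fintype.card K = q ^ 2} (W : WFrame (PU hK N) m)
  {s : ℕ}

/-- orthogonality to the other vectors of the frame -/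
def Perp (r : ℕ) (ι : Fin s → Fin m) (x : Fin N → K) : Prop :=
  ∀ a : Fin m, (a : ℕ) < r → a ∉ Set.range ι → ∀ c, hermForm N K q ((toFrame W).b (a, c)) x = 0

/-- the conditions on the vectors at the positions `ι` -/
structure Loc (r : ℕ) (ι : Fin s → Fin m) (x : Fin s → Fin N → K) : Prop where
  perp : ∀ t, Perp W r ι (x t)
  iso : ∀ t t', hermForm N K q (x t) (x t') = 0
  wit : ∃ w : Fin s → Fin N → K, (∀ t, Perp W r ι (w t)) ∧
    (Matrix.of fun t t' => hermForm N K q (x t) (w t')).det ≠ 0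

variable {W}

theorem Perp.symm {r : ℕ} {ι : Fin s → Fin m} {x : Fin N → K} (h : Perp W r ι x) {a : Fin m} (ha : (a : ℕ) < r)
    (ha' : a ∉ Set.range ι) (c : Bool) : hermForm N K q x ((toFrame W).b (a, c)) = 0 := by
  rw [herm_swap hK ((toFrame W).b (a, c)) x, h a ha ha' c, zero_pow_q hK]

theorem pair_upd {r : ℕ} {ι : Fin s → Fin m} (hι : Function.Injective ι) {x : Fin s → Fin N → K}
    (hx : ∀ t, Perp W r ι (x t)) {c : Bool} {a b : Fin m} (ha : (a : ℕ) < r) (ha' : a ∉ Set.range ι) :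
    hermForm N K q ((toFrame W).b (a, c)) (upd (fun a => (toFrame W).b (a, !c)) ι x b) =
      if a = b then 1 else 0 := by
  by_cases hb : b ∈ Set.range ι
  · obtain ⟨t, rfl⟩ := hb
    rw [upd_apply _ hι, hx t a ha ha', if_neg]
    rintro rfl
    exact ha' ⟨t, rfl⟩
  · rw [upd_ne _ _ hb, hb_pair]

theorem pfr_upd {r : ℕ} {ι : Fin s → Fin m} (hι : Function.Injective ι) (hr : ∀ t, (ι t : ℕ) < r)
    {x : Fin s → Fin N → K} (hx : Loc W r ι x) (c : Bool) :
    PFr q r (upd (fun a => (toFrame W).b (a, c)) ι x) := by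
  classical
  refine ⟨fun a b ha hb => ?_, ?_⟩
  · by_cases ha' : a ∈ Set.range ι
    · obtain ⟨t, rfl⟩ := ha'
      rw [upd_apply _ hι]
      by_cases hb' : b ∈ Set.range ι
      · obtain ⟨t', rfl⟩ := hb'
        rw [upd_apply _ hι, hx.iso]
      · rw [upd_ne _ _ hb']
        exact (hx.perp t).symm hb hb' c
    · rw [upd_ne _ _ ha']
      by_cases hb' : b ∈ Set.range ι
      · obtain ⟨t', rfl⟩ := hb'
        rw [upd_apply _ hι]
        exact hx.perp t' a ha ha' c
      · rw [upd_ne _ _ hb', hb_iso]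
  · obtain ⟨w, hw, hdet⟩ := hx.wit
    refine li_of_det (q := q) (w := fun a : {a : Fin m // (a : ℕ) < r} => upd (fun a => (toFrame W).b (a, !c)) ι w a.1) ?_
    have hι' : Function.Injective (fun t => (⟨ι t, hr t⟩ : {a : Fin m // (a : ℕ) < r})) := fun t t' h =>
      hι (congrArg Subtype.val h)
    rw [det_patch hι']
    · convert hdet using 2
      ext t t'
      rw [Matrix.submatrix_apply, Matrix.of_apply, Matrix.of_apply, upd_apply _ hι, upd_apply _ hι]
    · intro a ha b
      have ha' : a.1 ∉ Set.range ι := by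
        rintro ⟨t, ht⟩
        exact ha ⟨t, Subtype.ext ht⟩
      rw [Matrix.of_apply, upd_ne _ _ ha', pair_upd hι hw a.2 ha']
      simp only [Subtype.ext_iff]

/-- the minors of the patched frames -/
theorem Gr_upd {r : ℕ} {ι : Fin s → Fin m} (hι : Function.Injective ι) {x y : Fin s → Fin N → K}
    (hy : ∀ t, Perp W r ι (y t)) {s' : ℕ} {κ : Fin s' → Fin s} (hκ : Function.Injective κ) {i : Fin m}
    (hi : (i : ℕ) < r) (hle : ∀ t, ι (κ t) ≤ i) (hgt : ∀ t, t ∉ Set.range κ → ¬ ι t ≤ i) :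
    Gr q i (upd W.e ι x) (upd W.f ι y) =
      (Matrix.of fun t t' => hermForm N K q (x (κ t)) (y (κ t'))).det := by
  unfold Gr
  have hι' : Function.Injective (fun t => (⟨ι (κ t), hle t⟩ : {a : Fin m // a ≤ i})) := fun t t' h =>
    hκ (hι (congrArg Subtype.val h))
  rw [det_patch hι']
  · congr 1
    ext t t'
    rw [Matrix.submatrix_apply, Matrix.of_apply, Matrix.of_apply, upd_apply _ hι, upd_apply _ hι]
  · intro a ha b
    have ha' : a.1 ∉ Set.range ι := by
      rintro ⟨t, ht⟩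
      by_cases h1 : t ∈ Set.range κ
      · obtain ⟨t', rfl⟩ := h1
        exact ha ⟨t', Subtype.ext ht⟩
      · exact hgt t h1 (ht ▸ a.2)
    rw [Matrix.of_apply, upd_ne _ _ ha']
    have h1 : ((a.1 : Fin m) : ℕ) < r := lt_of_le_of_lt a.2 hi
    have h2 := pair_upd (W := W) hι hy (c := true) (b := b.1) h1 ha'
    have h3 : (if (a.1 : Fin m) = b.1 then (1 : K) else 0) = if a = b then 1 else 0 := by
      simp only [Subtype.ext_iff]
    rw [← h3]
    exact h2

section Ker

variable {k : Type*} [Field k] {V : Type*} [AddCommGroup V] [Module k V] [FiniteDimensional k V]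
  {r : ℕ} {j : K →+* k} {θ : Fin m → ℕ} {vv : (Fin m → Fin N → K) → V}
  {ff : (Fin m → Fin N → K) → Module.Dual k V}

/-- lower bounds from kernels -/
theorem IsKer.le_finrank (h : IsKer q r j θ vv ff) {X Y : Type*} [Fintype X] [Fintype Y]
    {f : X → Fin m → Fin N → K} {g : Y → Fin m → Fin N → K} (hf : ∀ x, PFr q r (f x)) (hg : ∀ y, PFr q r (g y))
    {κ : X → Y → k} (hκ : ∀ x y, κ x y = ∏ i, j (Gr q i (f x) (g y)) ^ θ i) {n : ℕ} (hn : Rk κ n) :
    n ≤ Module.finrank k V :=
  Rk.le_finrank (vv := fun x => vv (f x)) (ff := fun y => ff (g y)) (fun x y => by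
    rw [h.ker _ _ (hf x) (hg y), hκ]) hn

/-- **Sylvester's inequality for kernels** -/
theorem IsKer.sylvester (h : IsKer q r j θ vv ff) {X Y α : Type*} [Fintype α]
    {f : X → Fin m → Fin N → K} {g : Y → Fin m → Fin N → K} (hf : ∀ x, PFr q r (f x)) (hg : ∀ y, PFr q r (g y))
    {F : X → α → k} {G : Y → α → k} (hκ : ∀ x y, ∏ i, j (Gr q i (f x) (g y)) ^ θ i = ∑ a, F x a * G y a)
    {S S' : Finset α} (hF : ∀ c : α → k, (∀ x, ∑ a, F x a * c a = 0) → (∀ a ∈ S, c a = 0) → c = 0)
    (hG : ∀ c : α → k, (∀ y, ∑ a, G y a * c a = 0) → (∀ a ∈ S', c a = 0) → c = 0) :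
    Fintype.card α ≤ Module.finrank k V + S.card + S'.card :=
  H876.D3.sylvester (vv := fun x => vv (f x)) (ff := fun y => ff (g y)) (fun x y => by
    rw [h.ker _ _ (hf x) (hg y), hκ]) hF hG

/-- upper bounds for kernels -/
theorem IsKer.finrank_le (h : IsKer q r j θ vv ff) {α : Type*} [Fintype α]
    (F G : (Fin m → Fin N → K) → α → k)
    (hκ : ∀ u u', PFr q r u → PFr q r u' → ∏ i, j (Gr q i u u') ^ θ i = ∑ a, F u a * G u' a) :
    Module.finrank k V ≤ Fintype.card α := by
  refine finrank_le_card (X := {u // PFr (m := m) q r u}) (Y := {u // PFr (m := m) q r u}) (vv := fun u => vv u.1)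
    (ff := fun u => ff u.1) (F := fun u => F u.1) (G := fun u => G u.1) (fun x y => ?_) ?_ ?_
  · rw [h.ker _ _ x.2 y.2, hκ _ _ x.2 y.2]
  · rw [← h.span]
    congr 1
    ext w
    constructor
    · rintro ⟨u, rfl⟩
      exact ⟨u.1, u.2, rfl⟩
    · rintro ⟨u, hu, rfl⟩
      exact ⟨⟨u, hu⟩, rfl⟩
  · intro v hv
    exact h.sep v fun u hu => hv ⟨u, hu⟩

end Ker

end Cfsg.Agent.H876.D3
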