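import Cfsg.Agent.H876.D3.Delta
import Cfsg.Agent.H905.MdK
import Cfsg.Agent.H905.MdD

/-!
# Minors of monomial elements (helper876)

* `exists_act_mono` : the representatives of `w` are monomial, with a permutation which describes `w`;
* **`mem_WJ_of_Dl`** : if the minors `Dl true i m`, `i ∉ J`, of a representative `m` of `w` do not vanish then `w ∈ W_J`.
-/

set_option autoImplicit false
set_option linter.unusedSectionVars false

namespace Cfsg.Agent.H876.D3

open CoxeterSystem Cfsg.Agent.ChevalleyStructure.CoxeterGeom Cfsg.Agent.Tits.Roots Cfsg.Agent.Nodes.TypeC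
open Cfsg.Agent.Nodes.Comb Cfsg.Agent.Nodes.Reps Cfsg.Agent.Nodes.WittRoot Cfsg.Agent.Nodes.BNOf
open Cfsg.Agent.Nodes.WittRGD Cfsg.Agent.Nodes.RGDLib Cfsg.Agent.Nodes.WittAll Cfsg.Agent.Nodes
open Cfsg.Agent.TitsThree Cfsg.Agent.TitsThree.Siegel Cfsg.Agent.TitsThree.WittFrame
  Cfsg.Agent.TitsThree.WittWeyl Cfsg.Agent.TitsThree.FrameCN Cfsg.Agent.H905.Md
  Cfsg.Agent.Nodes.StabComb Cfsg.Agent.Tits.Core

section Comb

variable {m : ℕ} {W : Type*} [Group W] {cs : CoxeterSystem (CoxeterMatrix.B m) W}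

theorem coord_of_perm {w : W} {π : Fin m × Bool → Fin m × Bool} (hact : Act cs w π)
    (hng : ∀ y, π (ng y) = ng (π y)) (hinj : Function.Injective π) {i : Fin m}
    (h : ∀ a ≤ i, ∃ b ≤ i, π (a, true) = (b, true)) (x : Fin m → ℤ) : rep cs (isCartan m) w x i = x i := by
  -- the partial sums
  let S : Fin m × Bool → ℤ := fun y => if y.1 ≤ i then (if y.2 then 1 else -1) else 0
  have hS : ∀ y, S (π y) = S y := by
    choose f hf hf' using h
    have hfalse : ∀ a (ha : a ≤ i), π (a, false) = (f a ha, false) := by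
      intro a ha
      have h1 := hng (a, true)
      rw [hf' a ha] at h1
      exact h1
    have key : ∀ y : Fin m × Bool, ∀ hy : y.1 ≤ i, π y = (f y.1 hy, y.2) := by
      rintro ⟨a, s⟩ hy
      cases s
      · exact hfalse a hy
      · exact hf' a hy
    intro y
    by_cases hy : y.1 ≤ i
    · change (if (π y).1 ≤ i then (if (π y).2 then (1 : ℤ) else -1) else 0) = _
      rw [key y hy, if_pos (hf _ hy)]
      change _ = (if y.1 ≤ i then (if y.2 then (1 : ℤ) else -1) else 0)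
      rw [if_pos hy]
    · have h1 : ¬ (π y).1 ≤ i := by
        intro h1
        let g : {a : Fin m // a ≤ i} → {a : Fin m // a ≤ i} := fun a => ⟨f a.1 a.2, hf a.1 a.2⟩
        have hg : Function.Injective g := by
          intro a b hab
          have h2 : f a.1 a.2 = f b.1 b.2 := congrArg Subtype.val hab
          have h3 : π (a.1, true) = π (b.1, true) := by rw [hf' a.1 a.2, hf' b.1 b.2, h2]
          exact Subtype.ext (congrArg Prod.fst (hinj h3))
        obtain ⟨a, ha⟩ := Finite.surjective_of_injective hg ⟨(π y).1, h1⟩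
        have h2 : f a.1 a.2 = (π y).1 := congrArg Subtype.val ha
        have h3 : π (a.1, (π y).2) = π y := by
          rw [key (a.1, (π y).2) a.2]
          exact Prod.ext h2 rfl
        have h4 := hinj h3
        apply hy
        rw [← h4]
        exact a.2
      change (if (π y).1 ≤ i then (if (π y).2 then (1 : ℤ) else -1) else 0) =
        (if y.1 ≤ i then (if y.2 then (1 : ℤ) else -1) else 0)
      rw [if_neg h1, if_neg hy]
  have h1 : ∀ j, rep cs (isCartan m) w (sr j) i = sr j i := by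
    intro j
    have e1 := sum_ee_pair (ee_sr j) i
    have e2 := sum_ee_pair (hact _ _ _ (ee_sr j)) i
    have e3 : (if (i : ℕ) + 1 < m then (1 : ℤ) else 2) * rep cs (isCartan m) w (sr j) i =
        (if (i : ℕ) + 1 < m then (1 : ℤ) else 2) * sr j i := by
      rw [e1, e2]
      exact congrArg₂ (· + ·) (hS _) (hS _)
    split_ifs at e3 <;> linarith
  have h2 : (LinearMap.proj i : (Fin m → ℤ) →ₗ[ℤ] ℤ) ∘ₗ (rep cs (isCartan m) w) = LinearMap.proj i := by
    apply LinearMap.pi_ext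
    intro j c
    have h3 : (Pi.single j c : Fin m → ℤ) = c • sr j := by
      rw [sr, ← Pi.single_smul, smul_eq_mul, mul_one]
    rw [h3, map_smul, map_smul]
    congr 1
    exact h1 j
  exact congrArg (fun f : (Fin m → ℤ) →ₗ[ℤ] ℤ => f x) h2

end Comb

section Model

variable {F : Type*} [Field F] {V : Type*} [AddCommGroup V] [Module F V] {H : HForm F V} {m : ℕ}
  {Fr : Frame H (Fin m)} {K : Type*} [Group K] (M : Model Fr K) {p : ℕ}

theorem exists_act_mono (hA : AmbT Fr p M.I) {p0 : Fr.Adm} (hp0 : p0.c ≠ 0) {W : Type*} [Group W]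
    {cs : CoxeterSystem (CoxeterMatrix.B m) W}
    (hN : NSys (CoxeterMatrix.B m) (WittModel.T M) (fun i => M.φ ⟨nn Fr p0 i, nn_mem hA p0 i⟩)) (w : W) :
    ∀ k : K, Rp cs hN w k → ∃ π, Act cs w π ∧ (∀ y, π (ng y) = ng (π y)) ∧ Function.Injective π ∧
      ∃ (g : V ≃ₗ[F] V) (hg : g ∈ M.I), M.φ ⟨g, hg⟩ = k ∧ Mono Fr g π := by
  induction w using cs.simple_induction_left with
  | one =>
    intro k hk
    obtain ⟨g, hg, h1, h2⟩ := (mem_modelT M).1 hk.mem_of_one
    exact ⟨id, Act.one, fun _ => rfl, Function.injective_id, g, hg, h2, h1⟩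
  | mul_simple_left w j ih =>
    intro k hk
    have h1 := (rp_simple cs hN j).inv.mul hk
    rw [cs.inv_simple, cs.simple_mul_simple_cancel_left] at h1
    obtain ⟨π, h2, h3, h4, g, hg, h5, h6⟩ := ih _ h1
    refine ⟨fun y => TypeC.sg j (π y), (act_simple j).mul h2, fun y => by
      change TypeC.sg j (π (ng y)) = ng (TypeC.sg j (π y))
      rw [h3, TypeC.sg_ng],
      fun a b hab => h4 ?_, nn Fr p0 j * g, mul_mem (nn_mem hA p0 j) hg, ?_, (mono_nn hp0 j).mul h6⟩
    · have h7 := congrArg (TypeC.sg j) hab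
      rwa [sg_sg, sg_sg] at h7
    · have h7 : M.φ ⟨nn Fr p0 j * g, mul_mem (nn_mem hA p0 j) hg⟩ = M.φ ⟨nn Fr p0 j, nn_mem hA p0 j⟩ * M.φ ⟨g, hg⟩ := by
        rw [← map_mul]
        rfl
      rw [h7, h5, mul_inv_cancel_left]

/-- **Representatives with nonvanishing minors.** -/
theorem mem_WJ_of_Dl (hA : AmbT Fr p M.I) {p0 : Fr.Adm} (hp0 : p0.c ≠ 0) {W : Type*} [Group W]
    {cs : CoxeterSystem (CoxeterMatrix.B m) W}
    (hN : NSys (CoxeterMatrix.B m) (WittModel.T M) (fun i => M.φ ⟨nn Fr p0 i, nn_mem hA p0 i⟩)) {w : W} {J : Set (Fin m)}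
    {g : V ≃ₗ[F] V} (hg : g ∈ M.I) (hinj : ∀ g' (hg' : g' ∈ M.I), M.φ ⟨g', hg'⟩ = M.φ ⟨g, hg⟩ → g' = g)
    (hw : Rp cs hN w (M.φ ⟨g, hg⟩)) (h : ∀ i, i ∉ J → Dl Fr true i g ≠ 0) : w ∈ WJ cs J := by
  obtain ⟨π, h1, h2, h3, g', hg', h4, h5⟩ := exists_act_mono M hA hp0 hN w _ hw
  have h6 := hinj g' hg' h4
  subst h6
  exact (mem_WJ_iff (h := isCartan m)).2 fun x i hi => coord_of_perm h1 h2 h3 (perm_of_Dl h5 (h i hi)) x

end Model

end Cfsg.Agent.H876.D3
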