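import Mathlib

/-!
# Lower bounds for the rank of a kernel (helper876)

`bl κ P Q = ∑ P x * κ x y * Q y`; `Rk κ n` : the rank of `κ` is at least `n`, by dual families.

* `Rk.le_finrank`; `Rk.kron`; `Rk.graded`; `Rk.add_of`;
* `exists_dual_pow` : extraction of monomials.
-/

set_option autoImplicit false
set_option linter.unusedSectionVars false

namespace Cfsg.Agent.H876.D3

section Rk

variable {k : Type*} [Field k] {X Y X' Y' : Type*} [Fintype X] [Fintype Y] [Fintype X'] [Fintype Y']

/-- the bilinear extension of `κ` -/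
def bl (κ : X → Y → k) (P : X → k) (Q : Y → k) : k := ∑ x, ∑ y, P x * κ x y * Q y

theorem bl_kernel_sum {α : Type*} (S : Finset α) (κ : α → X → Y → k) (P : X → k) (Q : Y → k) :
    bl (fun x y => ∑ a ∈ S, κ a x y) P Q = ∑ a ∈ S, bl (κ a) P Q := by
  unfold bl
  simp only [Finset.mul_sum, Finset.sum_mul]
  refine (Finset.sum_congr rfl fun x _ => Finset.sum_comm).trans ?_
  rw [Finset.sum_comm]

theorem bl_sum_left {α : Type*} (S : Finset α) (κ : X → Y → k) (P : α → X → k) (c : α → k) (Q : Y → k) :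
    bl κ (fun x => ∑ a ∈ S, c a * P a x) Q = ∑ a ∈ S, c a * bl κ (P a) Q := by
  unfold bl
  simp only [Finset.mul_sum, Finset.sum_mul]
  refine (Finset.sum_congr rfl fun x _ => Finset.sum_comm).trans ?_
  rw [Finset.sum_comm]
  refine Finset.sum_congr rfl fun a _ => Finset.sum_congr rfl fun x _ => Finset.sum_congr rfl fun y _ => by ring

theorem bl_swap (κ : X → Y → k) (P : X → k) (Q : Y → k) : bl (fun y x => κ x y) Q P = bl κ P Q := by
  unfold bl
  rw [Finset.sum_comm]
  exact Finset.sum_congr rfl fun a _ => Finset.sum_congr rfl fun x _ => by ring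

theorem bl_sum_right {α : Type*} (S : Finset α) (κ : X → Y → k) (P : X → k) (Q : α → Y → k) (c : α → k) :
    bl κ P (fun y => ∑ a ∈ S, c a * Q a y) = ∑ a ∈ S, c a * bl κ P (Q a) := by
  rw [← bl_swap, bl_sum_left]
  exact Finset.sum_congr rfl fun a _ => by rw [bl_swap]

theorem bl_prod (κ : X → Y → k) (κ' : X' → Y' → k) (P : X → k) (P' : X' → k) (Q : Y → k) (Q' : Y' → k) :
    bl (fun (z : X × X') (w : Y × Y') => κ z.1 w.1 * κ' z.2 w.2) (fun z => P z.1 * P' z.2) (fun w => Q w.1 * Q' w.2) =
      bl κ P Q * bl κ' P' Q' := by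
  unfold bl
  simp only [Fintype.sum_prod_type, Finset.sum_mul_sum]
  refine Finset.sum_congr rfl fun x _ => Finset.sum_congr rfl fun x' _ => Finset.sum_congr rfl fun y _ =>
    Finset.sum_congr rfl fun y' _ => by ring

theorem bl_smul (κ : X → Y → k) (c : k) (P : X → k) (Q : Y → k) :
    bl (fun x y => c * κ x y) P Q = c * bl κ P Q := by
  unfold bl
  simp only [Finset.mul_sum]
  exact Finset.sum_congr rfl fun a _ => Finset.sum_congr rfl fun x _ => by ring

theorem bl_single [DecidableEq X] [DecidableEq Y] (κ : X → Y → k) (x : X) (y : Y) (a b : k) :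
    bl κ (Pi.single x a) (Pi.single y b) = a * κ x y * b := by
  unfold bl
  rw [Finset.sum_eq_single x, Finset.sum_eq_single y]
  · rw [Pi.single_eq_same, Pi.single_eq_same]
  · intro z _ hz
    rw [Pi.single_eq_of_ne hz, mul_zero]
  · intro h; exact absurd (Finset.mem_univ _) h
  · intro z _ hz
    rw [Pi.single_eq_of_ne hz]
    simp
  · intro h; exact absurd (Finset.mem_univ _) h

/-- the rank of `κ` is at least `n` -/
def Rk (κ : X → Y → k) (n : ℕ) : Prop :=
  ∃ (P : Fin n → X → k) (Q : Fin n → Y → k), ∀ i j, bl κ (P i) (Q j) = if i = j then 1 else 0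

theorem Rk.mk {κ : X → Y → k} {α : Type*} [Fintype α] [DecidableEq α] (P : α → X → k) (Q : α → Y → k)
    (h : ∀ i j, bl κ (P i) (Q j) = if i = j then 1 else 0) : Rk κ (Fintype.card α) := by
  let e := Fintype.equivFin α
  refine ⟨fun i => P (e.symm i), fun i => Q (e.symm i), fun i j => ?_⟩
  rw [h]
  simp only [EmbeddingLike.apply_eq_iff_eq]

theorem Rk.of_isUnit {κ : X → Y → k} {α : Type*} [Fintype α] [DecidableEq α] (P : α → X → k) (Q : α → Y → k)
    (h : IsUnit (Matrix.of fun i j => bl κ (P i) (Q j)).det) : Rk κ (Fintype.card α) := by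
  set M : Matrix α α k := Matrix.of fun i j => bl κ (P i) (Q j) with hM
  refine Rk.mk P (fun j y => ∑ a, M⁻¹ a j * Q a y) fun i j => ?_
  rw [bl_sum_right]
  have h1 := congrFun (congrFun (Matrix.mul_nonsing_inv M h) i) j
  rw [Matrix.mul_apply, Matrix.one_apply] at h1
  rw [← h1]
  exact Finset.sum_congr rfl fun a _ => by rw [hM, Matrix.of_apply, mul_comm]

theorem Rk.mono {κ : X → Y → k} {m n : ℕ} (h : m ≤ n) (hn : Rk κ n) : Rk κ m := by
  obtain ⟨P, Q, e⟩ := hn
  refine ⟨fun i => P (Fin.castLE h i), fun i => Q (Fin.castLE h i), fun i j => ?_⟩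
  rw [e]
  simp [Fin.ext_iff]

theorem Rk.zero (κ : X → Y → k) : Rk κ 0 := ⟨fun i => i.elim0, fun i => i.elim0, fun i => i.elim0⟩

theorem Rk.le_finrank {κ : X → Y → k} {V : Type*} [AddCommGroup V] [Module k V] [FiniteDimensional k V]
    {vv : X → V} {ff : Y → Module.Dual k V} (h : ∀ x y, ff y (vv x) = κ x y) {n : ℕ} (hn : Rk κ n) :
    n ≤ Module.finrank k V := by
  obtain ⟨P, Q, e⟩ := hn
  let w : Fin n → V := fun i => ∑ x, P i x • vv x
  let ψ : Fin n → Module.Dual k V := fun j => ∑ y, Q j y • ff y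
  have h1 : ∀ i j, ψ j (w i) = if i = j then 1 else 0 := by
    intro i j
    rw [← e i j]
    simp only [w, ψ, bl, LinearMap.sum_apply, LinearMap.smul_apply, map_sum, map_smul, smul_eq_mul, h, Finset.mul_sum]
    exact Finset.sum_congr rfl fun x _ => Finset.sum_congr rfl fun y _ => by ring
  have h2 : LinearIndependent k w := by
    rw [Fintype.linearIndependent_iff]
    intro g hg j
    have h3 := congrArg (ψ j) hg
    rw [map_sum, map_zero] at h3
    simp only [map_smul, h1, smul_eq_mul] at h3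
    simpa using h3
  have h3 := h2.fintype_card_le_finrank
  rwa [Fintype.card_fin] at h3

theorem Rk.of_sub {κ : X → Y → k} (f : X' → X) (g : Y' → Y) {n : ℕ} (h : Rk (fun x y => κ (f x) (g y)) n) :
    Rk κ n := by
  classical
  obtain ⟨P, Q, e⟩ := h
  refine ⟨fun i x => ∑ x', P i x' * (Pi.single (f x') 1 : X → k) x,
    fun j y => ∑ y', Q j y' * (Pi.single (g y') 1 : Y → k) y, fun i j => ?_⟩
  rw [← e, bl_sum_left]
  have h1 : ∀ x', bl κ (Pi.single (f x') 1 : X → k) (fun y => ∑ y', Q j y' * (Pi.single (g y') 1 : Y → k) y) =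
      ∑ y', Q j y' * κ (f x') (g y') := fun x' => by
    rw [bl_sum_right]
    exact Finset.sum_congr rfl fun y' _ => by rw [bl_single, one_mul, mul_one]
  simp only [h1]
  simp only [bl, Finset.mul_sum]
  exact Finset.sum_congr rfl fun x _ => Finset.sum_congr rfl fun y _ => by ring

theorem Rk.scale {κ κ' : X → Y → k} {a : X → k} {b : Y → k} (ha : ∀ x, a x ≠ 0) (hb : ∀ y, b y ≠ 0)
    (h : ∀ x y, κ' x y = a x * b y * κ x y) {n : ℕ} (hn : Rk κ n) : Rk κ' n := by
  obtain ⟨P, Q, e⟩ := hn
  refine ⟨fun i x => P i x * (a x)⁻¹, fun j y => (b y)⁻¹ * Q j y, fun i j => ?_⟩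
  rw [← e]
  unfold bl
  refine Finset.sum_congr rfl fun x _ => Finset.sum_congr rfl fun y _ => ?_
  rw [h]
  have h1 := ha x
  have h2 := hb y
  field_simp

theorem Rk.congr {κ κ' : X → Y → k} (h : ∀ x y, κ' x y = κ x y) {n : ℕ} (hn : Rk κ n) : Rk κ' n := by
  have h1 : κ' = κ := by ext x y; exact h x y
  rwa [h1]

theorem Rk.swap {κ : X → Y → k} {n : ℕ} (hn : Rk κ n) : Rk (fun y x => κ x y) n := by
  obtain ⟨P, Q, e⟩ := hn
  refine ⟨Q, P, fun i j => ?_⟩
  rw [bl_swap, e]
  simp only [eq_comm]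

theorem Rk.kron {κ : X → Y → k} {κ' : X' → Y' → k} {m n : ℕ} (h : Rk κ m) (h' : Rk κ' n) :
    Rk (fun (z : X × X') (w : Y × Y') => κ z.1 w.1 * κ' z.2 w.2) (m * n) := by
  obtain ⟨P, Q, e⟩ := h
  obtain ⟨P', Q', e'⟩ := h'
  have h1 := Rk.mk (κ := fun (z : X × X') (w : Y × Y') => κ z.1 w.1 * κ' z.2 w.2) (α := Fin m × Fin n)
    (fun a z => P a.1 z.1 * P' a.2 z.2) (fun a z => Q a.1 z.1 * Q' a.2 z.2) (by
      rintro ⟨i, i'⟩ ⟨j, j'⟩
      rw [bl_prod, e, e']
      by_cases h1 : i = j <;> by_cases h2 : i' = j' <;> simp [h1, h2])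
  rwa [Fintype.card_prod, Fintype.card_fin, Fintype.card_fin] at h1

theorem Rk.add_of {κ : X → Y → k} {α β : Type*} [Fintype α] [DecidableEq α] [Fintype β] [DecidableEq β]
    {P : α → X → k} {Q : α → Y → k} {P' : β → X → k} {Q' : β → Y → k}
    (h : ∀ i j, bl κ (P i) (Q j) = if i = j then 1 else 0) (h' : ∀ i j, bl κ (P' i) (Q' j) = if i = j then 1 else 0)
    (h0 : ∀ i j, bl κ (P i) (Q' j) = 0) : Rk κ (Fintype.card α + Fintype.card β) := by
  have h1 := Rk.of_isUnit (κ := κ) (Sum.elim P P') (Sum.elim Q Q') (by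
    have h2 : (Matrix.of fun i j => bl κ (Sum.elim P P' i) (Sum.elim Q Q' j)) =
        Matrix.fromBlocks 1 0 (Matrix.of fun i j => bl κ (P' i) (Q j)) 1 := by
      ext i j
      rcases i with i | i <;> rcases j with j | j <;>
        simp [h, h', h0, Matrix.one_apply]
    rw [h2, Matrix.det_fromBlocks_zero₁₂, Matrix.det_one, Matrix.det_one, one_mul]
    exact isUnit_one)
  rwa [Fintype.card_sum] at h1

theorem Rk.one_of {κ : X → Y → k} (h : ∃ x y, κ x y ≠ 0) : Rk κ 1 := by
  classical
  obtain ⟨x, y, hxy⟩ := h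
  refine ⟨fun _ => Pi.single x 1, fun _ => Pi.single y (κ x y)⁻¹, fun i j => ?_⟩
  rw [bl_single, one_mul, mul_inv_cancel₀ hxy, if_pos (Subsingleton.elim i j)]

end Rk

section Pow

variable {k : Type*} [Field k]

/-- extraction of monomials -/
theorem exists_dual_pow {T : Type*} [Fintype T] (τ : T → k) (hτ : Function.Injective τ) :
    ∃ A : ℕ → T → k, ∀ i < Fintype.card T, ∀ j < Fintype.card T, ∑ t, A i t * τ t ^ j = if i = j then 1 else 0 := by
  classical
  let e := Fintype.equivFin T
  let v : Fin (Fintype.card T) → k := fun a => τ (e.symm a)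
  have hv : Function.Injective v := hτ.comp e.symm.injective
  have hdet : IsUnit (Matrix.vandermonde v).det := by
    rw [isUnit_iff_ne_zero]
    exact Matrix.det_vandermonde_ne_zero_iff.2 hv
  have h1 := Matrix.nonsing_inv_mul _ hdet
  refine ⟨fun i t => if hi : i < Fintype.card T then (Matrix.vandermonde v)⁻¹ ⟨i, hi⟩ (e t) else 0, ?_⟩
  intro i hi j hj
  have h2 := congrFun (congrFun h1 ⟨i, hi⟩) ⟨j, hj⟩
  rw [Matrix.mul_apply, Matrix.one_apply] at h2
  rw [← Equiv.sum_comp e.symm]
  simp only [dif_pos hi, Equiv.apply_symm_apply]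
  simp only [Matrix.vandermonde_apply, v, Fin.mk.injEq] at h2
  exact h2

variable {X Y : Type*} [Fintype X] [Fintype Y] {T : Type*} [Fintype T] {τ τ' : T → k}

/-- graded kernels -/
theorem Rk.graded (hτ : Function.Injective τ) (hτ' : Function.Injective τ') {S : Finset ℕ}
    (hS : ∀ c ∈ S, c < Fintype.card T) {κ : T × X → T × Y → k} {κc : ℕ → X → Y → k}
    (h : ∀ l x l' y, κ (l, x) (l', y) = ∑ c ∈ S, τ l ^ c * τ' l' ^ c * κc c x y) {n : ℕ → ℕ}
    (hn : ∀ c ∈ S, Rk (κc c) (n c)) : Rk κ (∑ c ∈ S, n c) := by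
  classical
  obtain ⟨A, hA⟩ := exists_dual_pow τ hτ
  obtain ⟨B, hB⟩ := exists_dual_pow τ' hτ'
  choose P Q hPQ using fun c : S => hn c.1 c.2
  have hκ : κ = fun z w => ∑ c ∈ S, (fun (l l' : T) => τ l ^ c * τ' l' ^ c) z.1 w.1 * κc c z.2 w.2 := by
    ext ⟨l, x⟩ ⟨l', y⟩
    exact h l x l' y
  have hbl : ∀ c c' d, c ∈ S → c' ∈ S → d ∈ S → bl (fun (l l' : T) => τ l ^ d * τ' l' ^ d) (A c) (B c') =
      if c = d ∧ c' = d then 1 else 0 := by
    intro c c' d hc hc' hd
    have e1 : bl (fun (l l' : T) => τ l ^ d * τ' l' ^ d) (A c) (B c') =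
        (∑ l, A c l * τ l ^ d) * ∑ l', B c' l' * τ' l' ^ d := by
      unfold bl
      rw [Finset.sum_mul_sum]
      exact Finset.sum_congr rfl fun x _ => Finset.sum_congr rfl fun y _ => by ring
    rw [e1, hA c (hS c hc) d (hS d hd), hB c' (hS c' hc') d (hS d hd)]
    by_cases h1 : c = d <;> by_cases h2 : c' = d <;> simp [h1, h2]
  have key := Rk.mk (κ := κ) (α := (c : S) × Fin (n c.1))
    (fun a z => A a.1 z.1 * P a.1 a.2 z.2) (fun a z => B a.1 z.1 * Q a.1 a.2 z.2) (by
      rintro ⟨c, i⟩ ⟨c', j⟩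
      have hterm : ∀ d ∈ S, bl (fun (z : T × X) (w : T × Y) => (fun (l l' : T) => τ l ^ d * τ' l' ^ d) z.1 w.1 *
          κc d z.2 w.2) (fun z => A c.1 z.1 * P c i z.2) (fun z => B c'.1 z.1 * Q c' j z.2) =
          (if c.1 = d ∧ c'.1 = d then 1 else 0) * bl (κc d) (P c i) (Q c' j) := fun d hd =>
        (bl_prod (fun (l l' : T) => τ l ^ d * τ' l' ^ d) (κc d) (A c.1) (P c i) (B c'.1) (Q c' j)).trans (by
          rw [hbl c.1 c'.1 d c.2 c'.2 hd])
      rw [hκ, bl_kernel_sum, Finset.sum_congr rfl hterm]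
      by_cases h1 : c = c'
      · subst h1
        rw [Finset.sum_eq_single c.1]
        · simp only [and_self, if_true, one_mul]
          rw [hPQ c i j]
          simp
        · intro d _ hd
          rw [if_neg (fun h2 => hd h2.1.symm), zero_mul]
        · intro h2; exact absurd c.2 h2
      · rw [if_neg (by intro h2; exact h1 (congrArg Sigma.fst h2))]
        refine Finset.sum_eq_zero fun d _ => ?_
        rw [if_neg (fun h2 => h1 (Subtype.ext (h2.1.trans h2.2.symm))), zero_mul])
  rw [Fintype.card_sigma] at key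
  simp only [Fintype.card_fin] at key
  rwa [Finset.sum_coe_sort S n] at key

end Pow

section Sylvester

variable {k : Type*} [Field k] {V : Type*} [AddCommGroup V] [Module k V] [FiniteDimensional k V] {X Y α : Type*}
  [Fintype α]

/-- the relations of a family of functions -/
def Rel (F : X → α → k) : Submodule k (α → k) where
  carrier := {c | ∀ x, ∑ a, F x a * c a = 0}
  zero_mem' := fun x => by simp
  add_mem' := fun {c d} hc hd x => by
    simp only [Pi.add_apply, mul_add, Finset.sum_add_distrib]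
    rw [hc x, hd x, add_zero]
  smul_mem' := fun b c hc x => by
    have h1 : ∑ a, F x a * (b • c) a = b * ∑ a, F x a * c a := by
      rw [Finset.mul_sum]
      exact Finset.sum_congr rfl fun a _ => by rw [Pi.smul_apply, smul_eq_mul]; ring
    rw [h1, hc x, mul_zero]

theorem finrank_rel_le (F : X → α → k) (S : Finset α)
    (h : ∀ c : α → k, (∀ x, ∑ a, F x a * c a = 0) → (∀ a ∈ S, c a = 0) → c = 0) :
    Module.finrank k (Rel F) ≤ S.card := by
  let Φ : Rel F →ₗ[k] (S → k) :=
    { toFun := fun c a => c.1 a.1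
      map_add' := fun _ _ => rfl
      map_smul' := fun _ _ => rfl }
  have hΦ : Function.Injective Φ := by
    rw [injective_iff_map_eq_zero]
    intro c hc
    exact Subtype.ext (h c.1 c.2 fun a ha => congrFun hc ⟨a, ha⟩)
  have h1 := LinearMap.finrank_le_finrank_of_injective hΦ
  rwa [Module.finrank_fintype_fun_eq_card, Fintype.card_coe] at h1

/-- the pairing of the coordinate space with the values -/
def pr (G : Y → α → k) : (α → k) →ₗ[k] (Y → k) where
  toFun c := fun y => ∑ a, G y a * c a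
  map_add' c d := by
    funext y
    simp only [Pi.add_apply, mul_add, Finset.sum_add_distrib]
  map_smul' b c := by
    funext y
    simp only [Pi.smul_apply, smul_eq_mul, RingHom.id_apply, Finset.mul_sum]
    exact Finset.sum_congr rfl fun a _ => by ring

theorem mem_ker_pr {G : Y → α → k} {c : α → k} : c ∈ LinearMap.ker (pr G) ↔ c ∈ Rel G := by
  rw [LinearMap.mem_ker]
  exact ⟨fun h y => congrFun h y, fun h => funext fun y => h y⟩

/-- the functions of a vector -/
def fnc (ff : Y → Module.Dual k V) : V →ₗ[k] (Y → k) where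
  toFun v := fun y => ff y v
  map_add' c d := funext fun y => map_add (ff y) c d
  map_smul' b c := funext fun y => map_smul (ff y) b c

variable {vv : X → V} {ff : Y → Module.Dual k V} {F : X → α → k} {G : Y → α → k}
  (h : ∀ x y, ff y (vv x) = ∑ a, F x a * G y a)
include h

theorem map_span_le : (Submodule.span k (Set.range F)).map (pr G) ≤ LinearMap.range (fnc ff) := by
  rw [Submodule.map_span, Submodule.span_le]
  rintro _ ⟨_, ⟨x, rfl⟩, rfl⟩
  refine ⟨vv x, ?_⟩
  funext y
  change ff y (vv x) = ∑ a, G y a * F x a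
  rw [h]
  exact Finset.sum_congr rfl fun a _ => mul_comm _ _

/-- **Sylvester's inequality** -/
theorem sylvester {S S' : Finset α}
    (hF : ∀ c : α → k, (∀ x, ∑ a, F x a * c a = 0) → (∀ a ∈ S, c a = 0) → c = 0)
    (hG : ∀ c : α → k, (∀ y, ∑ a, G y a * c a = 0) → (∀ a ∈ S', c a = 0) → c = 0) :
    Fintype.card α ≤ Module.finrank k V + S.card + S'.card := by
  have e1 := finrank_rel_le F S hF
  have e2 := finrank_rel_le G S' hG
  set A := Submodule.span k (Set.range F) with hA
  -- the dimension of `A`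
  let D : (α → k) →ₗ[k] Module.Dual k A :=
    { toFun := fun c =>
        { toFun := fun a => ∑ i, a.1 i * c i
          map_add' := fun a b => by
            simp only [Submodule.coe_add, Pi.add_apply, add_mul, Finset.sum_add_distrib]
          map_smul' := fun b a => by
            simp only [Submodule.coe_smul, Pi.smul_apply, smul_eq_mul, RingHom.id_apply, Finset.mul_sum, mul_assoc] }
      map_add' := fun c d => by
        ext a
        simp only [LinearMap.coe_mk, AddHom.coe_mk, LinearMap.add_apply, Pi.add_apply, mul_add, Finset.sum_add_distrib]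
      map_smul' := fun b c => by
        ext a
        simp only [LinearMap.coe_mk, AddHom.coe_mk, LinearMap.smul_apply, Pi.smul_apply, smul_eq_mul,
          RingHom.id_apply, Finset.mul_sum]
        exact Finset.sum_congr rfl fun i _ => by ring }
  have h1 := LinearMap.finrank_range_add_finrank_ker D
  rw [Module.finrank_fintype_fun_eq_card] at h1
  have h2 : LinearMap.ker D ≤ Rel F := by
    intro c hc x
    have h3 : F x ∈ A := Submodule.subset_span ⟨x, rfl⟩
    exact congrArg (fun ψ : Module.Dual k A => ψ ⟨F x, h3⟩) (LinearMap.mem_ker.1 hc)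
  have h3 := Submodule.finrank_mono h2
  have h4 := Submodule.finrank_le (LinearMap.range D)
  rw [Subspace.dual_finrank_eq] at h4
  -- the image of `A`
  have h5 := LinearMap.finrank_range_add_finrank_ker ((pr G).domRestrict A)
  have h6 : LinearMap.range ((pr G).domRestrict A) = A.map (pr G) := by
    ext y
    constructor
    · rintro ⟨a, rfl⟩
      exact ⟨a.1, a.2, rfl⟩
    · rintro ⟨a, ha, rfl⟩
      exact ⟨⟨a, ha⟩, rfl⟩
  rw [h6] at h5
  have h7 : Module.finrank k (A.map (pr G)) ≤ Module.finrank k (LinearMap.range (fnc ff)) :=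
    Submodule.finrank_mono (map_span_le h)
  have h8 := LinearMap.finrank_range_le (fnc ff)
  have h9 : Module.finrank k (LinearMap.ker ((pr G).domRestrict A)) ≤ Module.finrank k (Rel G) := by
    let Ψ : LinearMap.ker ((pr G).domRestrict A) →ₗ[k] Rel G :=
      { toFun := fun a => ⟨a.1.1, mem_ker_pr.1 (LinearMap.mem_ker.2 (LinearMap.mem_ker.1 a.2))⟩
        map_add' := fun _ _ => rfl
        map_smul' := fun _ _ => rfl }
    refine LinearMap.finrank_le_finrank_of_injective (f := Ψ) fun a b hab => ?_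
    have h10 : (Ψ a).1 = (Ψ b).1 := by rw [hab]
    exact Subtype.ext (Subtype.ext h10)
  omega

/-- upper bound -/
theorem finrank_le_card (hv : Submodule.span k (Set.range vv) = ⊤) (hf : ∀ v, (∀ y, ff y v = 0) → v = 0) :
    Module.finrank k V ≤ Fintype.card α := by
  have h1 : Function.Injective (fnc ff) := by
    rw [injective_iff_map_eq_zero]
    intro v hv
    exact hf v fun y => congrFun hv y
  have h2 : LinearMap.range (fnc ff) ≤ LinearMap.range (pr G) := by
    rw [LinearMap.range_eq_map, ← hv, Submodule.map_span, Submodule.span_le]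
    rintro _ ⟨_, ⟨x, rfl⟩, rfl⟩
    refine ⟨F x, ?_⟩
    funext y
    change ∑ a, G y a * F x a = ff y (vv x)
    rw [h]
    exact Finset.sum_congr rfl fun a _ => mul_comm _ _
  have h3 := Submodule.finrank_mono h2
  rw [LinearMap.finrank_range_of_inj h1] at h3
  refine h3.trans ((LinearMap.finrank_range_le (pr G)).trans ?_)
  rw [Module.finrank_fintype_fun_eq_card]

end Sylvester

end Cfsg.Agent.H876.D3
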