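import Cfsg.Agent.H876.D3.Char
import Cfsg.Agent.H876.UWitt

/-!
# Partial frames (helper876)

* `PFr hK r u` : the `u a`, `a < r`, are isotropic, mutually orthogonal and independent;
* `exists_su` : there are `g ∈ SU` and `c ≠ 0` with `g e_a = u a` for `a < r`, `a ≠ 0`, `g e_0 = c u 0`.
-/

set_option autoImplicit false
set_option linter.unusedSectionVars false

namespace Cfsg.Agent.H876.D3

open Cfsg Cfsg.Geo Matrix
open LieClassical.HermBasic LieClassical.HermSiegel Cfsg.Agent.TitsThree.KSideU Cfsg.Agent.TitsThree.KSideUDesc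
  Cfsg.Agent.TitsThree.WBridge Cfsg.Agent.TitsThree.SiegelGen Cfsg.Agent.TitsThree.Siegel
open Cfsg.Agent.ClassicalGeometry.UnitTransv (rankOne rankOne_mulVec det_rankOne)

variable {K : Type} [Field K] [Fintype K] {N q m : ℕ} (hK : Fintype.card K = q ^ 2)

theorem exists_hilbert (hK : Fintype.card K = q ^ 2) {D : K} (hD : D ^ (q + 1) = 1) :
    ∃ c : K, c ≠ 0 ∧ c ^ (q - 1) = D := by
  have hq : 2 ≤ q := two_le_q hK
  have hD0 : D ≠ 0 := by
    rintro rfl
    rw [zero_pow (by omega)] at hD
    exact zero_ne_one hD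
  obtain ⟨g, hg⟩ := IsCyclic.exists_generator (α := Kˣ)
  obtain ⟨k, hk⟩ := mem_powers_iff_mem_zpowers.2 (hg (Units.mk0 D hD0))
  have hk' : g ^ k = Units.mk0 D hD0 := hk
  have hord : orderOf g = (q + 1) * (q - 1) := by
    rw [orderOf_eq_card_of_forall_mem_zpowers hg, card_units_eq hK]
  have h1 : g ^ (k * (q + 1)) = 1 := by
    rw [pow_mul, hk']
    ext
    push_cast
    exact hD
  have h2 := orderOf_dvd_of_pow_eq_one h1
  rw [hord, mul_comm k] at h2
  obtain ⟨l, rfl⟩ := Nat.dvd_of_mul_dvd_mul_left (Nat.succ_pos q) h2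
  refine ⟨((g ^ l : Kˣ) : K), Units.ne_zero _, ?_⟩
  have h3 : (g ^ l) ^ (q - 1) = Units.mk0 D hD0 := by rw [← pow_mul, mul_comm l, hk']
  have h4 := congrArg Units.val h3
  push_cast at h4
  exact h4

theorem li_of_det {ι : Type*} [Fintype ι] [DecidableEq ι] {x w : ι → Fin N → K}
    (h : (Matrix.of fun a b => hermForm N K q (x a) (w b)).det ≠ 0) : LinearIndependent K x := by
  rw [Fintype.linearIndependent_iff]
  intro c hc
  have h1 : c ᵥ* (Matrix.of fun a b => hermForm N K q (x a) (w b)) = 0 := by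
    ext b
    simp only [Matrix.vecMul, dotProduct, Matrix.of_apply, Pi.zero_apply]
    have h2 : hermForm N K q (∑ a, c a • x a) (w b) = 0 := by rw [hc]; exact herm_zero_left _
    rw [← h2]
    have key : ∀ S : Finset ι, hermForm N K q (∑ a ∈ S, c a • x a) (w b) =
        ∑ a ∈ S, c a * hermForm N K q (x a) (w b) := by
      intro S
      classical
      induction S using Finset.induction_on with
      | empty => rw [Finset.sum_empty, Finset.sum_empty]; exact herm_zero_left _
      | insert a S ha ih => rw [Finset.sum_insert ha, Finset.sum_insert ha, herm_add_left, herm_smul_left, ih]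
    exact (key _).symm
  have h2 := Matrix.eq_zero_of_vecMul_eq_zero h h1
  intro a
  exact congrFun h2 a

/-- a partial frame -/
structure PFr (q r : ℕ) (u : Fin m → Fin N → K) : Prop where
  iso : ∀ a b : Fin m, (a : ℕ) < r → (b : ℕ) < r → hermForm N K q (u a) (u b) = 0
  li : LinearIndependent K (fun a : {a : Fin m // (a : ℕ) < r} => u a.1)

variable {hK}

theorem herm_span {ι : Type*} {x : ι → Fin N → K} (h : ∀ a b, hermForm N K q (x a) (x b) = 0) {v w : Fin N → K}
    (hK : Fintype.card K = q ^ 2)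
    (hv : v ∈ Submodule.span K (Set.range x)) (hw : w ∈ Submodule.span K (Set.range x)) :
    hermForm N K q v w = 0 := by
  induction hv using Submodule.span_induction with
  | mem v hv =>
    obtain ⟨a, rfl⟩ := hv
    induction hw using Submodule.span_induction with
    | mem w hw => obtain ⟨b, rfl⟩ := hw; exact h a b
    | zero => exact (HU hK N).zero_right _
    | add w w' _ _ h1 h2 => rw [herm_add_right hK, h1, h2, add_zero]
    | smul c w _ h1 => rw [herm_smul_right, h1, mul_zero]
  | zero => exact (HU hK N).zero_left _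
  | add v v' _ _ h1 h2 => rw [herm_add_left, h1, h2, add_zero]
  | smul c v _ h1 => rw [herm_smul_left, h1, mul_zero]

/-- **Witt's theorem.** -/
theorem exists_gu_of_li {ι : Type*} [Fintype ι] {x u : ι → Fin N → K} (hK : Fintype.card K = q ^ 2)
    (hx : LinearIndependent K x) (hu : LinearIndependent K u)
    (hxx : ∀ a b, hermForm N K q (x a) (x b) = 0) (huu : ∀ a b, hermForm N K q (u a) (u b) = 0) :
    ∃ g ∈ GU N K q, ∀ a, (g : Matrix (Fin N) (Fin N) K) *ᵥ x a = u a := by
  classical
  let b := Module.Basis.span hx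
  let f : Submodule.span K (Set.range x) →ₗ[K] (Fin N → K) := b.constr K u
  have hb : ∀ a, (b a : Fin N → K) = x a := fun a =>
    congrArg Subtype.val (Module.Basis.span_apply hx a)
  have hf : ∀ a, f (b a) = u a := fun a => b.constr_basis K u a
  have hfx : ∀ v, f v = ∑ a, b.repr v a • u a := by
    intro v
    conv_lhs => rw [← b.sum_repr v, map_sum]
    exact Finset.sum_congr rfl fun a _ => by rw [map_smul, hf]
  have hinj : Function.Injective f := by
    rw [injective_iff_map_eq_zero]
    intro v hv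
    rw [hfx] at hv
    have h1 := Fintype.linearIndependent_iff.1 hu _ hv
    rw [← b.sum_repr v]
    exact Finset.sum_eq_zero fun a _ => by rw [h1 a, zero_smul]
  have hmem : ∀ v, f v ∈ Submodule.span K (Set.range u) := by
    intro v
    rw [hfx]
    exact Submodule.sum_mem _ fun a _ => Submodule.smul_mem _ _ (Submodule.subset_span ⟨a, rfl⟩)
  obtain ⟨g, hg, h1⟩ := exists_gu_extension hK (Submodule.span K (Set.range x)) f hinj fun v v' => by
    rw [herm_span huu hK (hmem v) (hmem v'), herm_span hxx hK v.2 v'.2]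
  refine ⟨g, hg, fun a => ?_⟩
  have h2 := h1 (b a)
  rwa [hb, hf] at h2

/-- correction of the determinant -/
theorem exists_su_scaled (hK : Fintype.card K = q ^ 2) {g : GL (Fin N) K} (hg : g ∈ GU N K q) {e f : Fin N → K}
    (he : hermForm N K q e e = 0) (hf : hermForm N K q f f = 0) (hef : hermForm N K q e f = 1) :
    ∃ (g₁ : SU N K q) (c : K), c ≠ 0 ∧ act g₁ e = c • ((g : Matrix (Fin N) (Fin N) K) *ᵥ e) ∧
      ∀ v, hermForm N K q v e = 0 → hermForm N K q v f = 0 → act g₁ v = (g : Matrix (Fin N) (Fin N) K) *ᵥ v := by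
  have hq : 2 ≤ q := two_le_q hK
  have hD := Cfsg.Agent.ClassicalGeometry.GUBasic.det_pow hK (A := (g : Matrix (Fin N) (Fin N) K)) hg
  obtain ⟨c, hc0, hc⟩ := exists_hilbert hK hD
  have hfe : hermForm N K q f e = 1 := by
    rw [herm_swap hK e f, hef, one_pow]
  have hcq : c ^ q ≠ 0 := pow_ne_zero _ hc0
  set S : Matrix (Fin N) (Fin N) K := rankOne q ((c - 1) • e) f * rankOne q (((c ^ q)⁻¹ - 1) • f) e with hS
  have hSx : ∀ x, S *ᵥ x = x + (hermForm N K q x e * ((c ^ q)⁻¹ - 1)) • f + (hermForm N K q x f * (c - 1)) • e := by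
    intro x
    rw [hS, ← Matrix.mulVec_mulVec, rankOne_mulVec, rankOne_mulVec, herm_add_left, herm_smul_left, herm_smul_left,
      hf, mul_zero, mul_zero, add_zero, smul_smul, smul_smul]
  have hSiso : ∀ x y, hermForm N K q (S *ᵥ x) (S *ᵥ y) = hermForm N K q x y := by
    intro x y
    rw [hSx, hSx]
    simp only [herm_add_left, herm_add_right hK, herm_smul_left, herm_smul_right, he, hf, hef, hfe]
    have e1 : hermForm N K q f y = hermForm N K q y f ^ q := herm_swap hK y f
    have e2 : hermForm N K q e y = hermForm N K q y e ^ q := herm_swap hK y e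
    rw [e1, e2, mul_pow, mul_pow, sub_pow_q hK, sub_pow_q hK, one_pow, inv_pow, pow_q_pow_q hK]
    field_simp
    ring
  have hSdet : S.det = ((g : Matrix (Fin N) (Fin N) K).det)⁻¹ := by
    rw [hS, Matrix.det_mul, det_rankOne, det_rankOne, herm_smul_left, herm_smul_left, hef, hfe, ← hc]
    have h1 : c ^ q = c ^ (q - 1) * c := by rw [← pow_succ, Nat.sub_add_cancel (by omega)]
    rw [h1]
    have h2 : c ^ (q - 1) ≠ 0 := pow_ne_zero _ hc0
    field_simp
    ring
  have hdet0 : (g : Matrix (Fin N) (Fin N) K).det ≠ 0 := by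
    intro h0
    rw [h0, zero_pow (by omega)] at hD
    exact zero_ne_one hD
  have e3 : ∀ u, ((g : Matrix (Fin N) (Fin N) K) * S) *ᵥ u = (g : Matrix (Fin N) (Fin N) K) *ᵥ (S *ᵥ u) :=
    fun u => (Matrix.mulVec_mulVec u _ S).symm
  refine ⟨mkSU ((g : Matrix (Fin N) (Fin N) K) * S) (by rw [Matrix.det_mul, hSdet, mul_inv_cancel₀ hdet0])
    (fun u v => by rw [e3, e3, (mem_GU_iff g).1 hg, hSiso]), c, hc0, ?_, fun v hve hvf => ?_⟩
  · rw [act_def, mat_mkSU, e3, hSx, he, hef, zero_mul, zero_smul, add_zero, one_mul,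
      ← Matrix.mulVec_smul]
    congr 1
    module
  · rw [act_def, mat_mkSU, e3, hSx, hve, hvf, zero_mul, zero_smul, add_zero, zero_mul, zero_smul,
      add_zero]

end Cfsg.Agent.H876.D3
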